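import Cfsg.Agent.Lib.OctadInv.Elements
import Cfsg.Agent.Lib.LargeExtra.Affine

/-!
The pointwise fixer of the sublattice is extraspecial of order 512.
-/

set_option autoImplicit false
set_option maxRecDepth 20000

namespace Cfsg.Agent.OctadInv.Fixer

open Cfsg Cfsg.Agent.Golay.Basic Cfsg.Agent.Golay.Design Cfsg.Agent.Golay.OctadStab
  Cfsg.Agent.Golay.Cert Cfsg.Agent.Leech.Basic Cfsg.Agent.Leech.Index Cfsg.Agent.LeechAut.Basic
  Cfsg.Agent.LeechAut.Cross Cfsg.Agent.LeechAut.Co1 Cfsg.Agent.OctadInv.Lattice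
  Cfsg.Agent.OctadInv.Elements Finset
open Cfsg.Agent.Golay.M24 (tabAt smul_mem_supports)
open scoped Pointwise

theorem Oc_code : Oᶜ ∈ codeSets := Cfsg.Agent.Leech.Basic.compl_mem O_code

theorem mask_Oc : mask Oᶜ = 4120552 := by rw [mask_compl, mask_O]; decide +kernel

/-- The central involution of the fixer. -/
def zK : Co0 := sign Oᶜ Oc_code

theorem zK_mem : zK ∈ K := by
  intro v hv
  refine Subtype.ext (funext fun p => ?_)
  rw [zK, sign_smul]
  by_cases hp : p ∈ O
  · simp [LeechAut.Basic.flip, hp]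
  · simp [LeechAut.Basic.flip, hp, mem_L.1 hv p hp]

theorem zK_eq : zK = negOne * eps := by
  rw [negOne, eps, sign_mul]
  exact sign_congr (by rw [← Finset.top_eq_univ, top_symmDiff]; rfl) _ _

theorem one_eq : mono (1, ⟨∅, empty_code⟩) = 1 :=
  ext' fun v => Subtype.ext (funext fun i => by
    rw [mono_apply, if_neg (Finset.notMem_empty _), one_smul]; rfl)

theorem tabs_ok : Data.fkTabs.all tabOK = true := by decide +kernel

theorem tab_ok {t : ℕ} (ht : t ∈ Data.fkTabs) : tabOK t = true := List.all_eq_true.1 tabs_ok t ht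

theorem tab_fix : ∀ t ∈ Data.fkTabs, ∀ k : Fin 8, tabAt t (ix (o k)) = ix (o k) := by decide +kernel

theorem tab_invol : ∀ t ∈ Data.fkTabs, ∀ i < 24, tabAt t (tabAt t i) = i := by decide +kernel

theorem tab_nodup : (Data.fkTabs.map fun t => tabAt t 3).Nodup := by decide +kernel

theorem tab_cover : ∀ p, p ∉ O → ∃ t ∈ Data.fkTabs, tabAt t 3 = ix p := by decide +kernel

theorem tabPerm_mem_FK {t : ℕ} (ht : t ∈ Data.fkTabs) : tabPerm t ∈ FK O := by
  refine mem_FK.2 ⟨tabPerm_mem (tab_ok ht), fun p hp => ix_injective ?_⟩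
  rw [isTab_tabPerm (tab_ok ht) p, ← o_idx p hp, tab_fix t ht]

theorem exists_tab {g : Equiv.Perm GolayPt} (hg : g ∈ FK O) : ∃ t ∈ Data.fkTabs, g = tabPerm t := by
  classical
  let f : Fin Data.fkTabs.length → FK O := fun i => ⟨tabPerm (Data.fkTabs.get i), tabPerm_mem_FK (List.get_mem _ i)⟩
  have hf : Function.Injective f := by
    intro a c h
    have hz : tabAt (Data.fkTabs.get a) 3 = tabAt (Data.fkTabs.get c) 3 := by
      have e := congrArg (fun x : FK O => ix ((x : Equiv.Perm GolayPt) (pt 3))) h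
      simp only [f] at e
      rwa [isTab_tabPerm (tab_ok (List.get_mem _ a)), isTab_tabPerm (tab_ok (List.get_mem _ c)),
        ix_pt (by norm_num)] at e
    have := tab_nodup
    rw [List.nodup_iff_injective_get] at this
    have h2 := this (a₁ := ⟨a.1, by rw [List.length_map]; exact a.2⟩) (a₂ := ⟨c.1, by rw [List.length_map]; exact c.2⟩)
      (by simpa using hz)
    exact Fin.ext (congrArg (fun i : Fin _ => i.1) h2)
  have hsurj : Function.Surjective f := by
    have : Fintype (FK O) := Fintype.ofFinite _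
    refine ((Fintype.bijective_iff_injective_and_card f).2 ⟨hf, ?_⟩).2
    rw [← Nat.card_eq_fintype_card (α := FK O), card_FK O_octad, Fintype.card_fin]
    decide +kernel
  obtain ⟨i, hi⟩ := hsurj ⟨g, hg⟩
  exact ⟨_, List.get_mem _ i, (congrArg Subtype.val hi).symm⟩

theorem move_check : codeList.all (fun m => !(m &&& 12656663 == 0) ||
    Data.fkTabs.all fun t => imgTab t m ^^^ m == 0 || imgTab t m ^^^ m == 4120552) = true := by
  decide +kernel

theorem translate {g : Equiv.Perm GolayPt} (hg : g ∈ FK O) {c : Finset GolayPt} (hc : c ∈ codeSets)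
    (hd : Disjoint c O) : symmDiff (g • c) c = ∅ ∨ symmDiff (g • c) c = Oᶜ := by
  obtain ⟨t, ht, rfl⟩ := exists_tab hg
  have h := forall_code move_check (mem_supports_iff.1 hc)
  have hdis := disjoint_iff_mask.1 hd
  rw [mask_O] at hdis
  simp only [hdis, beq_self_eq_true, Bool.not_true, Bool.false_or, List.all_eq_true, Bool.or_eq_true,
    beq_iff_eq] at h
  have h' := h t ht
  rw [imgTab_mask (isTab_tabPerm (tab_ok ht)), ← mask_symmDiff] at h'
  exact h'.imp (fun e => mask_injective (by rw [e, mask_empty]))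
    (fun e => mask_injective (by rw [e, mask_Oc]))

theorem sq_cases {x : Co0} (hx : x ∈ K) : x * x = 1 ∨ x * x = zK := by
  obtain ⟨p, ⟨h1, h2⟩, rfl⟩ := exists_mono_K hx
  obtain ⟨t, ht, hpt⟩ := exists_tab h1
  set π := (p.1 : Equiv.Perm GolayPt) with hπ
  have hinv : ∀ i, π (π i) = i := fun i => by
    rw [hpt]
    refine ix_injective ?_
    rw [isTab_tabPerm (tab_ok ht), isTab_tabPerm (tab_ok ht), tab_invol t ht _ (ix_lt i)]
  have hsymm : ∀ i, π.symm i = π i := fun i => (Equiv.symm_apply_eq _).2 (hinv i).symm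
  have hval : ∀ (v : leechLattice) i, (((mono p * mono p) • v : leechLattice) : Vec) i =
      if i ∈ symmDiff (π • p.2.1) p.2.1 then -(v : Vec) i else (v : Vec) i := by
    intro v i
    have hmem : i ∈ π • p.2.1 ↔ π i ∈ p.2.1 := by
      have := Cfsg.Agent.Golay.M24.mem_smul_iff π p.2.1 (π i)
      rwa [hinv] at this
    rw [mul_smul, mono_apply, mono_apply, ← hπ, hsymm, hsymm, hinv]
    simp only [Finset.mem_symmDiff, hmem]
    by_cases a : i ∈ p.2.1 <;> by_cases c : π i ∈ p.2.1 <;> simp [a, c]
  rcases translate h1 p.2.2 h2 with e | e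
  · left
    refine ext' fun v => Subtype.ext (funext fun i => ?_)
    rw [hval, e, if_neg (Finset.notMem_empty _), one_smul]
  · right
    refine ext' fun v => Subtype.ext (funext fun i => ?_)
    rw [hval, e, zK, sign_smul]; rfl

theorem sep_check : ∀ t ∈ Data.fkTabs, tabAt t 3 = 3 ∨ codeList.any (fun m =>
    m &&& 12656663 == 0 && m.testBit 3 != m.testBit (tabAt t 3)) = true := by decide +kernel

theorem center_cases {x : Co0} (hx : x ∈ K) (hc : ∀ y ∈ K, y * x = x * y) : x = 1 ∨ x = zK := by
  obtain ⟨p, ⟨h1, h2⟩, rfl⟩ := exists_mono_K hx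
  -- commuting with the sign changes
  have key : ∀ (q : M24 × codeSets), mono q ∈ K → ∀ v i,
      ((mono q • (mono p • v) : leechLattice) : Vec) i = ((mono p • (mono q • v) : leechLattice) : Vec) i := by
    intro q hq v i
    rw [← mul_smul, ← mul_smul, hc _ hq]
  have hone : (p.1 : Equiv.Perm GolayPt) = 1 := by
    obtain ⟨t, ht, hpt⟩ := exists_tab h1
    rcases sep_check t ht with h3 | h3
    · refine fix_eq_one O_octad (p := pt 3) (by decide +kernel) h1 (ix_injective ?_)
      rw [hpt, isTab_tabPerm (tab_ok ht), ix_pt (by norm_num), h3]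
    · exfalso
      simp only [List.any_eq_true, Bool.and_eq_true, beq_iff_eq, bne_iff_ne] at h3
      obtain ⟨m, hm, hmO, hne⟩ := h3
      have hcode := isCode_of_mem_codeList hm
      have hlt : m < 2 ^ 24 := by
        have := forall_code (P := fun x => decide (x < 2 ^ 24)) (by decide +kernel) hcode
        simpa using this
      have hmem : maskSet m ∈ codeSets := mem_supports_iff.2 (by rw [mask_maskSet hlt]; exact hcode)
      have hd : Disjoint (maskSet m) O := disjoint_iff_mask.2 (by rw [mask_maskSet hlt, mask_O, hmO])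
      have hq : mono (1, ⟨maskSet m, hmem⟩) ∈ K :=
        mono_mem_K.2 ⟨(FK O).one_mem, hd⟩
      have e := key _ hq (frame (pt 3)) ((p.1 : Equiv.Perm GolayPt) (pt 3))
      simp only [mono_apply, OneMemClass.coe_one, Equiv.symm_apply_apply] at e
      have hone' : ∀ i, (1 : Equiv.Perm GolayPt).symm i = i := fun i => rfl
      simp only [hone', Equiv.symm_apply_apply, frame_on, mem_maskSet] at e
      rw [hpt, isTab_tabPerm (tab_ok ht), ix_pt (show 3 < 24 by norm_num)] at e
      rcases Bool.eq_false_or_eq_true (m.testBit 3) with a | a <;>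
        rcases Bool.eq_false_or_eq_true (m.testBit (tabAt t 3)) with c | c <;>
        simp_all <;> (split_ifs at e <;> omega)
  -- commuting with the translations
  have hconst : ∀ i, i ∉ O → (pt 3 ∈ p.2.1 ↔ i ∈ p.2.1) := by
    intro i hi
    obtain ⟨t, ht, hti⟩ := tab_cover i hi
    have hq : mono (⟨tabPerm t, tabPerm_mem (tab_ok ht)⟩, ⟨∅, empty_code⟩) ∈ K :=
      mono_mem_K.2 ⟨tabPerm_mem_FK ht, Finset.disjoint_empty_left _⟩
    have e := key _ hq (frame (pt 3)) i
    have hti' : tabPerm t (pt 3) = i := ix_injective (by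
      rw [isTab_tabPerm (tab_ok ht), ix_pt (by norm_num), hti])
    have hs : (tabPerm t).symm i = pt 3 := (Equiv.symm_apply_eq _).2 hti'.symm
    have hone' : ∀ i, (1 : Equiv.Perm GolayPt).symm i = i := fun i => rfl
    simp only [mono_apply, hone, hone', Finset.notMem_empty, if_false, hs, frame_on] at e
    by_cases a : pt 3 ∈ p.2.1 <;> by_cases c : i ∈ p.2.1 <;> simp_all
  have hset : p.2.1 = ∅ ∨ p.2.1 = Oᶜ := by
    by_cases a : pt 3 ∈ p.2.1
    · refine Or.inr (Finset.ext fun i => ⟨fun hi => Finset.mem_compl.2 (Finset.disjoint_left.1 h2 hi),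
        fun hi => (hconst i (Finset.mem_compl.1 hi)).1 a⟩)
    · refine Or.inl (Finset.eq_empty_of_forall_notMem fun i hi => ?_)
      exact a ((hconst i (Finset.disjoint_left.1 h2 hi)).2 hi)
  have hone' : ∀ i, (1 : Equiv.Perm GolayPt).symm i = i := fun i => rfl
  rcases hset with e | e
  · left
    refine ext' fun v => Subtype.ext (funext fun i => ?_)
    rw [mono_apply, hone, e, if_neg (Finset.notMem_empty _), one_smul, hone']
  · right
    refine ext' fun v => Subtype.ext (funext fun i => ?_)
    rw [mono_apply, hone, e, hone', zK, sign_smul]; rfl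

theorem zK_ne_one : zK ≠ 1 := by
  intro h
  have h3 : pt 3 ∉ O := by decide +kernel
  have e := congrArg (fun g : Co0 => ((g • frame (pt 3) : leechLattice) : Vec) (pt 3)) h
  simp only [zK, sign_smul, LeechAut.Basic.flip, one_smul, Finset.mem_compl, h3, not_false_eq_true,
    if_true, frame_on] at e
  omega

theorem zK_central : ∀ x ∈ K, x * zK = zK * x := by
  intro x hx
  rw [zK_eq, ← mul_assoc, negOne_comm, mul_assoc, mul_assoc, (mem_H_iff.1 (K_le_H hx))]

/-- The fixer is extraspecial. -/
theorem isExtraspecial_K : Cfsg.IsExtraspecial 2 ↥K := by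
  have : Finite Co0 := finite_Co0
  refine Cfsg.Agent.LargeExtra.Affine.isExtraspecial_mk
    (IsPGroup.of_card (n := 9) (by rw [card_K]; norm_num)) zK_mem zK_ne_one zK_central
    (fun x hx => sq_cases hx) (fun x hx hc => center_cases hx hc) ?_
  by_contra h
  push Not at h
  have hle : ∀ x : K, (x : Co0) = 1 ∨ (x : Co0) = zK := fun x =>
    center_cases x.2 fun y hy => h _ x.2 y hy
  classical
  have h2 : Nat.card K ≤ Nat.card Bool := by
    refine Nat.card_le_card_of_injective (fun x : K => decide ((x : Co0) = 1)) fun a c e => ?_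
    have e' : (a : Co0) = 1 ↔ (c : Co0) = 1 := decide_eq_decide.1 e
    rcases hle a with ha | ha <;> rcases hle c with hc | hc <;>
      exact Subtype.ext (by grind)
  rw [card_K, Nat.card_eq_fintype_card (α := Bool), Fintype.card_bool] at h2
  omega

end Cfsg.Agent.OctadInv.Fixer
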