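import Cfsg.Agent.Lib.OctadInv.Image
import Cfsg.Agent.Lib.OctadInv.Fixer
import Cfsg.Agent.Lib.LeechAut.Conway23
import Cfsg.Agent.Lib.LargeExtra.Centralizer
import Cfsg.Agent.Lib.CharP.Sylow
import Cfsg.Agent.S0245
import Cfsg.Agent.S0246
import Cfsg.Agent.S0270
import Cfsg.Prelude.Def_Spor_Conway

/-!
The centraliser of an involution in the second Conway group: the fixer of the sublattice on an
octad, extended by the symplectic group of degree six.
-/

set_option autoImplicit false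
set_option maxRecDepth 20000

namespace Cfsg.Agent.OctadInv.Co2Cent

open Cfsg Cfsg.Agent.Golay.Basic Cfsg.Agent.Leech.Basic Cfsg.Agent.LeechAut.Basic Cfsg.Agent.LeechAut.Gens
  Cfsg.Agent.LeechAut.Cross Cfsg.Agent.OctadInv.Lattice Cfsg.Agent.OctadInv.Local
  Cfsg.Agent.OctadInv.Hom Cfsg.Agent.OctadInv.Elements Cfsg.Agent.OctadInv.Kernel
  Cfsg.Agent.OctadInv.Image Cfsg.Agent.OctadInv.Fixer
open scoped Matrix

/-! ### The vector -/

/-- The root, on the octad. -/
def vR : Fin 8 → ℤ := ![4, -4, 0, 0, 0, 0, 0, 0]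

theorem vR_mem : inLat (emb vR) = true := by decide +kernel

/-- The vector. -/
def v : leechLattice := ⟨emb vR, mem_of_inLat vR_mem⟩

theorem v_mem : v ∈ L := fun _ hp => if_neg hp

theorem r_v : r v = vR := funext fun j => by simp [r, v, emb, o_mem, idx_o]

theorem sqNorm_v : sqNorm ((v : leechLattice) : GolayPt → ℤ) = 32 := by
  rw [sqNorm_L v_mem, r_v]
  decide

/-- A reduced vector from its mask. -/
def dec8 (m : ℕ) : X := fun i => if m.testBit (pos8 i).1 then 1 else 0

/-- The reduction of the vector. -/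
def x : X := dec8 38

theorem phi_v : phi v = x := by rw [phi_eq, r_v]; decide +kernel

/-! ### The six-dimensional section -/

/-- The polar form. -/
def pol (u w : X) : ZMod 2 := (u ∘ Sum.swap) ⬝ᵥ w

theorem pol_q : ∀ u w : X, quadFormPlus 4 (ZMod 2) (u + w) =
    quadFormPlus 4 (ZMod 2) u + quadFormPlus 4 (ZMod 2) w + pol u w := by
  intro u w
  simp only [quadFormPlus, pol, dotProduct, Fintype.sum_sum_type, Function.comp_apply, Sum.swap_inl,
    Sum.swap_inr, Pi.add_apply, Fin.sum_univ_four]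
  ring

theorem pol_add (u w w' : X) : pol u (w + w') = pol u w + pol u w' := dotProduct_add _ _ _

theorem pol_smul (u : X) (c : ZMod 2) (w : X) : pol u (c • w) = c * pol u w := dotProduct_smul _ _ _

theorem pol_comm (u w : X) : pol u w = pol w u := by
  simp only [pol, dotProduct, Fintype.sum_sum_type, Function.comp_apply, Sum.swap_inl,
    Sum.swap_inr, Fin.sum_univ_four]
  ring

theorem pol_sum {ι : Type*} [Fintype ι] (u : X) (c : ι → ZMod 2) (f : ι → X) :
    pol u (∑ k, c k • f k) = ∑ k, c k * pol u (f k) := by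
  simp only [pol, dotProduct_sum, dotProduct_smul, smul_eq_mul]

/-- A symplectic basis modulo the vector. -/
def e : Fin 3 ⊕ Fin 3 → X := Sum.elim ![dec8 1, dec8 4, dec8 8] ![dec8 16, dec8 66, dec8 128]

theorem pol_x_e : ∀ i, pol x (e i) = 0 := by decide +kernel

theorem pol_e : ∀ i j, pol (e i) (e j) = if i.swap = j then 1 else 0 := by decide +kernel

theorem q_x : quadFormPlus 4 (ZMod 2) x = 1 := by decide +kernel

theorem pol_x_x : pol x x = 0 := by decide +kernel

/-- Coordinates modulo the vector. -/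
def cf (y : X) (k : Fin 3 ⊕ Fin 3) : ZMod 2 := pol (e k.swap) y

theorem expand_x : ∀ y : X, pol x y = 0 →
    ∃ c : ZMod 2, y = (∑ k, cf y k • e k) + c • x := by decide +kernel

theorem perp_cases : ∀ z : X, (∀ k, pol z (e k) = 0) → pol z x = 0 → z = 0 ∨ z = x := by decide +kernel

/-- A vector not orthogonal to the reduced vector. -/
def y0 : X := dec8 2

theorem pol_x_y0 : pol x y0 = 1 := by decide +kernel

theorem tMat_eq : ∀ w : X, tMat *ᵥ w = w + pol x w • x := by decide +kernel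

/-- The stabiliser of the reduced vector. -/
def S0 : Subgroup O8 where
  carrier := {A | mat A *ᵥ x = x}
  one_mem' := Matrix.one_mulVec x
  mul_mem' := fun {a c} (ha : mat a *ᵥ x = x) (hc : mat c *ᵥ x = x) => by
    show mat (a * c) *ᵥ x = x
    rw [mat_mul, ← Matrix.mulVec_mulVec, hc, ha]
  inv_mem' := fun {a} (ha : mat a *ᵥ x = x) => by
    show mat a⁻¹ *ᵥ x = x
    conv_lhs => rw [← ha]
    rw [Matrix.mulVec_mulVec, ← mat_mul, inv_mul_cancel]
    exact Matrix.one_mulVec x

theorem mem_S0 {A : O8} : A ∈ S0 ↔ mat A *ᵥ x = x := Iff.rfl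

theorem q_mat (A : O8) (u : X) : quadFormPlus 4 (ZMod 2) (mat A *ᵥ u) = quadFormPlus 4 (ZMod 2) u :=
  A.2 u u

theorem pol_mat (A : O8) (u w : X) : pol (mat A *ᵥ u) (mat A *ᵥ w) = pol u w := by
  have h := pol_q (mat A *ᵥ u) (mat A *ᵥ w)
  rw [← Matrix.mulVec_add, q_mat, q_mat, q_mat, pol_q] at h
  exact (add_left_cancel h).symm

theorem pol_x_mat {A : O8} (hA : A ∈ S0) (u : X) : pol x (mat A *ᵥ u) = pol x u := by
  conv_lhs => rw [← mem_S0.1 hA]
  exact pol_mat A x u

/-- The matrix of the action on the section. -/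
def sec (A : O8) : Matrix (Fin 3 ⊕ Fin 3) (Fin 3 ⊕ Fin 3) (ZMod 2) :=
  Matrix.of fun i j => cf (mat A *ᵥ e j) i

theorem cf_mat {A : O8} (hA : A ∈ S0) {y : X} (hy : pol x y = 0) (i : Fin 3 ⊕ Fin 3) :
    cf (mat A *ᵥ y) i = ∑ k, sec A i k * cf y k := by
  obtain ⟨c, hc⟩ := expand_x y hy
  conv_lhs => rw [hc]
  simp only [cf, Matrix.mulVec_add, Matrix.mulVec_sum, Matrix.mulVec_smul, mem_S0.1 hA, pol_add,
    pol_smul, pol_comm (e i.swap) x, pol_x_e, mul_zero, add_zero, pol_sum, sec, Matrix.of_apply]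
  exact Finset.sum_congr rfl fun k _ => mul_comm _ _

theorem sec_mul {A B : O8} (hA : A ∈ S0) (hB : B ∈ S0) : sec (A * B) = sec A * sec B := by
  ext i j
  show cf (mat (A * B) *ᵥ e j) i = _
  rw [mat_mul, ← Matrix.mulVec_mulVec, cf_mat hA ((pol_x_mat hB _).trans (pol_x_e j)), Matrix.mul_apply]
  rfl

theorem sec_one : sec 1 = 1 := by
  ext i j
  show cf ((1 : Matrix _ _ (ZMod 2)) *ᵥ e j) i = _
  rw [Matrix.one_mulVec, cf, pol_e, Sum.swap_swap, Matrix.one_apply]

theorem J_apply : ∀ k l : Fin 3 ⊕ Fin 3,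
    Matrix.J (Fin 3) (ZMod 2) k l = if k.swap = l then 1 else 0 := by
  rintro (k | k) (l | l) <;> simp [Matrix.J, Matrix.one_apply, CharTwo.neg_eq]

theorem sec_mem {A : O8} (hA : A ∈ S0) : sec A ∈ Matrix.symplecticGroup (Fin 3) (ZMod 2) := by
  rw [SymplecticGroup.mem_iff']
  ext i j
  obtain ⟨c, hc⟩ := expand_x _ ((pol_x_mat hA _).trans (pol_x_e i))
  have h := pol_mat A (e i) (e j)
  rw [pol_comm, hc, pol_add, pol_sum, pol_smul, pol_comm _ x, (pol_x_mat hA _).trans (pol_x_e j),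
    mul_zero, add_zero, pol_e, ← J_apply] at h
  rw [← h, Matrix.mul_apply]
  simp only [Matrix.mul_apply, J_apply, Matrix.transpose_apply, mul_ite, mul_one, mul_zero, sec,
    Matrix.of_apply, cf]
  refine (Fintype.sum_equiv (Equiv.sumComm _ _) _ _ fun k => ?_).symm
  rw [Finset.sum_eq_single k]
  · simp [pol_comm]
  · intro b _ hb
    rw [if_neg]
    intro hbk
    exact hb (by rw [← Sum.swap_swap b, hbk]; simp)
  · simp

/-- The representation on the section. -/
noncomputable def secHom : S0 →* Matrix.symplecticGroup (Fin 3) (ZMod 2) where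
  toFun A := ⟨sec A.1, sec_mem A.2⟩
  map_one' := Subtype.ext sec_one
  map_mul' A B := Subtype.ext (sec_mul A.2 B.2)

theorem sec_eq_one {A : O8} (hA : A ∈ S0) (h : sec A = 1) : A = 1 ∨ A = tIso := by
  have hfix : ∀ k, mat A *ᵥ e k = e k := by
    intro k
    obtain ⟨c, hc⟩ := expand_x _ ((pol_x_mat hA _).trans (pol_x_e k))
    have hcf : ∀ l, cf (mat A *ᵥ e k) l = if l = k then 1 else 0 := fun l => by
      have e1 := congrFun (congrFun h l) k
      rwa [Matrix.one_apply] at e1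
    simp only [hcf, ite_smul, one_smul, zero_smul, Finset.sum_ite_eq', Finset.mem_univ, if_true] at hc
    have hq := q_mat A (e k)
    rw [hc, pol_q, pol_smul, pol_comm, pol_x_e, mul_zero, add_zero, add_eq_left] at hq
    rcases (by decide : ∀ c : ZMod 2, c = 0 ∨ c = 1) c with rfl | rfl
    · rwa [zero_smul, add_zero] at hc
    · rw [one_smul, q_x] at hq
      exact absurd hq one_ne_zero
  set z := mat A *ᵥ y0 + y0 with hz
  have hz1 : ∀ k, pol z (e k) = 0 := fun k => by
    have h1 := pol_mat A y0 (e k)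
    rw [hfix, pol_comm] at h1
    rw [hz, pol_comm, pol_add, h1, pol_comm (e k) y0]
    exact CharTwo.add_self_eq_zero _
  have hz2 : pol z x = 0 := by
    rw [hz, pol_comm, pol_add, pol_x_mat hA]
    exact CharTwo.add_self_eq_zero _
  have hAy : mat A *ᵥ y0 = y0 + z := by
    rw [hz, add_comm (mat A *ᵥ y0) y0, ← add_assoc]
    funext i
    simp [CharTwo.add_self_eq_zero]
  have key : ∀ w, mat A *ᵥ w = w + pol x w • z := by
    intro w
    have hw : pol x (w + pol x w • y0) = 0 := by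
      rw [pol_add, pol_smul, pol_x_y0, mul_one]
      exact CharTwo.add_self_eq_zero _
    obtain ⟨c, hc⟩ := expand_x _ hw
    have h1 : mat A *ᵥ (w + pol x w • y0) = w + pol x w • y0 := by
      conv_lhs => rw [hc]
      conv_rhs => rw [hc]
      simp only [Matrix.mulVec_add, Matrix.mulVec_sum, Matrix.mulVec_smul, hfix, mem_S0.1 hA]
    rw [Matrix.mulVec_add, Matrix.mulVec_smul, hAy, smul_add] at h1
    funext i
    have h2 := congrFun h1 i
    simp only [Pi.add_apply, Pi.smul_apply, smul_eq_mul] at h2 ⊢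
    linear_combination h2 - CharTwo.add_self_eq_zero (pol x w * z i)
  rcases perp_cases z hz1 hz2 with e0 | e0
  · left
    refine Subtype.ext (Units.ext (Matrix.ext_iff_mulVec.2 fun w => ?_))
    show mat A *ᵥ w = (1 : Matrix _ _ (ZMod 2)) *ᵥ w
    rw [Matrix.one_mulVec, key, e0, smul_zero, add_zero]
  · right
    refine Subtype.ext (Units.ext (Matrix.ext_iff_mulVec.2 fun w => ?_))
    show mat A *ᵥ w = tMat *ᵥ w
    rw [key, tMat_eq, e0]

theorem card_nonsingular : Nat.card {w : X // quadFormPlus 4 (ZMod 2) w = 1} = 120 := by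
  rw [Nat.card_eq_fintype_card]
  decide +kernel

/-- The image. -/
noncomputable abbrev RS : Subgroup O8 := psi.range ⊓ S0

/-- The representation of the image on the section. -/
noncomputable def rsHom : RS →* Matrix.symplecticGroup (Fin 3) (ZMod 2) :=
  secHom.comp (Subgroup.inclusion inf_le_right)

theorem rsHom_injective : Function.Injective rsHom := by
  rw [injective_iff_map_eq_one]
  intro A hA
  rcases sec_eq_one A.2.2 (congrArg Subtype.val hA) with h | h
  · exact Subtype.ext h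
  · exact absurd (h ▸ A.2.1) tIso_notMem

theorem card_sp : Nat.card (Matrix.symplecticGroup (Fin 3) (ZMod 2)) = 1451520 := by
  rw [Cfsg.Agent.S0245.result (ZMod.card 2) 3]
  rfl

theorem card_RS_ge : 1451520 ≤ Nat.card RS := by
  classical
  let P : X → Prop := fun w => ∃ A ∈ psi.range, mat A *ᵥ x = w
  have hrep : ∀ w, ∃ A ∈ psi.range, P w → mat A *ᵥ x = w := fun w => by
    by_cases h : P w
    · obtain ⟨A, h1, h2⟩ := h; exact ⟨A, h1, fun _ => h2⟩
    · exact ⟨1, one_mem _, fun h' => absurd h' h⟩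
  choose R hR hRw using hrep
  let f : psi.range → {w : X // quadFormPlus 4 (ZMod 2) w = 1} × RS := fun A =>
    (⟨mat A.1 *ᵥ x, (q_mat _ _).trans q_x⟩, ⟨(R (mat A.1 *ᵥ x))⁻¹ * A.1,
      Subgroup.mul_mem _ (Subgroup.inv_mem _ (hR _)) A.2, by
        show mat ((R (mat A.1 *ᵥ x))⁻¹ * A.1) *ᵥ x = x
        rw [mat_mul, ← Matrix.mulVec_mulVec]
        conv_lhs => enter [2]; rw [← hRw _ ⟨A.1, A.2, rfl⟩]
        rw [Matrix.mulVec_mulVec, ← mat_mul, inv_mul_cancel]
        exact Matrix.one_mulVec x⟩)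
  have hf : Function.Injective f := by
    intro A B h
    have h1 : mat A.1 *ᵥ x = mat B.1 *ᵥ x := congrArg Subtype.val (Prod.ext_iff.1 h).1
    have h2 := congrArg Subtype.val (Prod.ext_iff.1 h).2
    simp only [f, h1] at h2
    exact Subtype.ext (mul_left_cancel h2)
  have h := Nat.card_le_card_of_injective f hf
  rw [Nat.card_prod, card_nonsingular] at h
  have := card_range_ge
  omega

theorem rsHom_surjective : Function.Surjective rsHom := by
  have h := (Function.Injective.bijective_of_nat_card_le rsHom_injective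
    (by rw [card_sp]; exact card_RS_ge))
  exact h.2

/-! ### The centraliser -/

/-- The stabiliser of the vector. -/
abbrev G2 : Subgroup Co0 := MulAction.stabilizer Co0 v

theorem zK_fix : zK ∈ G2 := zK_mem v v_mem

/-- The involution. -/
def t : G2 := ⟨zK, zK_fix⟩

theorem orderOf_t : orderOf t = 2 := by
  refine orderOf_eq_prime (p := 2) ?_ fun h => zK_ne_one (congrArg Subtype.val h)
  refine Subtype.ext ?_
  show zK ^ 2 = 1
  rw [pow_two, zK, Cfsg.Agent.LeechAut.Co1.sign_mul]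
  refine ext' fun u => Subtype.ext (funext fun i => ?_)
  rw [sign_smul, one_smul]
  simp [LeechAut.Basic.flip, symmDiff_self]

/-- The centraliser. -/
abbrev C : Subgroup G2 := Subgroup.centralizer ({t} : Set G2)

theorem mem_C {g : G2} : g ∈ C ↔ (g : Co0) ∈ H := by
  rw [Subgroup.mem_centralizer_singleton_iff, mem_H_iff, Subtype.ext_iff]
  show (g : Co0) * zK = zK * (g : Co0) ↔ _
  rw [zK_eq, ← mul_assoc, negOne_comm, mul_assoc, mul_assoc, mul_right_inj]

/-- The embedding in the centraliser in `Co0`. -/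
noncomputable def toH : C →* H where
  toFun g := ⟨((g : G2) : Co0), mem_C.1 g.2⟩
  map_one' := rfl
  map_mul' _ _ := rfl

theorem psi_toH_mem (g : C) : psi (toH g) ∈ RS := by
  refine ⟨⟨_, rfl⟩, ?_⟩
  show mat (psi (toH g)) *ᵥ x = x
  rw [mat_psi]
  show act2 ((g : G2) : Co0) x = x
  rw [← phi_v, act2_phi (mem_C.1 g.2) v_mem]
  exact congrArg phi (MulAction.mem_stabilizer_iff.1 (g : G2).2)

/-- The representation of the centraliser. -/
noncomputable def rep : C →* Matrix.symplecticGroup (Fin 3) (ZMod 2) :=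
  rsHom.comp ((psi.comp toH).codRestrict RS psi_toH_mem)

theorem rep_surjective : Function.Surjective rep := by
  refine rsHom_surjective.comp ?_
  rintro ⟨A, ⟨g, rfl⟩, hA⟩
  have h : phi ((g : Co0) • v) = phi v := by
    have hA' : mat (psi g) *ᵥ x = x := hA
    rw [mat_psi, ← phi_v, act2_phi g.2 v_mem] at hA'
    exact hA'
  have hn : ∀ u ∈ L, sqNorm ((u : leechLattice) : GolayPt → ℤ) = 32 → ∑ k, r u k ^ 2 = 32 :=
    fun u hu e => (sqNorm_L hu).symm.trans e
  rcases pm_of_congr ((g.2 v).2 v_mem) v_mem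
      (hn _ ((g.2 v).2 v_mem) (by rw [LeechAut.Basic.sqNorm_smul, sqNorm_v]))
      (hn _ v_mem sqNorm_v) h with e | e
  · exact ⟨⟨⟨(g : Co0), e⟩, mem_C.2 g.2⟩, Subtype.ext rfl⟩
  · refine ⟨⟨⟨negOne * (g : Co0), ?_⟩, mem_C.2 (H.mul_mem negOne_mem_H g.2)⟩, Subtype.ext ?_⟩
    · rw [MulAction.mem_stabilizer_iff, mul_smul, negOne_smul, e, neg_neg]
    · show psi ⟨negOne * (g : Co0), _⟩ = psi g
      rw [show (⟨negOne * (g : Co0), H.mul_mem negOne_mem_H g.2⟩ : H) = ⟨negOne, negOne_mem_H⟩ * g from rfl,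
        map_mul, (psi_eq_one_iff (g := ⟨negOne, negOne_mem_H⟩)).2 (Or.inr ?_), one_mul]
      show negOne * negOne ∈ K
      intro u _
      rw [mul_smul, negOne_smul, negOne_smul, neg_neg]

theorem K_mem_C {k : Co0} (hk : k ∈ K) : ∃ c : C, ((c : G2) : Co0) = k :=
  ⟨⟨⟨k, hk v v_mem⟩, mem_C.2 (K_le_H hk)⟩, rfl⟩

/-- The fixer is the kernel. -/
noncomputable def kerEquiv : K ≃* rep.ker := by
  refine MulEquiv.ofBijective
    (MonoidHom.mk' (fun k => (⟨⟨⟨k.1, k.2 v v_mem⟩, mem_C.2 (K_le_H k.2)⟩, ?_⟩ : rep.ker))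
      fun a b => rfl) ⟨?_, ?_⟩
  · rw [MonoidHom.mem_ker]
    refine map_eq_one_iff _ rsHom_injective |>.2 (Subtype.ext ?_)
    exact (psi_eq_one_iff (g := ⟨k.1, K_le_H k.2⟩)).2 (Or.inl k.2)
  · intro a b h
    exact Subtype.ext (congrArg (fun u : rep.ker => (((u : C) : G2) : Co0)) h)
  · rintro ⟨c, hc⟩
    have h1 : psi (toH c) = 1 :=
      congrArg Subtype.val ((map_eq_one_iff _ rsHom_injective).1 (MonoidHom.mem_ker.1 hc))
    rcases psi_eq_one_iff.1 h1 with h | h
    · exact ⟨⟨_, h⟩, rfl⟩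
    · exfalso
      have e := h v v_mem
      rw [mul_smul, negOne_smul] at e
      rw [show ((toH c : H) : Co0) • v = v from MulAction.mem_stabilizer_iff.1 (c : G2).2] at e
      have := congrFun (congrArg r e) 0
      rw [r_neg, r_v] at this
      exact absurd this (by decide)

theorem card_ker : Nat.card rep.ker = 2 ^ 9 := by
  rw [← Nat.card_congr kerEquiv.toEquiv, card_K]; norm_num

theorem center_sp : Subgroup.center (Matrix.symplecticGroup (Fin 3) (ZMod 2)) = ⊥ :=
  Subgroup.card_eq_one.1 (by rw [Cfsg.Agent.S0246.result (ZMod.card 2) 3 (by norm_num)]; rfl)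

theorem simple_sp : IsSimpleGroup (Matrix.symplecticGroup (Fin 3) (ZMod 2)) := by
  have h := Cfsg.Agent.S0270.result (F := ZMod 2) 3 (by norm_num) (by norm_num)
  have e : Cfsg.PSp 3 (ZMod 2) ≃* Matrix.symplecticGroup (Fin 3) (ZMod 2) :=
    (QuotientGroup.quotientMulEquivOfEq center_sp).trans QuotientGroup.quotientBot
  exact e.symm.isSimpleGroup

theorem pCore_eq : Cfsg.pCore 2 C = rep.ker := by
  have : Finite Co0 := finite_Co0
  have : Fact (Nat.Prime 2) := ⟨Nat.prime_two⟩
  refine le_antisymm ?_ (Cfsg.Agent.CharP.le_pCore inferInstance (IsPGroup.of_card card_ker))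
  have := simple_sp
  have hp := (Cfsg.Agent.CharP.isPGroup_pCore 2 C).map rep
  have hn : ((Cfsg.pCore 2 C).map rep).Normal := Subgroup.Normal.map inferInstance rep rep_surjective
  rcases hn.eq_bot_or_eq_top with h | h
  · rwa [← Subgroup.map_eq_bot_iff]
  · exfalso
    rw [h] at hp
    obtain ⟨n, hn⟩ := IsPGroup.iff_card.1 (hp.of_equiv Subgroup.topEquiv)
    rw [card_sp] at hn
    have : (3 : ℕ) ∣ 2 ^ n := ⟨483840, by omega⟩
    exact absurd (Nat.prime_three.dvd_of_dvd_pow this) (by norm_num)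

theorem main : ∃ t : G2, orderOf t = 2 ∧
    Cfsg.IsExtraspecial 2 (Cfsg.pCore 2 ↥(Subgroup.centralizer ({t} : Set G2))) ∧
    Nat.card (Cfsg.pCore 2 ↥(Subgroup.centralizer ({t} : Set G2))) = 2 ^ 9 ∧
    Nonempty (↥(Subgroup.centralizer ({t} : Set G2)) ⧸ Cfsg.pCore 2 ↥(Subgroup.centralizer ({t} : Set G2)) ≃*
      Matrix.symplecticGroup (Fin 3) (ZMod 2)) := by
  refine ⟨t, orderOf_t, ?_⟩
  refine ⟨Cfsg.Agent.LargeExtra.isExtraspecial_of_equiv isExtraspecial_K
      (kerEquiv.trans (MulEquiv.subgroupCongr pCore_eq.symm)), ?_, ⟨?_⟩⟩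
  · rw [← card_ker]; exact Nat.card_congr (MulEquiv.subgroupCongr pCore_eq).toEquiv
  exact (QuotientGroup.quotientMulEquivOfEq pCore_eq).trans
    (QuotientGroup.quotientKerEquivOfSurjective rep rep_surjective)

theorem nonempty_equiv : Nonempty (↥Cfsg.Spor.Co2 ≃* G2) := by
  obtain ⟨g, hg⟩ := Cfsg.Agent.LeechAut.Shells.transitive32 Cfsg.Spor.leechU v (by decide +kernel) sqNorm_v
  obtain ⟨E⟩ := Cfsg.Agent.LeechAut.Conway23.stab_equiv hg
  let E' : ↥Cfsg.Spor.Co2 ≃* MulAction.stabilizer Co0 Cfsg.Spor.leechU :=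
    { toFun := fun a => ⟨⟨a.1, a.2.1⟩, a.2.2⟩
      invFun := fun a => ⟨a.1.1, a.1.2, a.2⟩
      left_inv := fun _ => rfl
      right_inv := fun _ => rfl
      map_mul' := fun _ _ => rfl }
  exact ⟨E'.trans E⟩

end Cfsg.Agent.OctadInv.Co2Cent
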