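import Mathlib
import Cfsg.Prelude.Def_Classical

/-!
Lower and upper bounds for subgroups of isometry groups from orbits along a base.
-/

set_option autoImplicit false

namespace Cfsg.Agent.OctadInv.Orbits

open scoped Matrix

variable {ι : Type} [Fintype ι] [DecidableEq ι] {Q : (ι → ZMod 2) → ZMod 2}

/-- The action on vectors. -/
def act (A : Cfsg.isometryGroup (ZMod 2) Q) (v : ι → ZMod 2) : ι → ZMod 2 :=
  ((A : Matrix.GeneralLinearGroup ι (ZMod 2)) : Matrix ι ι (ZMod 2)) *ᵥ v

theorem act_one (v : ι → ZMod 2) : act (1 : Cfsg.isometryGroup (ZMod 2) Q) v = v := Matrix.one_mulVec v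

theorem act_mul (A B : Cfsg.isometryGroup (ZMod 2) Q) (v : ι → ZMod 2) :
    act (A * B) v = act A (act B v) := by
  show ((A : Matrix.GeneralLinearGroup ι (ZMod 2)).1 * (B : Matrix.GeneralLinearGroup ι (ZMod 2)).1) *ᵥ v = _
  rw [← Matrix.mulVec_mulVec]
  rfl

theorem act_inv_self (A : Cfsg.isometryGroup (ZMod 2) Q) (v : ι → ZMod 2) : act A⁻¹ (act A v) = v := by
  rw [← act_mul, inv_mul_cancel, act_one]

theorem act_add (A : Cfsg.isometryGroup (ZMod 2) Q) (v w : ι → ZMod 2) :
    act A (v + w) = act A v + act A w := Matrix.mulVec_add _ v w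

theorem ext_act {A B : Cfsg.isometryGroup (ZMod 2) Q} (h : ∀ v, act A v = act B v) : A = B :=
  Subtype.ext (Units.ext (Matrix.ext_iff_mulVec.2 h))

theorem act_form (A : Cfsg.isometryGroup (ZMod 2) Q) (v : ι → ZMod 2) : Q (act A v) = Q v := A.2 v v

/-- The fixer of a list of vectors. -/
def fixL (R : Subgroup (Cfsg.isometryGroup (ZMod 2) Q)) (l : List (ι → ZMod 2)) :
    Subgroup (Cfsg.isometryGroup (ZMod 2) Q) where
  carrier := {A | A ∈ R ∧ ∀ b ∈ l, act A b = b}
  one_mem' := ⟨R.one_mem, fun b _ => act_one b⟩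
  mul_mem' := fun {A B} hA hB => ⟨R.mul_mem hA.1 hB.1, fun b hb => by rw [act_mul, hB.2 b hb, hA.2 b hb]⟩
  inv_mem' := fun {A} hA => ⟨R.inv_mem hA.1, fun b hb => by
    conv_lhs => rw [← hA.2 b hb]
    exact act_inv_self A b⟩

theorem fixL_nil (R : Subgroup (Cfsg.isometryGroup (ZMod 2) Q)) : fixL R [] = R :=
  le_antisymm (fun _ h => h.1) fun _ h => ⟨h, by simp⟩

theorem finite_isometry : Finite (Cfsg.isometryGroup (ZMod 2) Q) := inferInstance

theorem step_ge (R : Subgroup (Cfsg.isometryGroup (ZMod 2) Q)) (l : List (ι → ZMod 2))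
    (b : ι → ZMod 2) (T : List (ι → ZMod 2)) (hn : T.Nodup)
    (h : ∀ t ∈ T, ∃ A ∈ fixL R l, act A b = t) :
    T.length * Nat.card (fixL R (b :: l)) ≤ Nat.card (fixL R l) := by
  choose A hA hAb using h
  let f : Fin T.length × fixL R (b :: l) → fixL R l := fun p =>
    ⟨A _ (T.get_mem p.1) * p.2.1,
      mul_mem (hA _ _) ⟨p.2.2.1, fun c hc => p.2.2.2 c (List.mem_cons_of_mem _ hc)⟩⟩
  have hf : Function.Injective f := by
    rintro ⟨i, s⟩ ⟨j, t⟩ e
    have e' : A _ (T.get_mem i) * s.1 = A _ (T.get_mem j) * t.1 := congrArg Subtype.val e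
    have e2 := congrArg (fun M => act M b) e'
    simp only [act_mul, s.2.2 b List.mem_cons_self, t.2.2 b List.mem_cons_self, hAb] at e2
    have hij : i = j := List.nodup_iff_injective_get.1 hn e2
    subst hij
    exact Prod.ext rfl (Subtype.ext (mul_left_cancel e'))
  have := Nat.card_le_card_of_injective f hf
  rwa [Nat.card_prod, Nat.card_eq_fintype_card (α := Fin T.length), Fintype.card_fin] at this

theorem step_le (R : Subgroup (Cfsg.isometryGroup (ZMod 2) Q)) (l : List (ι → ZMod 2))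
    (b : ι → ZMod 2) (T : List (ι → ZMod 2)) (h : ∀ A ∈ fixL R l, act A b ∈ T) :
    Nat.card (fixL R l) ≤ T.length * Nat.card (fixL R (b :: l)) := by
  classical
  have hidx : ∀ A : fixL R l, ∃ i : Fin T.length, T.get i = act A.1 b := fun A =>
    List.get_of_mem (h A.1 A.2)
  choose idx hidx using hidx
  let rep : Fin T.length → fixL R l := fun i =>
    if he : ∃ A : fixL R l, idx A = i then he.choose else 1
  have hrep : ∀ A : fixL R l, act (rep (idx A)).1 b = act A.1 b := fun A => by
    have he : ∃ B : fixL R l, idx B = idx A := ⟨A, rfl⟩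
    simp only [rep, dif_pos he]
    rw [← hidx, ← hidx A, he.choose_spec]
  let f : fixL R l → Fin T.length × fixL R (b :: l) := fun A => (idx A,
    ⟨(rep (idx A)).1⁻¹ * A.1, R.mul_mem (R.inv_mem (rep (idx A)).2.1) A.2.1, fun c hc => by
      rcases List.mem_cons.1 hc with rfl | hc
      · rw [act_mul, ← hrep A, act_inv_self]
      · rw [act_mul, A.2.2 c hc]
        conv_lhs => rw [← (rep (idx A)).2.2 c hc]
        exact act_inv_self _ c⟩)
  have hf : Function.Injective f := by
    intro A B e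
    have e1 : idx A = idx B := congrArg Prod.fst e
    have e2 : (rep (idx A)).1⁻¹ * A.1 = (rep (idx B)).1⁻¹ * B.1 :=
      congrArg (fun x : Fin T.length × fixL R (b :: l) => (x.2 : Cfsg.isometryGroup (ZMod 2) Q)) e
    rw [e1] at e2
    exact Subtype.ext (mul_left_cancel e2)
  have := Nat.card_le_card_of_injective f hf
  rwa [Nat.card_prod, Nat.card_eq_fintype_card (α := Fin T.length), Fintype.card_fin] at this

/-- The fixer of a spanning list is trivial. -/
theorem fixL_card_one (R : Subgroup (Cfsg.isometryGroup (ZMod 2) Q)) (l : List (ι → ZMod 2))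
    (h : ∀ A ∈ fixL R l, ∀ v, act A v = v) : Nat.card (fixL R l) ≤ 1 := by
  rw [Finite.card_le_one_iff_subsingleton]
  exact ⟨fun A B => Subtype.ext (ext_act fun v => by rw [h _ A.2, h _ B.2])⟩

end Cfsg.Agent.OctadInv.Orbits
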