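import Cfsg.Agent.Lib.OctadInv.Image
import Cfsg.Agent.Lib.OctadInv.Fixer
import Cfsg.Agent.Lib.LargeExtra.Centralizer
import Cfsg.Agent.Lib.CharP.CharP
import Cfsg.Agent.Lib.CharP.Sylow
import Cfsg.Prelude.Def_Spor_Conway

/-!
The centraliser in `Co1` of the image of the octad sign change.
-/

set_option autoImplicit false
set_option maxRecDepth 20000

namespace Cfsg.Agent.OctadInv.Centralizer

open Cfsg Cfsg.Agent.Golay.Basic Cfsg.Agent.Golay.Cert Cfsg.Agent.Leech.Basic Cfsg.Agent.Leech.Index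
  Cfsg.Agent.LeechAut.Basic Cfsg.Agent.LeechAut.Cross Cfsg.Agent.LeechAut.Co1
  Cfsg.Agent.OctadInv.Lattice Cfsg.Agent.OctadInv.Hom Cfsg.Agent.OctadInv.Elements
  Cfsg.Agent.OctadInv.Kernel Cfsg.Agent.OctadInv.Image Cfsg.Agent.OctadInv.Fixer Finset
open Cfsg.Agent.Golay.M24 (smul_mem_supports)
open scoped Pointwise commutatorElement

/-- The projection. -/
abbrev pr : Co0 →* Cfsg.Spor.Co1 := QuotientGroup.mk' (Subgroup.center Co0)

/-- The involution. -/
def z : Cfsg.Spor.Co1 := pr eps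

theorem pr_eq_one {g : Co0} : pr g = 1 ↔ g = 1 ∨ g = negOne := by
  rw [QuotientGroup.mk'_apply, QuotientGroup.eq_one_iff]
  exact ⟨center_eq g, by rintro (rfl | rfl); exacts [one_mem _, negOne_central]⟩

theorem pr_eq_iff {g h : Co0} : pr g = pr h ↔ g = h ∨ g = negOne * h := by
  rw [← mul_inv_eq_one, ← map_inv, ← map_mul, pr_eq_one]
  exact or_congr (mul_inv_eq_one) mul_inv_eq_iff_eq_mul

theorem eps_sq : eps * eps = 1 := by
  rw [eps]
  calc sign O O_code * sign O O_code = sign O O_code * (sign O O_code)⁻¹ := by rw [sign_inv]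
    _ = 1 := mul_inv_cancel _

theorem mask_univ' : mask (univ : Finset GolayPt) = 16777215 := by decide +kernel

theorem sign_ne {c : Finset GolayPt} (hc : c ∈ codeSets) {d : Finset GolayPt} (hd : d ∈ codeSets)
    (h : mask c ≠ mask d) : sign c hc ≠ sign d hd := by
  intro e
  apply h
  congr 1
  ext i
  have := congrArg (fun g : Co0 => ((g • frame i : leechLattice) : Vec) i) e
  simp only [sign_smul, LeechAut.Basic.flip, frame_on] at this
  by_cases a : i ∈ c <;> by_cases b : i ∈ d <;> simp_all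

theorem sign_empty : sign ∅ empty_code = 1 :=
  ext' fun v => Subtype.ext (funext fun i => by rw [sign_smul, one_smul]; simp [LeechAut.Basic.flip])

theorem orderOf_z : orderOf z = 2 := by
  refine orderOf_eq_prime (p := 2) ?_ ?_
  · rw [pow_two, z, ← map_mul, eps_sq, map_one]
  · rw [z, Ne, pr_eq_one]
    rintro (h | h)
    · rw [← sign_empty] at h
      exact sign_ne _ _ (by rw [mask_O, mask_empty]; norm_num) h
    · exact sign_ne _ _ (by rw [mask_O, mask_univ']; norm_num) h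

/-- The centraliser. -/
abbrev C : Subgroup Cfsg.Spor.Co1 := Subgroup.centralizer ({z} : Set Cfsg.Spor.Co1)

theorem pr_mem_C {g : Co0} (hg : g ∈ H) : pr g ∈ C := by
  rw [Subgroup.mem_centralizer_singleton_iff, z, ← map_mul, ← map_mul, mem_H_iff.1 hg]

/-- From the centraliser in `Co0`. -/
noncomputable def f : H →* C := (pr.comp H.subtype).codRestrict C fun g => pr_mem_C g.2

theorem f_surjective : Function.Surjective f := by
  rintro ⟨c, hc⟩
  obtain ⟨g, rfl⟩ := QuotientGroup.mk'_surjective _ c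
  rw [Subgroup.mem_centralizer_singleton_iff, z, ← map_mul, ← map_mul, pr_eq_iff] at hc
  rcases hc with h | h
  · exact ⟨⟨g, mem_H_iff.2 h⟩, rfl⟩
  · exact absurd (h.trans (mul_assoc _ _ _).symm) (not_anti g)

theorem f_ker_le : f.ker ≤ psi.ker := by
  intro g hg
  have h : pr (g : Co0) = 1 := congrArg Subtype.val hg
  rw [MonoidHom.mem_ker, psi_eq_one_iff]
  rcases pr_eq_one.1 h with e | e
  · exact Or.inl (e ▸ K.one_mem)
  · right
    rw [e, negOne, sign_mul]
    exact (sign_congr (symmDiff_self _) _ empty_code).symm ▸ (sign_empty ▸ K.one_mem)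

/-- The representation of the centraliser. -/
noncomputable def psiC : C →* O8 := f.liftOfSurjective f_surjective ⟨psi, f_ker_le⟩

theorem psiC_f (g : H) : psiC (f g) = psi g :=
  MonoidHom.liftOfRightInverse_comp_apply _ _ _ _ g

theorem psiC_range : psiC.range = Cfsg.Omega (ZMod 2) (Cfsg.quadFormPlus 4 (ZMod 2)) := by
  rw [← range_eq]
  ext A
  constructor
  · rintro ⟨c, rfl⟩
    obtain ⟨g, rfl⟩ := f_surjective c
    exact ⟨g, (psiC_f g).symm⟩
  · rintro ⟨g, rfl⟩
    exact ⟨f g, psiC_f g⟩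

/-- The normal 2-subgroup. -/
noncomputable abbrev Q : Subgroup C := psiC.ker

/-- The fixer maps isomorphically onto it. -/
noncomputable def toQ : K →* Q :=
  (f.comp (Subgroup.inclusion K_le_H)).codRestrict Q fun k => by
    rw [MonoidHom.mem_ker, MonoidHom.comp_apply, psiC_f, psi_eq_one_iff]
    exact Or.inl k.2

theorem negOne_notMem_K : negOne ∉ K := by
  intro h
  have := congrArg (fun v : leechLattice => (v : Vec) none) (h _ (frame_mem_L none_mem_O))
  simp only [negOne_smul, AddSubgroup.coe_neg, Pi.neg_apply, frame_on] at this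
  omega

theorem toQ_bijective : Function.Bijective toQ := by
  constructor
  · intro a b h
    have e : pr (a : Co0) = pr (b : Co0) :=
      congrArg (fun q : Q => ((q : C) : Cfsg.Spor.Co1)) h
    rcases pr_eq_iff.1 e with e | e
    · exact Subtype.ext e
    · exact absurd (by rw [show negOne = (a : Co0) * (b : Co0)⁻¹ by rw [e, mul_inv_cancel_right]]
                       exact K.mul_mem a.2 (K.inv_mem b.2)) negOne_notMem_K
  · rintro ⟨c, hc⟩
    obtain ⟨g, rfl⟩ := f_surjective c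
    rw [MonoidHom.mem_ker, psiC_f, psi_eq_one_iff] at hc
    rcases hc with h | h
    · exact ⟨⟨g, h⟩, rfl⟩
    · refine ⟨⟨negOne * g, h⟩, Subtype.ext (Subtype.ext ?_)⟩
      show pr (negOne * (g : Co0)) = pr (g : Co0)
      exact pr_eq_iff.2 (Or.inr rfl)

theorem isExtraspecial_Q : Cfsg.IsExtraspecial 2 ↥Q :=
  Cfsg.Agent.LargeExtra.isExtraspecial_of_equiv isExtraspecial_K (MulEquiv.ofBijective toQ toQ_bijective)

theorem card_Q : Nat.card Q = 2 ^ 9 := by
  rw [← Nat.card_congr (MulEquiv.ofBijective toQ toQ_bijective).toEquiv, card_K]; norm_num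

/-- An octad off the octad, moved by the three-cycle. -/
theorem wit_code : maskSet 3444840 ∈ codeSets :=
  mem_supports_iff.2 (by rw [mask_maskSet (by norm_num)]; decide +kernel)

theorem wit_K : sign (maskSet 3444840) wit_code ∈ K := by
  have hd : Disjoint (maskSet 3444840) O :=
    disjoint_iff_mask.2 (by rw [mask_maskSet (by norm_num), mask_O]; decide +kernel)
  intro v hv
  refine Subtype.ext (funext fun p => ?_)
  rw [sign_smul]
  by_cases hp : p ∈ maskSet 3444840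
  · simp [LeechAut.Basic.flip, hp, mem_L.1 hv p (Finset.disjoint_left.1 hd hp)]
  · simp [LeechAut.Basic.flip, hp]

theorem exists_moves : ∃ g ∈ H, ∃ k ∈ K, g * k * g⁻¹ ≠ k ∧ g * k * g⁻¹ ≠ k * zK ∧
    g * k * g⁻¹ ≠ negOne * k ∧ g * k * g⁻¹ ≠ negOne * (k * zK) := by
  let σ : M24 := ⟨tabPerm Data.tabA, tabPerm_mem tabA_ok⟩
  have hσO : (σ : Equiv.Perm GolayPt) • O = O := mask_injective (by
    show mask (tabPerm Data.tabA • O) = mask O
    rw [← imgTab_mask (isTab_tabPerm tabA_ok), mask_O]; decide +kernel)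
  refine ⟨permHom σ, ?_, _, wit_K, ?_⟩
  · rw [mem_H_iff, ← mul_inv_eq_iff_eq_mul, eps, conj_sign]
    exact sign_congr hσO _ _
  · have hm : mask ((σ : Equiv.Perm GolayPt) • maskSet 3444840) = 3539848 := by
      show mask (tabPerm Data.tabA • maskSet 3444840) = _
      rw [← imgTab_mask (isTab_tabPerm tabA_ok), mask_maskSet (by norm_num)]; decide +kernel
    have hw : mask (maskSet 3444840) = 3444840 := mask_maskSet (by norm_num)
    rw [conj_sign, zK, negOne]
    refine ⟨?_, ?_, ?_, ?_⟩ <;>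
      ((try simp only [LeechAut.Co1.sign_mul]); refine sign_ne _ _ ?_
       simp only [hm, mask_symmDiff, hw, mask_Oc, mask_univ']; decide +kernel)

theorem centralizer_Q_le : Subgroup.centralizer (Q : Set C) ≤ Q := by
  let S : Subgroup C := Subgroup.centralizer (Q : Set C)
  have hS : S.Normal := inferInstance
  let φ : C →* Cfsg.Omega (ZMod 2) (Cfsg.quadFormPlus 4 (ZMod 2)) :=
    psiC.codRestrict _ fun c => psiC_range ▸ ⟨c, rfl⟩
  have hsurj : Function.Surjective φ := fun A => by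
    obtain ⟨c, hc⟩ : (A : O8) ∈ psiC.range := by rw [psiC_range]; exact A.2
    exact ⟨c, Subtype.ext hc⟩
  have hsimple := omega_simple
  rcases (hS.map φ hsurj).eq_bot_or_eq_top with h | h
  · intro c hc
    have : φ c ∈ S.map φ := ⟨c, hc, rfl⟩
    rw [h, Subgroup.mem_bot] at this
    exact MonoidHom.mem_ker.2 (congrArg Subtype.val this)
  · exfalso
    obtain ⟨g, hg, k, hk, h1, h2, h3, h4⟩ := exists_moves
    obtain ⟨s, hs, hsg⟩ : φ (f ⟨g, hg⟩) ∈ S.map φ := by rw [h]; exact Subgroup.mem_top _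
    have hq : f ⟨g, hg⟩ * s⁻¹ ∈ Q := by
      rw [MonoidHom.mem_ker, map_mul, map_inv, ← show psiC s = psiC (f ⟨g, hg⟩) from congrArg Subtype.val hsg,
        mul_inv_cancel]
    obtain ⟨x, hx⟩ := toQ_bijective.2 ⟨_, hq⟩
    have hkQ := (toQ ⟨k, hk⟩).2
    have hcomm : s * (f ⟨k, K_le_H hk⟩) = f ⟨k, K_le_H hk⟩ * s :=
      ((Subgroup.mem_centralizer_iff.1 hs) _ hkQ).symm
    have hconj : f ⟨g, hg⟩ * f ⟨k, K_le_H hk⟩ * (f ⟨g, hg⟩)⁻¹ =
        f ⟨x.1, K_le_H x.2⟩ * f ⟨k, K_le_H hk⟩ * (f ⟨x.1, K_le_H x.2⟩)⁻¹ := by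
      have hx' : f ⟨x.1, K_le_H x.2⟩ = f ⟨g, hg⟩ * s⁻¹ := congrArg Subtype.val hx
      rw [hx']
      calc f ⟨g, hg⟩ * f ⟨k, K_le_H hk⟩ * (f ⟨g, hg⟩)⁻¹
          = f ⟨g, hg⟩ * s⁻¹ * (s * f ⟨k, K_le_H hk⟩) * (f ⟨g, hg⟩)⁻¹ := by group
        _ = f ⟨g, hg⟩ * s⁻¹ * (f ⟨k, K_le_H hk⟩ * s) * (f ⟨g, hg⟩)⁻¹ := by rw [hcomm]
        _ = _ := by group
    have e : pr (g * k * g⁻¹) = pr ((x : Co0) * k * (x : Co0)⁻¹) := by
      have := congrArg Subtype.val hconj
      simpa [f] using this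
    have hxk : (x : Co0) * k * (x : Co0)⁻¹ = k ∨ (x : Co0) * k * (x : Co0)⁻¹ = k * zK := by
      have ext := isExtraspecial_K
      have hcz : ∀ u : K, u ∈ Subgroup.center K → (u : Co0) = 1 ∨ (u : Co0) = zK := fun u hu =>
        center_cases u.2 fun y hy => congrArg Subtype.val (Subgroup.mem_center_iff.1 hu ⟨y, hy⟩)
      have hmem : (⟨k, hk⟩ : K)⁻¹ * (x * ⟨k, hk⟩ * x⁻¹) ∈ Subgroup.center K := by
        rw [← ext.1.2.2, show (⟨k, hk⟩ : K)⁻¹ * (x * ⟨k, hk⟩ * x⁻¹) = ⁅(⟨k, hk⟩ : K)⁻¹, x⁆ by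
          simp [commutatorElement_def, mul_assoc]]
        exact Subgroup.commutator_mem_commutator (Subgroup.mem_top _) (Subgroup.mem_top _)
      rcases hcz _ hmem with h | h
      · exact Or.inl (inv_mul_eq_one.1 h).symm
      · exact Or.inr (inv_mul_eq_iff_eq_mul.1 h)
    rcases pr_eq_iff.1 e with e | e <;> rcases hxk with e' | e' <;> rw [e'] at e
    exacts [h1 e, h2 e, h3 e, h4 e]

theorem pCore_eq : Cfsg.pCore 2 C = Q := by
  have : Finite Co0 := finite_Co0
  have hQp : IsPGroup 2 Q := IsPGroup.of_card card_Q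
  refine le_antisymm ?_ (Cfsg.Agent.CharP.le_pCore inferInstance hQp)
  have hsimple := omega_simple
  let φ : C →* Cfsg.Omega (ZMod 2) (Cfsg.quadFormPlus 4 (ZMod 2)) :=
    psiC.codRestrict _ fun c => psiC_range ▸ ⟨c, rfl⟩
  have hsurj : Function.Surjective φ := fun A => by
    obtain ⟨c, hc⟩ : (A : O8) ∈ psiC.range := by rw [psiC_range]; exact A.2
    exact ⟨c, Subtype.ext hc⟩
  have hp := (Cfsg.Agent.CharP.isPGroup_pCore 2 C).map φ
  have hn : ((Cfsg.pCore 2 C).map φ).Normal := Subgroup.Normal.map inferInstance φ hsurj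
  rcases hn.eq_bot_or_eq_top with h | h
  · intro c hc
    have : φ c ∈ (Cfsg.pCore 2 C).map φ := ⟨c, hc, rfl⟩
    rw [h, Subgroup.mem_bot] at this
    exact MonoidHom.mem_ker.2 (congrArg Subtype.val this)
  · exfalso
    rw [h] at hp
    have : Fact (Nat.Prime 2) := ⟨Nat.prime_two⟩
    obtain ⟨n, hn⟩ := IsPGroup.iff_card.1 (hp.of_equiv Subgroup.topEquiv)
    have h3 := Subgroup.card_mul_index (Cfsg.Omega (ZMod 2) (Cfsg.quadFormPlus 4 (ZMod 2)))
    rw [omega_index, card_O8, hn] at h3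
    have : (3 : ℕ) ∣ 2 ^ n := ⟨58060800, by omega⟩
    exact absurd (Nat.prime_three.dvd_of_dvd_pow this) (by norm_num)

theorem genFitting_eq : Cfsg.generalizedFittingSubgroup C = Q := by
  have : Finite Co0 := finite_Co0
  have : Fact (Nat.Prime 2) := ⟨Nat.prime_two⟩
  rw [← pCore_eq]
  exact Cfsg.Agent.CharP.genFitting_eq_pCore_iff.2 (by rw [pCore_eq]; exact centralizer_Q_le)

theorem fusion : ∃ g : Cfsg.Spor.Co1, (∃ hq : g * z * g⁻¹ ∈ C, (⟨g * z * g⁻¹, hq⟩ : C) ∈ Q) ∧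
    g * z * g⁻¹ ≠ z := by
  have hc' : maskSet 3444840 ∈ Cfsg.octads :=
    mem_octads_iff.2 ⟨by rw [mask_maskSet (by norm_num)]; decide +kernel,
      by rw [card_maskSet]; decide +kernel⟩
  obtain ⟨a, ha, hao⟩ := Cfsg.Agent.Golay.Trans.octads_transitive O_octad hc'
  refine ⟨pr (permHom ⟨a, ha⟩), ?_⟩
  have e : pr (permHom ⟨a, ha⟩) * z * (pr (permHom ⟨a, ha⟩))⁻¹ = pr (sign (maskSet 3444840) wit_code) := by
    rw [z, ← map_inv, ← map_mul, ← map_mul, eps, conj_sign]
    exact congrArg pr (sign_congr hao _ _)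
  rw [e]
  refine ⟨⟨pr_mem_C (K_le_H wit_K), ?_⟩, ?_⟩
  · exact (toQ ⟨_, wit_K⟩).2
  · rw [z, Ne, pr_eq_iff]
    rintro (h | h)
    · exact sign_ne _ _ (by rw [mask_maskSet (by norm_num), mask_O]; decide +kernel) h
    · rw [eps, negOne, sign_mul] at h
      exact sign_ne _ _ (by rw [mask_maskSet (by norm_num), mask_symmDiff, mask_univ', mask_O]; decide +kernel) h

end Cfsg.Agent.OctadInv.Centralizer
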