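import Cfsg.Agent.Lib.OctadInv.Elements

/-!
Words in permutations, sign changes and the sextet element, run on lists of coordinates.
-/

set_option autoImplicit false
set_option maxRecDepth 20000

namespace Cfsg.Agent.OctadInv.Words

open Cfsg Cfsg.Agent.Golay.Basic Cfsg.Agent.Golay.Cert Cfsg.Agent.Leech.Basic Cfsg.Agent.Leech.Index
  Cfsg.Agent.LeechAut.Basic Cfsg.Agent.LeechAut.Cross Cfsg.Agent.LeechAut.Gens Cfsg.Agent.LeechAut.Xi
  Cfsg.Agent.OctadInv.Lattice Cfsg.Agent.OctadInv.Elements Finset
open Cfsg.Agent.Golay.M24 (tabAt)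
open scoped Pointwise

theorem code_of {m : ℕ} (h : isCode m = true ∧ m < 2 ^ 24) : maskSet m ∈ codeSets :=
  mem_supports_iff.2 (by rw [mask_maskSet h.2]; exact h.1)

/-- A letter. -/
inductive Step
  | p (t : ℕ)
  | s (m : ℕ)
  | x
  deriving DecidableEq

/-- The letter is a valid one fixing the octad. -/
def Step.ok : Step → Bool
  | .p t => tabOK t && imgTab t 16777215 == 16777215
  | .s m => isCode m && decide (m < 16777216)
  | .x => true

/-- The letter lies in the centraliser. -/
def Step.inH : Step → Bool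
  | .p t => imgTab t 12656663 == 12656663
  | _ => true

/-- The element of a letter. -/
noncomputable def Step.el : Step → Co0
  | .p t => if h : tabOK t = true then perm (tabPerm t) (tabPerm_mem h) else 1
  | .s m => if h : isCode m = true ∧ m < 2 ^ 24 then sign (maskSet m) (code_of h) else 1
  | .x => xi

/-- The block table, evaluated. -/
def blockTab : List (ℕ × ℕ × ℕ × ℕ × ℕ) :=
  [(0, 0, 1, 2, 23), (0, 0, 1, 2, 23), (0, 0, 1, 2, 23), (2, 3, 5, 14, 17), (1, 4, 13, 16, 22),
    (2, 3, 5, 14, 17), (3, 6, 7, 19, 21), (3, 6, 7, 19, 21), (5, 8, 11, 12, 18), (4, 9, 10, 15, 20),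
    (4, 9, 10, 15, 20), (5, 8, 11, 12, 18), (5, 8, 11, 12, 18), (1, 4, 13, 16, 22), (2, 3, 5, 14, 17),
    (4, 9, 10, 15, 20), (1, 4, 13, 16, 22), (2, 3, 5, 14, 17), (5, 8, 11, 12, 18), (3, 6, 7, 19, 21),
    (4, 9, 10, 15, 20), (3, 6, 7, 19, 21), (1, 4, 13, 16, 22), (0, 0, 1, 2, 23)]

theorem blockTab_eq : ∀ i < 24, blockTab.getD i (0, 0, 0, 0, 0) =
    ((blk (pt i)).1, ix (pos (blk (pt i), 0)), ix (pos (blk (pt i), 1)), ix (pos (blk (pt i), 2)),
      ix (pos (blk (pt i), 3))) := by decide +kernel

/-- A field of a packed vector. -/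
def fld (N i : ℕ) : ℕ := (N >>> (8 * i)) % 256

/-- Packing `n` fields, from position `i` on. -/
def packR (f : ℕ → ℕ) : ℕ → ℕ → ℕ
  | 0, _ => 0
  | n + 1, i => f i + 256 * packR f n (i + 1)

/-- A letter on packed coordinates (each biased by 64). -/
def Step.run : Step → ℕ → ℕ
  | .p t, N => packR (fun i => fld N (tabAt t i)) 24 0
  | .s m, N => packR (fun i => if m.testBit i then 128 - fld N i else fld N i) 24 0
  | .x, N => packR (fun i =>
    let e := blockTab.getD i (0, 0, 0, 0, 0)
    let s := (fld N e.2.1 + fld N e.2.2.1 + fld N e.2.2.2.1 + fld N e.2.2.2.2) / 2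
    if e.1 = 0 then fld N i + 128 - s else s - fld N i) 24 0

/-- A word on packed coordinates; the first letter is applied last. -/
def wrun : List Step → ℕ → ℕ
  | [], N => N
  | a :: w, N => a.run (wrun w N)

/-- The element of a word. -/
noncomputable def wel (w : List Step) : Co0 := (w.map Step.el).prod

/-- A valid word. -/
def wok (w : List Step) : Bool := w.all Step.ok

/-- A word in the centraliser. -/
def winH (w : List Step) : Bool := w.all fun a => a.ok && a.inH

theorem fld_packR : ∀ (n i j : ℕ) (f : ℕ → ℕ), (∀ k, k < n → f (i + k) < 256) → j < n →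
    fld (packR f n i) j = f (i + j)
  | 0, _, _, _, _, h => absurd h (Nat.not_lt_zero _)
  | n + 1, i, 0, f, hf, _ => by
    have := hf 0 (Nat.succ_pos n)
    simp only [fld, packR, mul_zero, Nat.shiftRight_zero, add_zero] at this ⊢
    omega
  | n + 1, i, j + 1, f, hf, h => by
    have hb := hf 0 (Nat.succ_pos n)
    rw [add_zero] at hb
    have e : (f i + 256 * packR f n (i + 1)) >>> 8 = packR f n (i + 1) := by
      rw [Nat.shiftRight_eq_div_pow]; omega
    have ih := fld_packR n (i + 1) j f (fun k hk => by
      have := hf (k + 1) (by omega)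
      rwa [show i + 1 + k = i + (k + 1) by omega]) (by omega)
    rw [fld, packR, show 8 * (j + 1) = 8 + 8 * j by omega, Nat.shiftRight_add, e]
    rw [fld] at ih
    rw [ih, show i + 1 + j = i + (j + 1) by omega]

theorem packR_congr : ∀ (n i : ℕ) (f g : ℕ → ℕ), (∀ k, i ≤ k → k < i + n → f k = g k) →
    packR f n i = packR g n i
  | 0, _, _, _, _ => rfl
  | n + 1, i, f, g, h => by
    rw [packR, packR, h i le_rfl (by omega), packR_congr n (i + 1) f g fun k hk hk' => h k (by omega) (by omega)]

/-- The packed form of a vector. -/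
def code (v : Vec) : ℕ := packR (fun i => (v (pt i) + 64).toNat) 24 0

theorem fld_code {v : Vec} (hv : ∀ p, |v p| ≤ 8) (p : GolayPt) : (fld (code v) (ix p) : ℤ) = v p + 64 := by
  have h := abs_le.1 (hv p)
  rw [code, fld_packR 24 0 (ix p) _ (fun k _ => by
    have := abs_le.1 (hv (pt (0 + k))); omega) (ix_lt p), zero_add, pt_ix]
  omega

theorem code_injective {v w : Vec} (hv : ∀ p, |v p| ≤ 8) (hw : ∀ p, |w p| ≤ 8) (h : code v = code w) :
    v = w := funext fun p => by
  have h1 := fld_code hv p
  have h2 := fld_code hw p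
  rw [h] at h1
  omega

theorem bound_of_norm {v : Vec} (h : sqNorm v ≤ 64) (p : GolayPt) : |v p| ≤ 8 := by
  have h1 : v p ^ 2 ≤ sqNorm v := Finset.single_le_sum (fun q _ => sq_nonneg (v q)) (mem_univ p)
  nlinarith [abs_nonneg (v p), sq_abs (v p)]

theorem run_el {a : Step} (ha : a.ok = true) (v : leechLattice) (hn : sqNorm (v : Vec) ≤ 64) :
    code ((a.el • v : leechLattice) : Vec) = a.run (code (v : Vec)) := by
  have hv := bound_of_norm hn
  have hN : ∀ q, (fld (code (v : Vec)) (ix q) : ℤ) = (v : Vec) q + 64 := fld_code hv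
  cases a with
  | p t =>
    simp only [Step.ok, Bool.and_eq_true] at ha
    rw [Step.run]
    refine packR_congr 24 0 _ _ fun i _ hi => ?_
    rw [zero_add] at hi
    have h1 := hN (tabPerm t (pt i))
    rw [isTab_tabPerm ha.1, ix_pt hi] at h1
    rw [Step.el, dif_pos ha.1, perm_smul]
    omega
  | s m =>
    simp only [Step.ok, Bool.and_eq_true, decide_eq_true_eq] at ha
    have hm : isCode m = true ∧ m < 2 ^ 24 := ⟨ha.1, by simpa using ha.2⟩
    rw [Step.run]
    refine packR_congr 24 0 _ _ fun i _ hi => ?_
    rw [zero_add] at hi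
    have h1 := hN (pt i)
    rw [ix_pt hi] at h1
    rw [Step.el, dif_pos hm, sign_smul]
    simp only [LeechAut.Basic.flip, mem_maskSet, ix_pt hi]
    split_ifs <;> omega
  | x =>
    rw [Step.run]
    refine packR_congr 24 0 _ _ fun i _ hi => ?_
    rw [zero_add] at hi
    have h1 := hN (pt i)
    rw [ix_pt hi] at h1
    have hb := fun j : Fin 4 => hN (pos (blk (pt i), j))
    have hc := fun j : Fin 4 => abs_le.1 (hv (pos (blk (pt i), j)))
    have hout := abs_le.1 (bound_of_norm (v := ((Step.el .x • v : leechLattice) : Vec))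
      (by rw [LeechAut.Basic.sqNorm_smul]; exact hn) (pt i))
    simp only [blockTab_eq i hi]
    simp only [Step.el, xi_smul, xiFun, bsum, sg] at hout ⊢
    have := hb 0; have := hb 1; have := hb 2; have := hb 3
    have := hc 0; have := hc 1; have := hc 2; have := hc 3
    have := abs_le.1 (hv (pt i))
    by_cases h : blk (pt i) = 0
    · simp only [h, if_true, Fin.val_zero] at *
      omega
    · have hne : (blk (pt i)).1 ≠ 0 := fun e => h (Fin.ext e)
      simp only [h, hne, if_false] at *
      omega

theorem wrun_wel : ∀ {w : List Step}, wok w = true → ∀ v : leechLattice, sqNorm (v : Vec) ≤ 64 →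
    code ((wel w • v : leechLattice) : Vec) = wrun w (code (v : Vec))
  | [], _, v, _ => by simp [wel, wrun]
  | a :: w, h, v, hn => by
    simp only [wok, List.all_cons, Bool.and_eq_true] at h
    rw [wel, List.map_cons, List.prod_cons, mul_smul,
      run_el h.1 _ (by rw [LeechAut.Basic.sqNorm_smul]; exact hn)]
    exact congrArg a.run (wrun_wel h.2 v hn)

theorem wel_append (a c : List Step) : wel (a ++ c) = wel a * wel c := by
  simp [wel]

/-- The packed frame vectors. -/
def unitN (i : ℕ) : ℕ := packR (fun j => if j = i then 72 else 64) 24 0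

/-- Two valid words with equal runs on the frames. -/
def wsame (a c : List Step) : Bool :=
  wok a && wok c && (List.range 24).all fun i => wrun a (unitN i) == wrun c (unitN i)

theorem code_frame (p : GolayPt) : code ((frame p : leechLattice) : Vec) = unitN (ix p) :=
  packR_congr 24 0 _ _ fun j _ hj => by
    rw [zero_add] at hj
    rw [frame_coe, Pi.single_apply]
    by_cases h : pt j = p
    · rw [if_pos h, if_pos (by rw [← h, ix_pt hj])]; rfl
    · rw [if_neg h, if_neg (fun e => h (by rw [e, pt_ix]))]; rfl

theorem ext_frames {g h : Co0} (e : ∀ i, g • frame i = h • frame i) : g = h := by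
  refine ext' fun v => Subtype.ext (funext fun j => ?_)
  have h1 := congrArg (actHom g) (eight_smul v)
  have h2 := congrArg (actHom h) (eight_smul v)
  simp only [map_zsmul, map_sum, actHom_apply, e] at h1 h2
  rw [← h2] at h1
  have h3 := congrArg (fun w : leechLattice => (w : Vec) j) h1
  simp only [AddSubgroup.coe_zsmul, Pi.smul_apply, smul_eq_mul] at h3
  omega

theorem wsame_eq {a c : List Step} (h : wsame a c = true) : wel a = wel c := by
  simp only [wsame, Bool.and_eq_true, List.all_eq_true, List.mem_range, beq_iff_eq] at h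
  refine ext_frames fun i => Subtype.ext ?_
  have hb : ∀ g : Co0, ∀ p, |((g • frame i : leechLattice) : Vec) p| ≤ 8 := fun g =>
    bound_of_norm (by rw [LeechAut.Basic.sqNorm_smul, sqNorm_frame])
  refine code_injective (hb _) (hb _) ?_
  rw [wrun_wel h.1.1 _ (sqNorm_frame i).le, wrun_wel h.1.2 _ (sqNorm_frame i).le, code_frame,
    h.2 _ (ix_lt i)]

/-- A frame on which two valid words differ. -/
def wdiff (a c : List Step) (i : ℕ) : Bool :=
  wok a && wok c && decide (i < 24) && wrun a (unitN i) != wrun c (unitN i)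

theorem wdiff_ne {a c : List Step} {i : ℕ} (h : wdiff a c i = true) : wel a ≠ wel c := by
  simp only [wdiff, Bool.and_eq_true, decide_eq_true_eq, bne_iff_ne] at h
  intro e
  apply h.2
  have h1 := wrun_wel h.1.1.1 (frame (pt i)) (sqNorm_frame _).le
  have h2 := wrun_wel h.1.1.2 (frame (pt i)) (sqNorm_frame _).le
  rw [code_frame, ix_pt h.1.2] at h1 h2
  rw [← h1, ← h2, e]

theorem wel_mem_H : ∀ {w : List Step}, winH w = true → wel w ∈ H
  | [], _ => H.one_mem
  | a :: w, h => by
    simp only [winH, List.all_cons, Bool.and_eq_true] at h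
    rw [wel, List.map_cons, List.prod_cons]
    refine H.mul_mem ?_ (wel_mem_H (w := w) (by simp [winH, h.2]))
    cases a with
    | p t =>
      obtain ⟨hok, hO⟩ := h.1
      simp only [Step.ok, Bool.and_eq_true] at hok
      simp only [Step.inH, beq_iff_eq] at hO
      rw [Step.el, dif_pos hok.1, mem_H]
      have hmem : ∀ q, tabPerm t q ∈ O ↔ q ∈ O := by
        intro q
        have e : tabPerm t • O = O := mask_injective (by
          rw [← imgTab_mask (isTab_tabPerm hok.1), mask_O, hO])
        conv_lhs => rw [← e]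
        exact Cfsg.Agent.Golay.M24.mem_smul_iff _ _ _
      intro v
      constructor
      · intro hv q hq
        have hq' : (tabPerm t).symm q ∉ O := fun hc => hq (by
          have := (hmem _).2 hc; rwa [Equiv.apply_symm_apply] at this)
        have := mem_L.1 hv _ hq'
        rwa [perm_smul, Equiv.apply_symm_apply] at this
      · intro hv q hq
        rw [perm_smul]
        exact mem_L.1 hv _ fun hc => hq ((hmem q).1 hc)
    | s m =>
      obtain ⟨hok, -⟩ := h.1
      simp only [Step.ok, Bool.and_eq_true, decide_eq_true_eq] at hok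
      have hm : isCode m = true ∧ m < 2 ^ 24 := ⟨hok.1, by simpa using hok.2⟩
      rw [Step.el, dif_pos hm, mem_H_iff, eps]
      exact LeechAut.Co1.signSub_comm (LeechAut.Co1.sign_mem_signSub _ _) (LeechAut.Co1.sign_mem_signSub _ _)
    | x => exact xi_mem_H

/-- The inverse of a letter whose inverse is given. -/
theorem mul_eq_one_of {a c : List Step} (h : wsame (a ++ c) [] = true) : (wel a)⁻¹ = wel c :=
  inv_eq_of_mul_eq_one_right (by rw [← wel_append, wsame_eq h]; rfl)

end Cfsg.Agent.OctadInv.Words
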