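import Cfsg.Agent.Lib.OctadInv.Rep
import Cfsg.Agent.Lib.OctadInv.Words

/-!
A lower bound for the action on the fixer modulo the centre, from generators given as words with
tables of their actions on coordinate vectors.
-/

set_option autoImplicit false

namespace Cfsg.Agent.OctadInv.Lower

open Cfsg Cfsg.Agent.LeechAut.Basic Cfsg.Agent.OctadInv.Lattice Cfsg.Agent.OctadInv.Elements
  Cfsg.Agent.OctadInv.Fixer Cfsg.Agent.OctadInv.Fix Cfsg.Agent.OctadInv.Rep Cfsg.Agent.OctadInv.Words
  Cfsg.Agent.OctadInv.Orbits Finset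

/-- The sign change on the complement of the octad, as a word. -/
def zw : List Step := [.s 4120552]

variable {ι : Type} [Fintype ι] [DecidableEq ι] {n : ℕ}

/-- A coordinate vector from its bits. -/
def decV (e : ι ≃ Fin n) (m : ℕ) : ι → ZMod 2 := fun i => if m.testBit (e i).1 then 1 else 0

/-- The bits of a coordinate vector. -/
def encV (e : ι ≃ Fin n) (v : ι → ZMod 2) : ℕ := ∑ i, (v i).val * 2 ^ (e i).1

theorem decV_xor (e : ι ≃ Fin n) (a c : ℕ) : decV e (a ^^^ c) = decV e a + decV e c := by
  funext i
  simp only [decV, Nat.testBit_xor, Pi.add_apply]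
  cases a.testBit (e i).1 <;> cases c.testBit (e i).1 <;> decide

theorem decV_zero (e : ι ≃ Fin n) : decV e 0 = 0 := funext fun i => by simp [decV]

theorem decV_single (e : ι ≃ Fin n) (i : ι) : decV e (2 ^ (e i).1) = Pi.single i 1 := by
  funext j
  rw [decV, Pi.single_apply, Nat.testBit_two_pow]
  by_cases h : j = i
  · subst h; simp
  · have : (e i).1 ≠ (e j).1 := fun hc => h (e.injective (Fin.ext hc)).symm
    simp [h, this]

variable {θ : Co0} {P : QuadraticForm (ZMod 2) (ι → ZMod 2)}

/-- The basis words with the given bits. -/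
def bitsWord (e : ι ≃ Fin n) (kw : ι → List Step) (c : ℕ) : List Step :=
  ((List.finRange n).filter fun a => c.testBit a.1).flatMap fun a => kw (e.symm a)

theorem wel_flatMap {α : Type} (f : α → List Step) :
    ∀ L : List α, wel (L.flatMap f) = (L.map fun a => wel (f a)).prod
  | [] => rfl
  | a :: L => by rw [List.flatMap_cons, wel_append, wel_flatMap f L, List.map_cons, List.prod_cons]

theorem nu_prod (B : Basis θ P) : ∀ L : List ι,
    (L.map B.kv).prod ∈ Kth θ ∧ nu B (L.map B.kv).prod = (L.map fun i => Pi.single i (1 : ZMod 2)).sum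
  | [] => ⟨one_mem _, nu_one B⟩
  | i :: L => by
    obtain ⟨h1, h2⟩ := nu_prod B L
    rw [List.map_cons, List.prod_cons, List.map_cons, List.sum_cons]
    exact ⟨mul_mem (kv_mem B i) h1, by rw [nu_mul B (B.mem i) h1.1, nu_kv, h2]⟩

theorem nu_bitsWord (B : Basis θ P) {e : ι ≃ Fin n} {kw : ι → List Step} (hkv : ∀ i, B.kv i = wel (kw i))
    (c : ℕ) : wel (bitsWord e kw c) ∈ Kth θ ∧ nu B (wel (bitsWord e kw c)) = decV e c := by
  have e1 : wel (bitsWord e kw c) =
      ((((List.finRange n).filter fun a => c.testBit a.1).map e.symm).map B.kv).prod := by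
    rw [bitsWord, wel_flatMap, List.map_map]
    congr 1
    exact List.map_congr_left fun a _ => (hkv _).symm
  rw [e1]
  obtain ⟨h1, h2⟩ := nu_prod B (((List.finRange n).filter fun a => c.testBit a.1).map e.symm)
  refine ⟨h1, ?_⟩
  rw [h2, ← List.sum_toFinset _ (((List.nodup_finRange n).filter _).map e.symm.injective)]
  funext i
  rw [Finset.sum_apply, Finset.sum_congr rfl fun j _ => Pi.single_apply j (1 : ZMod 2) i,
    Finset.sum_ite_eq]
  simp [decV, List.mem_toFinset, List.mem_map, List.mem_filter, ← Equiv.eq_symm_apply]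

/-- A table is additive. -/
def additive (n : ℕ) (T : List ℕ) : Bool :=
  (List.range (2 ^ n)).all fun a => decide (T.getD a 0 < 2 ^ n) &&
    (List.range (2 ^ n)).all fun c => T.getD (a ^^^ c) 0 == T.getD a 0 ^^^ T.getD c 0

/-- The conjugation check for one generator and one basis element. -/
def conjOK (e : ι ≃ Fin n) (kw : ι → List Step) (g : List Step) (T : List ℕ) (i : ι) (s : Bool) : Bool :=
  wsame (g ++ kw i) (bitsWord e kw (T.getD (2 ^ (e i).1) 0) ++ (if s then zw else []) ++ g)

/-- A generator with its table. -/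
structure Gen (B : Basis θ P) (e : ι ≃ Fin n) where
  el : CH θ
  tab : List ℕ
  lt : ∀ m < 2 ^ n, tab.getD m 0 < 2 ^ n
  spec : ∀ m < 2 ^ n, act (chi B el) (decV e m) = decV e (tab.getD m 0)

/-- A generator from the checks. -/
noncomputable def Gen.of (B : Basis θ P) (e : ι ≃ Fin n) (kw : ι → List Step)
    (hkv : ∀ i, B.kv i = wel (kw i)) (hz : wel zw = zK)
    (hdec : ∀ v, decV e (encV e v) = v) (hlt : ∀ v, encV e v < 2 ^ n)
    (henc : ∀ m < 2 ^ n, encV e (decV e m) = m)
    (g : List Step) (th : List Step) (hth : wel th = θ) (hH : winH g = true)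
    (hc : wsame (g ++ th) (th ++ g) = true) (T : List ℕ) (hT : additive n T = true) (s : ι → Bool)
    (hconj : ∀ i, conjOK e kw g T i (s i) = true) : Gen B e where
  el := ⟨wel g, mem_CH.2 ⟨wel_mem_H hH, by
    rw [← hth, ← wel_append, ← wel_append, wsame_eq hc]⟩⟩
  tab := T
  lt m hm := by
    simp only [additive, List.all_eq_true, List.mem_range, Bool.and_eq_true, decide_eq_true_eq] at hT
    exact (hT m hm).1
  spec := by
    simp only [additive, List.all_eq_true, List.mem_range, Bool.and_eq_true, decide_eq_true_eq,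
      beq_iff_eq] at hT
    set gC : CH θ := ⟨wel g, _⟩
    suffices key : ∀ v, act (chi B gC) v = decV e (T.getD (encV e v) 0) by
      intro m hm
      rw [key, henc m hm]
    intro v
    have h0 : T.getD 0 0 = 0 := by
      have h := (hT 0 (by positivity)).2 0 (by positivity)
      rwa [Nat.xor_self, Nat.xor_self] at h
    rw [← Finset.univ_sum_single v]
    refine Finset.sum_induction _ (fun w => act (chi B gC) w = decV e (T.getD (encV e w) 0)) ?_ ?_ ?_
    · intro a c ha hc'
      have e1 : encV e (a + c) = encV e a ^^^ encV e c := by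
        conv_lhs => rw [← hdec a, ← hdec c, ← decV_xor]
        exact henc _ (Nat.xor_lt_two_pow (hlt a) (hlt c))
      rw [act_add, ha, hc', e1, (hT _ (hlt a)).2 _ (hlt c), decV_xor]
    · have e0 : encV e (0 : ι → ZMod 2) = 0 := by
        rw [← decV_zero e]; exact henc 0 (by positivity)
      rw [e0, h0, decV_zero]
      exact Matrix.mulVec_zero _
    · intro i _
      rcases zmod_two (v i) with h1 | h1 <;> rw [h1]
      · rw [Pi.single_zero]
        have e0 : encV e (0 : ι → ZMod 2) = 0 := by
          rw [← decV_zero e]; exact henc 0 (by positivity)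
        rw [e0, h0, decV_zero]
        exact Matrix.mulVec_zero _
      · rw [← decV_single e i, henc _ (Nat.pow_lt_pow_right one_lt_two (e i).2), decV_single,
          ← nu_kv B i, chi_nu B gC (kv_mem B i)]
        have hw := wsame_eq (hconj i)
        rw [wel_append, wel_append, wel_append] at hw
        obtain ⟨hk, hnu⟩ := nu_bitsWord B (e := e) hkv (T.getD (2 ^ (e i).1) 0)
        have hs : ∃ u, u = wel (if s i then zw else []) ∧ u ∈ K ∧ nu B u = 0 := by
          refine ⟨_, rfl, ?_⟩
          cases s i
          · exact ⟨K.one_mem, nu_one B⟩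
          · simp only [if_true]; rw [hz]; exact ⟨zK_mem, nu_zK B⟩
        obtain ⟨u, hu, huK, hu0⟩ := hs
        have e2 : (gC : Co0) * B.kv i * (gC : Co0)⁻¹ =
            wel (bitsWord e kw (T.getD (2 ^ (e i).1) 0)) * u := by
          rw [hkv, hu]
          exact mul_inv_eq_iff_eq_mul.2 hw
        rw [e2, nu_mul B hk.1 huK, hu0, add_zero, hnu]

variable {B : Basis θ P} {e : ι ≃ Fin n} {k : ℕ} (G : Fin k → Gen B e)

/-- The image of a bit vector under a word in the generators. -/
def run (tabs : List (List ℕ)) : List ℕ → ℕ → ℕ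
  | [], m => m
  | a :: L, m => (tabs.getD a []).getD (run tabs L m) 0

/-- The product of a word in the generators. -/
noncomputable def prodW : List ℕ → CH θ
  | [] => 1
  | a :: L => (if h : a < k then (G ⟨a, h⟩).el else 1) * prodW L

theorem act_prodW {tabs : List (List ℕ)} (ht : ∀ a : Fin k, tabs.getD a.1 [] = (G a).tab) :
    ∀ {L : List ℕ}, L.all (fun a => decide (a < k)) = true → ∀ {m : ℕ}, m < 2 ^ n →
      run tabs L m < 2 ^ n ∧ act (chi B (prodW G L)) (decV e m) = decV e (run tabs L m)
  | [], _, m, hm => ⟨hm, by rw [prodW, map_one, act_one]; rfl⟩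
  | a :: L, hL, m, hm => by
    simp only [List.all_cons, Bool.and_eq_true, decide_eq_true_eq] at hL
    obtain ⟨h1, h2⟩ := act_prodW ht hL.2 hm
    rw [run, ht ⟨a, hL.1⟩, prodW, dif_pos hL.1, map_mul, act_mul, h2]
    exact ⟨(G _).lt _ h1, (G _).spec _ h1⟩

/-- The checks of the chain. -/
def chainOK (tabs : List (List ℕ)) (k n : ℕ) : List (List (List ℕ)) → ℕ → Bool
  | [], _ => true
  | lev :: rest, j => decide (j < n) &&
      decide ((lev.map fun L => run tabs L (2 ^ j)).Nodup) &&
      (lev.all fun L => L.all (fun a => decide (a < k)) &&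
        (List.range j).all fun i => run tabs L (2 ^ i) == 2 ^ i) && chainOK tabs k n rest (j + 1)

/-- The product of the lengths. -/
def size : List (List (List ℕ)) → ℕ
  | [] => 1
  | lev :: rest => lev.length * size rest

variable {tabs : List (List ℕ)}

theorem chain_le (ht : ∀ a : Fin k, tabs.getD a.1 [] = (G a).tab)
    (henc : ∀ m < 2 ^ n, encV e (decV e m) = m) :
    ∀ (ch : List (List (List ℕ))) (j : ℕ), chainOK tabs k n ch j = true →
      ∀ M, M ≤ Nat.card (fixL (chi B).range
        ((List.range (j + ch.length)).reverse.map fun i => decV e (2 ^ i))) →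
      size ch * M ≤ Nat.card (fixL (chi B).range ((List.range j).reverse.map fun i => decV e (2 ^ i)))
  | [], j, _, M, hM => by simpa [size] using hM
  | lev :: rest, j, h, M, hM => by
    simp only [chainOK, Bool.and_eq_true, decide_eq_true_eq, List.all_eq_true, List.mem_range,
      beq_iff_eq] at h
    obtain ⟨⟨⟨hj, hn⟩, hlev⟩, hrest⟩ := h
    have ih := chain_le ht henc rest (j + 1) hrest M
      (by rwa [List.length_cons, ← Nat.add_assoc, Nat.add_right_comm] at hM)
    rw [List.range_succ, List.reverse_append, List.reverse_singleton, List.singleton_append,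
      List.map_cons] at ih
    have hpow : ∀ i, i ≤ j → 2 ^ i < 2 ^ n := fun i hi =>
      Nat.pow_lt_pow_right one_lt_two (by omega)
    have hall : ∀ L ∈ lev, L.all (fun a => decide (a < k)) = true := fun L hL =>
      List.all_eq_true.2 fun a ha => decide_eq_true ((hlev L hL).1 a ha)
    have hstep := step_ge (chi B).range ((List.range j).reverse.map fun i => decV e (2 ^ i))
      (decV e (2 ^ j)) (lev.map fun L => decV e (run tabs L (2 ^ j))) ?_ ?_
    · rw [List.length_map] at hstep
      rw [size, mul_assoc]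
      exact le_trans (Nat.mul_le_mul_left _ ih) hstep
    · have hlt : ∀ L ∈ lev, run tabs L (2 ^ j) < 2 ^ n := fun L hL =>
        (act_prodW G ht (hall L hL) (hpow j le_rfl)).1
      have := List.Nodup.map_on (f := decV e) (l := lev.map fun L => run tabs L (2 ^ j)) ?_ hn
      · rwa [List.map_map] at this
      intro a ha c hc hac
      obtain ⟨L, hL, rfl⟩ := List.mem_map.1 ha
      obtain ⟨M, hM, rfl⟩ := List.mem_map.1 hc
      rw [← henc _ (hlt L hL), hac, henc _ (hlt M hM)]
    · intro t ht'
      obtain ⟨L, hL, rfl⟩ := List.mem_map.1 ht'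
      refine ⟨chi B (prodW G L), ⟨⟨_, rfl⟩, fun v hv => ?_⟩,
        (act_prodW G ht (hall L hL) (hpow j le_rfl)).2⟩
      obtain ⟨i, hi, rfl⟩ := List.mem_map.1 hv
      rw [List.mem_reverse, List.mem_range] at hi
      rw [(act_prodW G ht (hall L hL) (hpow i hi.le)).2, (hlev L hL).2 i hi]

theorem lower (ht : ∀ a : Fin k, tabs.getD a.1 [] = (G a).tab)
    (henc : ∀ m < 2 ^ n, encV e (decV e m) = m) (ch : List (List (List ℕ)))
    (h : chainOK tabs k n ch 0 = true) : size ch ≤ Nat.card (chi B).range := by
  have := chain_le G ht henc ch 0 h 1 Nat.card_pos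
  rwa [mul_one, List.range_zero, List.reverse_nil, List.map_nil, fixL_nil] at this

/-- The checks for the span of an orbit. -/
def orbitOK (tabs : List (List ℕ)) (k n c0 : ℕ) (ls : List (List (List ℕ))) : Bool :=
  (List.range n).all fun j => let Ls := ls.getD j []
    (Ls.all fun L => L.all fun a => decide (a < k)) &&
      (Ls.foldr (fun L s => run tabs L c0 ^^^ s) 0 == 2 ^ j)

theorem orbit (ht : ∀ a : Fin k, tabs.getD a.1 [] = (G a).tab) (ls : List (List (List ℕ))) (i0 : ι)
    (h : orbitOK tabs k n (2 ^ (e i0).1) ls = true) (j : ι) :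
    Pi.single j (1 : ZMod 2) ∈
      AddSubgroup.closure {v | ∃ A ∈ (chi B).range, act A (Pi.single i0 1) = v} := by
  simp only [orbitOK, List.all_eq_true, List.mem_range, Bool.and_eq_true, beq_iff_eq] at h
  obtain ⟨hL, hs⟩ := h (e j).1 (e j).2
  rw [← decV_single e j, ← hs]
  clear hs
  generalize ls.getD (e j).1 [] = Ls at hL ⊢
  induction Ls with
  | nil => rw [List.foldr_nil, decV_zero]; exact zero_mem _
  | cons L Ls ih =>
    rw [List.foldr_cons, decV_xor]
    refine add_mem (AddSubgroup.subset_closure ⟨chi B (prodW G L), ⟨_, rfl⟩, ?_⟩)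
      (ih fun M hM => hL M (List.mem_cons_of_mem _ hM))
    rw [← decV_single e i0]
    exact (act_prodW G ht (List.all_eq_true.2 fun a ha => hL L List.mem_cons_self a ha)
      (Nat.pow_lt_pow_right one_lt_two (e i0).2)).2

end Cfsg.Agent.OctadInv.Lower
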