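import Cfsg.Agent.Lib.OctadInv.Rep
import Cfsg.Agent.Lib.OctadInv.Words

/-!
An upper bound for the centraliser of an element of the octad centraliser on the sublattice modulo
two, from orbits along a base.
-/

set_option autoImplicit false
set_option maxRecDepth 20000

namespace Cfsg.Agent.OctadInv.Upper

open Cfsg Cfsg.Agent.Golay.Basic Cfsg.Agent.Golay.Cert Cfsg.Agent.Leech.Basic Cfsg.Agent.Leech.Index
  Cfsg.Agent.LeechAut.Basic
  Cfsg.Agent.OctadInv.Lattice Cfsg.Agent.OctadInv.Local Cfsg.Agent.OctadInv.Hom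
  Cfsg.Agent.OctadInv.Kernel Cfsg.Agent.OctadInv.Words Cfsg.Agent.OctadInv.Rep
  Cfsg.Agent.OctadInv.Orbits Finset

/-- A reduced vector from its bits. -/
def dec (m : ℕ) : X := fun i => if m.testBit (pos8 i).1 then 1 else 0

/-- The bits of a reduced vector. -/
def enc (w : X) : ℕ := ∑ i : Fin 4 ⊕ Fin 4, (w i).val * 2 ^ (pos8 i).1

theorem dec_enc : ∀ w : X, dec (enc w) = w := by decide +kernel

theorem enc_lt : ∀ w : X, enc w < 256 := by decide +kernel

theorem dec_inj : ∀ m < 256, enc (dec m) = m := by decide +kernel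

theorem dec_xor (a c : ℕ) : dec (a ^^^ c) = dec a + dec c := by
  funext i
  simp only [dec, Nat.testBit_xor, Pi.add_apply]
  cases a.testBit (pos8 i).1 <;> cases c.testBit (pos8 i).1 <;> decide

/-- The form on bits. -/
def qN (m : ℕ) : ℕ := ((m &&& (m >>> 4)) % 2 + ((m &&& (m >>> 4)) >>> 1) % 2 +
  ((m &&& (m >>> 4)) >>> 2) % 2 + ((m &&& (m >>> 4)) >>> 3) % 2) % 2

theorem qN_spec : ∀ m < 256, quadFormPlus 4 (ZMod 2) (dec m) = (qN m : ZMod 2) := by decide +kernel

/-- The octad coordinates of a packed vector. -/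
def rN (N : ℕ) : Fin 8 → ℤ := fun k => (fld N (ix (o k)) : ℤ) - 64

/-- The images of the roots under a word, on the octad. -/
def imgR (w : List Step) (k : Fin 8) : Fin 8 → ℤ := rN (wrun w (code (bV k : leechLattice).1))

theorem r_wel {w : List Step} (hw : wok w = true) (k : Fin 8) : r (wel w • bV k) = imgR w k := by
  have hn : sqNorm ((bV k : leechLattice) : Vec) ≤ 64 := by
    rw [sqNorm_L (bV_mem k)]
    simp only [r_bV, b_norm]
    norm_num
  have hn' : sqNorm ((wel w • bV k : leechLattice) : Vec) ≤ 64 := by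
    rw [LeechAut.Basic.sqNorm_smul]; exact hn
  funext j
  rw [imgR, rN, ← wrun_wel hw _ hn, fld_code (bound_of_norm hn'), add_sub_cancel_right]
  rfl

theorem act2_eq {w : List Step} (hw : wok w = true) (u : X) :
    act2 (wel w) u = phiR (fun j => ∑ k, liftC u k * imgR w k j) := by
  rw [act2, phi_eq]
  congr 1
  funext j
  rw [show Local.lift u = comb (liftC u) from rfl, smul_comb]
  show ((∑ k, liftC u k • (wel w • bV k) : leechLattice) : GolayPt → ℤ) (o j) = _
  simp only [AddSubmonoidClass.coe_finsetSum, AddSubgroup.coe_zsmul, Finset.sum_apply, Pi.smul_apply,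
    smul_eq_mul]
  exact Finset.sum_congr rfl fun k _ => by rw [← r_wel hw k]; rfl

/-- The table of a word on the reduced vectors is the given one. -/
def tableOK (w : List Step) (W : List ℕ) : Bool :=
  (List.range 256).all fun m =>
    decide (W.getD m 0 < 256) &&
      decide (phiR (fun j => ∑ k, liftC (dec m) k * imgR w k j) = dec (W.getD m 0))

variable {w : List Step} {W : List ℕ}

theorem table_spec (hw : wok w = true) (hT : tableOK w W = true) {m : ℕ} (hm : m < 256) :
    W.getD m 0 < 256 ∧ act2 (wel w) (dec m) = dec (W.getD m 0) := by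
  simp only [tableOK, List.all_eq_true, List.mem_range, Bool.and_eq_true, decide_eq_true_eq] at hT
  exact ⟨(hT m hm).1, (act2_eq hw _).trans (hT m hm).2⟩

/-- An iterate of the table. -/
def itW (W : List ℕ) : ℕ → ℕ → ℕ
  | 0, m => m
  | i + 1, m => W.getD (itW W i m) 0

/-- The vectors fixed along a base: the span of the orbits. -/
def sp (W : List ℕ) (d : ℕ) : List ℕ → List ℕ
  | [] => [0]
  | b :: l => (List.range d).foldl (fun S i => S ++ S.map (itW W i b ^^^ ·)) (sp W d l)

/-- The possible images of the next base vector. -/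
def cand (W : List ℕ) (d : ℕ) (l : List ℕ) (b : ℕ) : List ℕ :=
  (List.range 256).filter fun c =>
    ((List.range d).all fun i => qN (c ^^^ itW W i c) == qN (b ^^^ itW W i b)) &&
    ((sp W d l).all fun s => qN (c ^^^ s) == qN (b ^^^ s) && (c == s) == (b == s))

/-- The product of the numbers of candidates. -/
def bound (W : List ℕ) (d : ℕ) : List ℕ → List ℕ → ℕ
  | [], _ => 1
  | b :: rem, l => (cand W d l b).length * bound W d rem (b :: l)

/-- The base spans. -/
def spans (W : List ℕ) (d : ℕ) (base : List ℕ) : Bool :=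
  let S := sp W d base
  (List.range 256).all fun m => S.elem m

section

variable {θ : H} (hθ : ∀ m < 256, W.getD m 0 < 256 ∧ act2 (θ : Co0) (dec m) = dec (W.getD m 0))

include hθ

theorem itW_lt {m : ℕ} (hm : m < 256) : ∀ i, itW W i m < 256
  | 0 => hm
  | i + 1 => (hθ _ (itW_lt hm i)).1

theorem act_it {A : O8} (hA : A ∈ Subgroup.centralizer ({psi θ} : Set O8)) {b c : ℕ} (hb : b < 256)
    (hc : c < 256) (h : act A (dec b) = dec c) : ∀ i, act A (dec (itW W i b)) = dec (itW W i c)
  | 0 => h
  | i + 1 => by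
    have e : ∀ m < 256, act (psi θ) (dec m) = dec (W.getD m 0) := fun m hm =>
      (psi_mulVec θ (dec m)).trans (hθ m hm).2
    rw [itW, itW, ← e _ (itW_lt hθ hb i), ← e _ (itW_lt hθ hc i), ← act_mul,
      Subgroup.mem_centralizer_singleton_iff.1 hA, act_mul, act_it hA hb hc h i]

theorem fix_span {A : O8} (hA : A ∈ Subgroup.centralizer ({psi θ} : Set O8)) (d : ℕ) :
    ∀ {l : List ℕ}, (∀ b ∈ l, b < 256 ∧ act A (dec b) = dec b) →
      ∀ s ∈ sp W d l, s < 256 ∧ act A (dec s) = dec s
  | [], _, s, hs => by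
    rw [sp, List.mem_singleton] at hs
    subst hs
    refine ⟨by norm_num, ?_⟩
    rw [show dec 0 = 0 from funext fun i => by simp [dec]]
    exact Matrix.mulVec_zero _
  | b :: l, hl, s, hs => by
    have ih := fix_span hA d (l := l) fun c hc => hl c (List.mem_cons_of_mem _ hc)
    obtain ⟨hb, hfb⟩ := hl b List.mem_cons_self
    rw [sp] at hs
    have key : ∀ (ds : List ℕ) (S : List ℕ), (∀ s ∈ S, s < 256 ∧ act A (dec s) = dec s) →
        ∀ s ∈ ds.foldl (fun S i => S ++ S.map (itW W i b ^^^ ·)) S, s < 256 ∧ act A (dec s) = dec s := by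
      intro ds
      induction ds with
      | nil => exact fun S hS s hs => hS s hs
      | cons i ds ih' =>
        intro S hS
        refine ih' _ fun t ht => ?_
        rcases List.mem_append.1 ht with ht | ht
        · exact hS t ht
        · obtain ⟨u, hu, rfl⟩ := List.mem_map.1 ht
          refine ⟨Nat.xor_lt_two_pow (n := 8) (itW_lt hθ hb i) (hS u hu).1, ?_⟩
          rw [dec_xor, act_add, act_it hθ hA hb hb hfb i, (hS u hu).2]
    exact key _ _ ih s hs

theorem card_le (d : ℕ) : ∀ (rem l : List ℕ), (∀ b ∈ rem, b < 256) → (∀ b ∈ l, b < 256) →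
    spans W d (rem.reverse ++ l) = true →
    Nat.card (fixL (Subgroup.centralizer ({psi θ} : Set O8)) (l.map dec)) ≤ bound W d rem l
  | [], l, _, hl, hs => by
    rw [bound]
    refine fixL_card_one _ _ fun A hA v => ?_
    simp only [List.reverse_nil, List.nil_append, spans, List.all_eq_true, List.mem_range,
      List.elem_eq_contains, List.contains_eq_mem, decide_eq_true_eq] at hs
    have h := (fix_span hθ hA.1 d (l := l) (fun b hb => ⟨hl b hb,
      hA.2 _ (List.mem_map.2 ⟨b, hb, rfl⟩)⟩) _ (hs _ (enc_lt v))).2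
    rwa [dec_enc] at h
  | b :: rem, l, hrem, hl, hs => by
    have hb : b < 256 := hrem b List.mem_cons_self
    have ih := card_le d rem (b :: l) (fun c hc => hrem c (List.mem_cons_of_mem _ hc))
      (fun c hc => (List.mem_cons.1 hc).elim (fun e => e ▸ hb) (hl c))
      (by simpa [List.reverse_cons, List.append_assoc] using hs)
    have hstep := step_le (Subgroup.centralizer ({psi θ} : Set O8)) (l.map dec) (dec b)
      ((cand W d l b).map dec) ?_
    · rw [List.length_map] at hstep
      rw [bound]
      exact hstep.trans (Nat.mul_le_mul_left _ ih)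
    intro A hA
    obtain ⟨c, hc⟩ : ∃ c, c = enc (act A (dec b)) := ⟨_, rfl⟩
    have hc' : c < 256 := hc ▸ enc_lt _
    have hAb : act A (dec b) = dec c := by rw [hc, dec_enc]
    refine List.mem_map.2 ⟨c, ?_, hAb.symm⟩
    simp only [cand, List.mem_filter, List.mem_range, Bool.and_eq_true, List.all_eq_true, beq_iff_eq]
    have hq : ∀ x y, x < 256 → y < 256 → act A (dec x) = dec y → qN y = qN x := by
      intro x y hx hy e
      have h1 := act_form A (dec x)
      rw [e, qN_spec y hy, qN_spec x hx] at h1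
      have h2 : ∀ m, qN m < 2 := fun m => Nat.mod_lt _ (by norm_num)
      have := congrArg ZMod.val h1
      rwa [ZMod.val_natCast, ZMod.val_natCast, Nat.mod_eq_of_lt (h2 y), Nat.mod_eq_of_lt (h2 x)] at this
    refine ⟨hc', fun i _ => ?_, fun s hs' => ?_⟩
    · refine hq _ _ (Nat.xor_lt_two_pow (n := 8) hb (itW_lt hθ hb i))
        (Nat.xor_lt_two_pow (n := 8) hc' (itW_lt hθ hc' i)) ?_
      rw [dec_xor, dec_xor, act_add, hAb, act_it hθ hA.1 hb hc' hAb i]
    · obtain ⟨hs256, hsfix⟩ := fix_span hθ hA.1 d (l := l) (fun x hx => ⟨hl x hx,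
        hA.2 _ (List.mem_map.2 ⟨x, hx, rfl⟩)⟩) s hs'
      refine ⟨hq _ _ (Nat.xor_lt_two_pow (n := 8) hb hs256) (Nat.xor_lt_two_pow (n := 8) hc' hs256) ?_, ?_⟩
      · rw [dec_xor, dec_xor, act_add, hAb, hsfix]
      · rw [Bool.eq_iff_iff, beq_iff_eq, beq_iff_eq]
        constructor
        · intro e
          subst e
          have h1 := congrArg (act A⁻¹) (hAb.trans hsfix.symm)
          rw [act_inv_self, act_inv_self] at h1
          rw [← dec_inj b hb, h1, dec_inj _ hs256]
        · intro e
          subst e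
          rw [← dec_inj c hc', ← hAb, hsfix, dec_inj _ hs256]

end

/-- The bound for the centraliser of `θ`. -/
theorem card_psiC_le {w : List Step} (hH : winH w = true) (hw : wok w = true) (hT : tableOK w W = true)
    (d : ℕ) (base : List ℕ) (hb : base.all (fun b => decide (b < 256)) = true)
    (hs : spans W d base.reverse = true) :
    Nat.card (psiC (wel w)).range ≤ bound W d base [] := by
  have h := card_le (θ := ⟨wel w, wel_mem_H hH⟩) (fun m hm => table_spec hw hT hm) d base []
    (fun b hb' => by simpa using List.all_eq_true.1 hb b hb') (by simp) (by rwa [List.append_nil])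
  rw [List.map_nil, fixL_nil] at h
  refine le_trans (Subgroup.card_le_of_le ?_) h
  rintro _ ⟨g, rfl⟩
  rw [Subgroup.mem_centralizer_singleton_iff, psiC, MonoidHom.comp_apply, ← map_mul, ← map_mul]
  exact congrArg psi (Subtype.ext (mem_CH.1 g.2).2)

end Cfsg.Agent.OctadInv.Upper
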