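import Cfsg.Agent.Lib.OctadInv.Section
import Cfsg.Agent.Lib.OctadInv.Upper
import Cfsg.Agent.Lib.OctadInv.Lower
import Cfsg.Agent.Lib.Classical.OrthForms

/-!
The hypotheses for the section, from checkable data.
-/

set_option autoImplicit false
set_option maxRecDepth 20000

namespace Cfsg.Agent.OctadInv.Cert

open Cfsg Cfsg.Agent.Golay.Basic Cfsg.Agent.Golay.Cert Cfsg.Agent.LeechAut.Basic Cfsg.Agent.LeechAut.Cross
  Cfsg.Agent.OctadInv.Lattice Cfsg.Agent.OctadInv.Local Cfsg.Agent.OctadInv.Elements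
  Cfsg.Agent.OctadInv.Kernel Cfsg.Agent.OctadInv.Fixer Cfsg.Agent.OctadInv.Fix Cfsg.Agent.OctadInv.Rep
  Cfsg.Agent.OctadInv.Words Cfsg.Agent.OctadInv.Lower Cfsg.Agent.OctadInv.Section
  Cfsg.Agent.Classical.OrthForms Finset

/-- The index type. -/
abbrev I (m : ℕ) : Type := (Fin m ⊕ Fin m) ⊕ Fin 2

/-- The form. -/
noncomputable abbrev F (m : ℕ) : QuadraticForm (ZMod 2) (I m → ZMod 2) := minQ (ZMod 2) m 1 1

/-- The numbering of the coordinates. -/
def ixI (m : ℕ) : I m ≃ Fin (m + m + 2) :=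
  (Equiv.sumCongr finSumFinEquiv (Equiv.refl _)).trans finSumFinEquiv

/-- The partner in the hyperbolic basis. -/
def partner {m : ℕ} : I m → I m := Sum.map Sum.swap Fin.rev

theorem partner_partner {m : ℕ} (i : I m) : partner (partner i) = i := by
  rcases i with (i | i) | i <;> simp [partner]

/-- The word lies in the fixer. -/
def kOK (w : List Step) : Bool :=
  wok w && decide (∀ k, Upper.imgR w k = b k)

theorem wel_mem_K {w : List Step} (h : kOK w = true) : wel w ∈ K := by
  simp only [kOK, Bool.and_eq_true, decide_eq_true_eq] at h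
  intro v hv
  have hb : ∀ k, wel w • bV k = bV k := fun k => by
    refine ext_L ((wel_mem_H_of h.1 h.2 k)) (bV_mem k) ?_
    rw [Upper.r_wel h.1, h.2, r_bV]
  rw [eq_comb hv, smul_comb]
  simp only [hb]
  rfl
where
  wel_mem_H_of {w : List Step} (hw : wok w = true) (hb : ∀ k, Upper.imgR w k = b k) (k : Fin 8) :
      wel w • bV k ∈ L := by
    refine mem_L.2 fun q hq => ?_
    have h1 : ∑ j, r (wel w • bV k) j ^ 2 = 32 := by rw [Upper.r_wel hw, hb, b_norm]
    have h2 : sqNorm ((wel w • bV k : leechLattice) : GolayPt → ℤ) = 32 := by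
      rw [LeechAut.Basic.sqNorm_smul, sqNorm_L (bV_mem k)]
      simp only [r_bV, b_norm]
    have h3 : ∑ p, ((wel w • bV k : leechLattice) : GolayPt → ℤ) p ^ 2 =
        ∑ j, r (wel w • bV k) j ^ 2 := h2.trans h1.symm
    have h4 : ∑ j, r (wel w • bV k) j ^ 2 =
        ∑ p ∈ Finset.univ.filter (· ∈ O), ((wel w • bV k : leechLattice) : GolayPt → ℤ) p ^ 2 := by
      rw [sum_filter, sum_O _ (fun p hp => if_neg hp)]
      exact sum_congr rfl fun j _ => by rw [if_pos (o_mem j)]; rfl
    rw [h4, ← sum_filter_add_sum_filter_not univ (· ∈ O), add_eq_left,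
      sum_eq_zero_iff_of_nonneg fun p _ => sq_nonneg _] at h3
    exact eq_zero_of_pow_eq_zero (h3 q (mem_filter.2 ⟨mem_univ _, hq⟩))

theorem wel_zw : wel zw = zK := by
  have e : maskSet 4120552 = Oᶜ := by decide +kernel
  have hm : isCode 4120552 = true ∧ 4120552 < 2 ^ 24 := by decide +kernel
  rw [zw, wel, List.map_cons, List.map_nil, List.prod_singleton, Step.el, dif_pos hm, zK]
  congr 1

theorem wel_sO : wel [.s 12656663] = eps := by
  have hm : isCode 12656663 = true ∧ 12656663 < 2 ^ 24 := by decide +kernel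
  rw [wel, List.map_cons, List.map_nil, List.prod_singleton, Step.el, dif_pos hm]
  rfl

/-- An optional central factor. -/
def zf (s : Bool) : List Step := if s then zw else []

theorem wel_zf (s : Bool) : wel (zf s) = zpow2 (if s then 1 else 0) := by
  cases s
  · rw [if_neg Bool.false_ne_true]; simp [zf, wel, zpow2]
  · rw [if_pos rfl, zf, if_pos rfl, wel_zw]; exact (if_neg one_ne_zero).symm

/-- The data. -/
structure Data (m k r : ℕ) where
  th : List Step
  p : ℕ
  d : ℕ
  N : ℕ
  W : List ℕ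
  base : List ℕ
  kw : I m → List Step
  M : Fin r → List Step
  Mi : Fin r → List Step
  sepAt : Fin r → Fin r → ℕ
  fw : List Step
  i0 : I m
  j0 : I m
  gw : Fin k → List Step
  tabs : List (List ℕ)
  sg : Fin k → I m → Bool
  chain : List (List (List ℕ))
  orb : List (List (List ℕ))

/-- What is checked. -/
structure Checks {m k r : ℕ} (D : Data m k r) where
  prime : D.p.Prime
  odd : D.p ≠ 2
  th_H : winH D.th = true
  th_ok : wok D.th = true
  th_pow : wsame (List.replicate D.p D.th).flatten [] = true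
  th_ne : wdiff D.th [] 0 = true ∨ ∃ i, wdiff D.th [] i = true
  table : Upper.tableOK D.th D.W = true
  base_lt : D.base.all (fun b => decide (b < 256)) = true
  base_spans : Upper.spans D.W D.d D.base.reverse = true
  bound_le : Upper.bound D.W D.d D.base [] ≤ D.p * D.N
  coord : ∀ (a : I m → ZMod 2) i, QuadraticMap.polar (Cfsg.quadFormMinus m (ZMod 2) 1 1) a
    (Pi.single (partner i) 1) = a i
  kw_K : ∀ i, kOK (D.kw i) = true
  kw_comm : ∀ i, wsame (D.kw i ++ D.th) (D.th ++ D.kw i) = true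
  gram : ∀ i j, wsame (D.kw i ++ D.kw j) (D.kw j ++ D.kw i ++ zf (decide (partner i = j))) = true
  gram_eq : ∀ i j : I m, QuadraticMap.polar (Cfsg.quadFormMinus m (ZMod 2) 1 1) (Pi.single i 1)
    (Pi.single j 1) = if partner i = j then 1 else 0
  square : ∀ i, wsame (D.kw i ++ D.kw i) (zf i.isRight) = true
  square_eq : ∀ i : I m, Cfsg.quadFormMinus m (ZMod 2) 1 1 (Pi.single i 1) =
    if i.isRight then 1 else 0
  M_K : ∀ i, kOK (D.M i) = true
  M_inv : ∀ i, wsame (D.M i ++ D.Mi i) [] = true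
  M_sep : ∀ i j, i = j ∨ wdiff (D.Mi i ++ D.M j ++ D.th) (D.th ++ (D.Mi i ++ D.M j)) (D.sepAt i j) = true
  M_size : 512 ≤ r * 2 ^ (m + m + 2 + 1)
  j0_ne : D.j0 ≠ partner D.i0 ∧ partner D.j0 ≠ partner D.i0
  fus_comm : wsame (D.fw ++ D.th) (D.th ++ D.fw) = true
  fus_eps : wsame (D.fw ++ [.s 12656663]) (D.kw D.i0 ++ D.fw) = true
  gw_H : ∀ a, winH (D.gw a) = true
  gw_comm : ∀ a, wsame (D.gw a ++ D.th) (D.th ++ D.gw a) = true
  tabs_add : ∀ a : Fin k, additive (m + m + 2) (D.tabs.getD a.1 []) = true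
  conj : ∀ a i, conjOK (ixI m) D.kw (D.gw a) (D.tabs.getD a.1 []) i (D.sg a i) = true
  dec_enc : ∀ v : I m → ZMod 2, decV (ixI m) (encV (ixI m) v) = v
  enc_lt : ∀ v : I m → ZMod 2, encV (ixI m) v < 2 ^ (m + m + 2)
  enc_dec : ∀ a < 2 ^ (m + m + 2), encV (ixI m) (decV (ixI m) a) = a
  chain_ok : chainOK D.tabs k (m + m + 2) D.chain 0 = true
  chain_size : D.N ≤ size D.chain
  orb_ok : orbitOK D.tabs k (m + m + 2) (2 ^ (ixI m D.i0).1) D.orb = true

variable {m k r : ℕ} {D : Data m k r} (c : Checks D)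

include c

/-- The basis. -/
noncomputable def basis : Basis (wel D.th) (F m) where
  kv i := wel (D.kw i)
  partner := partner
  partner_partner := partner_partner
  coord := by rw [minQ_eq]; exact c.coord
  mem i := wel_mem_K (c.kw_K i)
  comm i := by rw [← wel_append, ← wel_append, wsame_eq (c.kw_comm i)]
  gram i j := by
    rw [← wel_append, wsame_eq (c.gram i j), wel_append, wel_append, wel_zf, minQ_eq, c.gram_eq]
    simp
  square i := by rw [← wel_append, wsame_eq (c.square i), wel_zf, minQ_eq, c.square_eq]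
  θ_mem := wel_mem_H c.th_H
  upper := by
    refine ⟨r, fun i => wel (D.M i), fun i => wel_mem_K (c.M_K i), fun i j hij => ?_, ?_⟩
    · have h := wdiff_ne ((c.M_sep i j).resolve_left hij)
      rw [wel_append, wel_append, wel_append] at h
      rw [mul_eq_one_of (c.M_inv i)]
      rwa [wel_append] at h
    · refine le_of_le_of_eq c.M_size ?_
      rw [Fintype.card_sum, Fintype.card_sum, Fintype.card_fin, Fintype.card_fin]

/-- The generators. -/
noncomputable def gens (a : Fin k) : Gen (basis c) (ixI m) :=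
  Gen.of (basis c) (ixI m) D.kw (fun _ => rfl) wel_zw c.dec_enc c.enc_lt c.enc_dec (D.gw a) D.th rfl
    (c.gw_H a) (c.gw_comm a) (D.tabs.getD a.1 []) (c.tabs_add a) (D.sg a) (c.conj a)

/-- The hypotheses. -/
noncomputable def hyp : Hyp (wel D.th) (F m) where
  B := basis c
  p := D.p
  prime := c.prime
  odd := c.odd
  pow := by
    have h : ∀ n, wel (List.replicate n D.th).flatten = wel D.th ^ n := fun n => by
      induction n with
      | zero => rfl
      | succ n ih => rw [List.replicate_succ, List.flatten_cons, wel_append, ih, pow_succ']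
    rw [← h, wsame_eq c.th_pow]
    rfl
  ne e := by
    obtain ⟨i, hi⟩ : ∃ i, wdiff D.th [] i = true := c.th_ne.elim (fun h => ⟨0, h⟩) id
    exact wdiff_ne hi (e.trans rfl)
  i0 := D.i0
  j0 := D.j0
  j0_ne := c.j0_ne
  fus := ⟨wel D.fw, by rw [← wel_append, ← wel_append, wsame_eq c.fus_comm],
    by rw [← wel_sO, ← wel_append, wsame_eq c.fus_eps, wel_append]; rfl⟩
  N := D.N
  upper := (Upper.card_psiC_le c.th_H c.th_ok c.table D.d D.base c.base_lt c.base_spans).trans c.bound_le
  lower := c.chain_size.trans (lower (gens c) (fun _ => rfl) c.enc_dec D.chain c.chain_ok)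
  orbit := orbit (gens c) (fun _ => rfl) D.orb D.i0 c.orb_ok

end Cfsg.Agent.OctadInv.Cert
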