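import Cfsg.Agent.Lib.OctadInv.Data3

/-!
Checks of the data for the element of order 3.
-/

set_option autoImplicit false
set_option maxRecDepth 100000
set_option maxHeartbeats 4000000

namespace Cfsg.Agent.OctadInv.Checks3Conj

open Cfsg Cfsg.Agent.OctadInv.Words Cfsg.Agent.OctadInv.Cert Cfsg.Agent.OctadInv.Lower Cfsg.Agent.OctadInv.Data3
open Cfsg.Agent.OctadInv

theorem conj0 : ∀ i, conjOK (ixI 2) D.kw (D.gw 0) (D.tabs.getD 0 []) i (D.sg 0 i) = true := by
  decide +kernel

theorem comm0 : wsame (D.gw 0 ++ D.th) (D.th ++ D.gw 0) = true := by decide +kernel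

theorem conj1 : ∀ i, conjOK (ixI 2) D.kw (D.gw 1) (D.tabs.getD 1 []) i (D.sg 1 i) = true := by
  decide +kernel

theorem comm1 : wsame (D.gw 1 ++ D.th) (D.th ++ D.gw 1) = true := by decide +kernel

theorem conj2 : ∀ i, conjOK (ixI 2) D.kw (D.gw 2) (D.tabs.getD 2 []) i (D.sg 2 i) = true := by
  decide +kernel

theorem comm2 : wsame (D.gw 2 ++ D.th) (D.th ++ D.gw 2) = true := by decide +kernel

theorem conj3 : ∀ i, conjOK (ixI 2) D.kw (D.gw 3) (D.tabs.getD 3 []) i (D.sg 3 i) = true := by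
  decide +kernel

theorem comm3 : wsame (D.gw 3 ++ D.th) (D.th ++ D.gw 3) = true := by decide +kernel

theorem conj4 : ∀ i, conjOK (ixI 2) D.kw (D.gw 4) (D.tabs.getD 4 []) i (D.sg 4 i) = true := by
  decide +kernel

theorem comm4 : wsame (D.gw 4 ++ D.th) (D.th ++ D.gw 4) = true := by decide +kernel

theorem conj : ∀ a i, conjOK (ixI 2) D.kw (D.gw a) (D.tabs.getD a.1 []) i (D.sg a i) = true := by
  intro a; fin_cases a
  · exact conj0
  · exact conj1
  · exact conj2
  · exact conj3
  · exact conj4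

theorem comm : ∀ a, wsame (D.gw a ++ D.th) (D.th ++ D.gw a) = true := by
  intro a; fin_cases a
  · exact comm0
  · exact comm1
  · exact comm2
  · exact comm3
  · exact comm4

end Cfsg.Agent.OctadInv.Checks3Conj
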