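import Cfsg.Agent.Lib.OctadInv.Checks5Conj

/-!
Checks of the data for the element of order 5.
-/

set_option autoImplicit false
set_option maxRecDepth 100000
set_option maxHeartbeats 4000000

namespace Cfsg.Agent.OctadInv.Checks5

open Cfsg Cfsg.Agent.OctadInv.Words Cfsg.Agent.OctadInv.Cert Cfsg.Agent.OctadInv.Lower Cfsg.Agent.OctadInv.Data5
open Cfsg.Agent.OctadInv

/-- The checks. -/
theorem checks : Checks D where
  prime := by norm_num [D]
  odd := by norm_num [D]
  th_ne := Or.inl (by decide +kernel)
  th_H := by decide +kernel
  th_ok := by decide +kernel
  th_pow := by decide +kernel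
  table := by decide +kernel
  base_lt := by decide +kernel
  base_spans := by decide +kernel
  bound_le := by decide +kernel
  coord := by decide +kernel
  kw_K := by decide +kernel
  kw_comm := by decide +kernel
  gram := by decide +kernel
  gram_eq := by decide +kernel
  square := by decide +kernel
  square_eq := by decide +kernel
  M_K := by decide +kernel
  M_inv := by decide +kernel
  M_sep := by decide +kernel
  M_size := by decide +kernel
  j0_ne := by decide +kernel
  fus_comm := by decide +kernel
  fus_eps := by decide +kernel
  gw_H := by decide +kernel
  tabs_add := by decide +kernel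
  dec_enc := by decide +kernel
  enc_lt := by decide +kernel
  enc_dec := by decide +kernel
  chain_ok := by decide +kernel
  chain_size := by decide +kernel
  orb_ok := by decide +kernel
  gw_comm := Checks5Conj.comm
  conj := Checks5Conj.conj

end Cfsg.Agent.OctadInv.Checks5
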