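import Cfsg.Agent.Lib.OctadInv.Ident

/-!
The sections satisfy the large extraspecial hypothesis.
-/

set_option autoImplicit false
set_option maxRecDepth 20000

namespace Cfsg.Agent.OctadInv.Conclude

open Cfsg Cfsg.Agent.LeechAut.Cross Cfsg.Agent.OctadInv.Words Cfsg.Agent.OctadInv.Rep Cfsg.Agent.OctadInv.Cert
  Cfsg.Agent.OctadInv.Section Cfsg.Agent.OctadInv.Lower Cfsg.Agent.OctadInv.Orbits Cfsg.Agent.OctadInv.Ident
  Cfsg.Agent.Classical.OrthForms

theorem omega_congr {ι : Type} [Fintype ι] [DecidableEq ι] {f g : (ι → ZMod 2) → ZMod 2} (h : f = g) :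
    Nonempty (Cfsg.Omega (ZMod 2) f ≃* Cfsg.Omega (ZMod 2) g) := by
  subst h
  exact ⟨MulEquiv.refl _⟩

variable {m k r : ℕ} {D : Cert.Data m k r}

/-- The conclusion, once the image of the action is known. -/
theorem conclude (c : Checks D) (hom : (chi (hyp c).B).range = Cfsg.Omega (ZMod 2) ⇑(F m))
    (hs : IsSimpleGroup (chi (hyp c).B).range) (hodd : ∃ q, q.Prime ∧ q ≠ 2 ∧ q ∣ D.N) :
    ∃ A : Subgroup ↥Cfsg.Co0, Nat.card A = D.p ∧
      ∃ (hn : ((A ⊔ Subgroup.center ↥Cfsg.Co0).subgroupOf (Subgroup.centralizer (A : Set ↥Cfsg.Co0))).Normal),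
      ∃ (S : Type) (_ : Group S) (_ : Finite S),
        Nonempty (S ≃* ↥(Subgroup.centralizer (A : Set ↥Cfsg.Co0)) ⧸
          (A ⊔ Subgroup.center ↥Cfsg.Co0).subgroupOf (Subgroup.centralizer (A : Set ↥Cfsg.Co0))) ∧
        IsSimpleGroup S ∧ ¬ IsMulCommutative S ∧ ∃ z : S, orderOf z = 2 ∧
          ∃ (Q : Subgroup (Subgroup.centralizer ({z} : Set S))) (_ : Q.Normal),
            Cfsg.generalizedFittingSubgroup (Subgroup.centralizer ({z} : Set S)) = Q ∧
            Cfsg.IsExtraspecial 2 Q ∧ Nat.card Q = 2 ^ (m + m + 2 + 1) ∧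
            Nonempty ((Subgroup.centralizer ({z} : Set S)) ⧸ Q ≃*
              Cfsg.Omega (ZMod 2) (Cfsg.quadFormMinus m (ZMod 2) 1 1)) ∧
            ∃ g : S, (∃ hq : g * z * g⁻¹ ∈ Subgroup.centralizer ({z} : Set S),
              (⟨g * z * g⁻¹, hq⟩ : Subgroup.centralizer ({z} : Set S)) ∈ Q) ∧ g * z * g⁻¹ ≠ z := by
  have hord : orderOf (wel D.th) = D.p := by
    haveI := Fact.mk c.prime
    exact orderOf_eq_prime (hyp c).pow (hyp c).ne
  refine ⟨Subgroup.zpowers (wel D.th), by rw [Nat.card_zpowers, hord], normal_Nn, S (wel D.th),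
    inferInstance, finite_S, ⟨MulEquiv.refl _⟩, ?_⟩
  haveI := finite_S (θ := wel D.th)
  have hd := Section.data (hyp c) hs
  have h2 := not_two_group (hyp c) hs hodd
  refine ⟨LargeExtra.SimpleCrit.isSimple hd, LargeExtra.SimpleCrit.not_comm hd, zS (hyp c),
    orderOf_zS (hyp c), Q (hyp c), inferInstance, LargeExtra.SimpleCrit.genFitting_eq hd h2,
    isExtraspecial_Q (hyp c), ?_, ?_, ?_⟩
  · rw [card_Q, Fintype.card_sum, Fintype.card_sum, Fintype.card_fin, Fintype.card_fin]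
  · obtain ⟨e⟩ := omega_congr (minQ_eq (F := ZMod 2) m 1 1)
    exact ⟨((quotientEquiv (hyp c)).trans (MulEquiv.subgroupCongr hom)).trans e⟩
  · obtain ⟨g, hq, hmem, hne, -⟩ := hd.fuse
    exact ⟨g, ⟨hq, hmem⟩, hne⟩

end Cfsg.Agent.OctadInv.Conclude
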