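import Mathlib.Init

/-!
Data for the octad involution: tables of the translations fixing the octad pointwise, tables of two
permutations of the octad, and a spanning tree of the orbit of a singular vector (vector, parent,
generator).
-/

set_option autoImplicit false

namespace Cfsg.Agent.OctadInv.Data

/-- The sixteen translations. -/
def fkTabs : List Nat := [984818244535754528103549039458486304,
  984202951082164080105044112956360736,
  984158983359129550953007900942075936,
  984640207867706564859662542320142368,
  984314827592033236074561707266279456,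
  984286808134369956147200099073951776,
  984404951986650291017642929327245344,
  984370798342469428377360417207715872,
  984556696046180253327513914419054624,
  984724508489452699215480746259449888,
  984433695522452451222587287024404512,
  984235865005994746954145143334668320,
  984778571922801353358945941669349408,
  984522237791282842243827263779473440,
  984674686509231270848998217272133664,
  984085346507332711729061765015308320]

/-- A three-cycle on the octad. -/
def tabA : Nat := 984774989556509895158315093313290305

/-- A seven-cycle on the octad. -/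
def tabB : Nat := 167946735687565404152605116114000960

/-- A code word meeting the octad in its first two points. -/
def sgMask : Nat := 3719203

/-- The orbit tree. -/
def tree : List (Nat × Nat × Nat) := [(8, 0, 0), (28, 0, 3), (72, 1, 1), (13, 2, 0), (30, 2, 1), (64, 2, 2),
  (220, 2, 3), (110, 3, 0), (44, 3, 1), (153, 3, 3), (56, 4, 0), (88, 4, 1),
  (22, 4, 2), (10, 4, 3), (5, 5, 0), (192, 5, 3), (222, 6, 1), (250, 6, 2),
  (125, 7, 1), (102, 7, 2), (105, 8, 0), (123, 8, 1), (36, 8, 2), (236, 9, 1),
  (183, 9, 2), (59, 10, 1), (48, 10, 2), (126, 11, 0), (80, 11, 2), (204, 11, 3),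
  (24, 13, 1), (2, 13, 2), (133, 14, 3), (150, 15, 1), (230, 15, 2), (189, 16, 0),
  (206, 16, 1), (240, 16, 2), (74, 16, 3), (9, 18, 1), (117, 19, 1), (73, 20, 1),
  (93, 21, 0), (41, 21, 1), (115, 21, 2), (111, 21, 3), (97, 22, 0), (237, 23, 1),
  (194, 23, 2), (120, 23, 3), (135, 24, 1), (55, 24, 3), (63, 25, 1), (175, 25, 3),
  (51, 26, 1), (118, 27, 2), (234, 27, 3), (208, 28, 3), (174, 29, 1), (12, 30, 3),
  (16, 31, 1), (164, 32, 1), (171, 32, 2), (176, 33, 0), (245, 34, 1), (155, 35, 0),
  (159, 35, 1), (190, 36, 1), (224, 36, 2), (90, 36, 3), (165, 37, 1), (112, 37, 3),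
  (14, 38, 1), (157, 39, 3), (1, 40, 1), (65, 41, 2), (85, 42, 2), (15, 43, 0),
  (95, 43, 1), (33, 43, 2), (103, 45, 2), (249, 47, 1), (195, 47, 2), (161, 48, 0),
  (134, 48, 1), (66, 48, 3), (45, 49, 1), (180, 50, 1), (7, 50, 3), (255, 53, 1),
  (129, 53, 2), (179, 54, 3), (246, 55, 3), (205, 56, 1), (235, 58, 1), (128, 58, 2),
  (186, 58, 3), (225, 61, 0), (243, 61, 1), (130, 61, 2), (207, 62, 1), (219, 64, 2),
  (252, 65, 1), (185, 66, 0), (11, 66, 3), (144, 67, 2), (170, 67, 3), (131, 68, 0),
  (213, 68, 1), (96, 68, 3), (231, 70, 1), (37, 70, 3), (75, 72, 0), (40, 72, 1),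
  (6, 72, 2), (26, 72, 3), (20, 74, 1), (4, 75, 0), (60, 77, 1), (87, 79, 1),
  (215, 81, 2), (160, 82, 0), (146, 82, 1), (104, 86, 0), (52, 88, 1), (217, 89, 2),
  (148, 90, 1), (193, 97, 1), (210, 102, 2), (3, 104, 2), (132, 106, 2), (32, 113, 2),
  (67, 114, 0), (18, 115, 2), (82, 119, 1)]

end Cfsg.Agent.OctadInv.Data
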