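import Cfsg.Agent.Lib.OctadInv.Hom
import Cfsg.Agent.Lib.OctadInv.Data
import Cfsg.Agent.Lib.Golay.Cert
import Cfsg.Prelude.Def_SporadicCombinatorics

/-!
Elements of the centraliser: the monomial ones, the pointwise fixers of the sublattice, four
explicit generators.
-/

set_option autoImplicit false
set_option maxRecDepth 20000

namespace Cfsg.Agent.OctadInv.Elements

open Cfsg Cfsg.Agent.Golay.Basic Cfsg.Agent.Golay.Design Cfsg.Agent.Golay.OctadStab
  Cfsg.Agent.Golay.Cert Cfsg.Agent.Leech.Basic Cfsg.Agent.Leech.Index Cfsg.Agent.LeechAut.Basic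
  Cfsg.Agent.LeechAut.Cross Cfsg.Agent.LeechAut.Maximal Cfsg.Agent.LeechAut.Xi
  Cfsg.Agent.OctadInv.Lattice Cfsg.Agent.OctadInv.Local Cfsg.Agent.OctadInv.Hom Finset
open Cfsg.Agent.Golay.M24 (tabAt)
open scoped Pointwise

theorem mono_apply (p : M24 × codeSets) (v : leechLattice) (i : GolayPt) :
    ((mono p • v : leechLattice) : Vec) i =
      if i ∈ p.2.1 then -(v : Vec) ((p.1 : Equiv.Perm GolayPt).symm i)
      else (v : Vec) ((p.1 : Equiv.Perm GolayPt).symm i) := by
  rw [mono_smul]; rfl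

theorem frame_off {i q : GolayPt} (h : q ≠ i) : ((frame i : leechLattice) : Vec) q = 0 := by
  rw [frame_coe, Pi.single_eq_of_ne h]

theorem frame_on (i : GolayPt) : ((frame i : leechLattice) : Vec) i = 8 := by
  rw [frame_coe, Pi.single_eq_same]

theorem mono_mem_H {p : M24 × codeSets} : mono p ∈ H ↔ (p.1 : Equiv.Perm GolayPt) • O = O := by
  constructor
  · intro h
    refine eq_of_subset_of_card_le (fun q hq => ?_) (by rw [card_smul_finset])
    obtain ⟨i, hi, rfl⟩ := mem_smul_finset.1 hq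
    by_contra hn
    have := mem_L.1 ((h _).2 (frame_mem_L hi)) _ hn
    rw [mono_apply, show (p.1 : Equiv.Perm GolayPt).symm ((p.1 : Equiv.Perm GolayPt) • i) = i from
      Equiv.symm_apply_apply _ i, frame_on] at this
    split_ifs at this <;> omega
  · intro h v
    have hmem : ∀ i, i ∈ O ↔ (p.1 : Equiv.Perm GolayPt).symm i ∈ O := fun i => by
      constructor
      · intro hi
        rw [← h] at hi
        obtain ⟨j, hj, rfl⟩ := mem_smul_finset.1 hi
        show (p.1 : Equiv.Perm GolayPt).symm ((p.1 : Equiv.Perm GolayPt) j) ∈ O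
        rwa [Equiv.symm_apply_apply]
      · intro hi
        rw [← h]
        exact mem_smul_finset.2 ⟨_, hi, Equiv.apply_symm_apply _ i⟩
    constructor
    · intro hv q hq
      have := mem_L.1 hv ((p.1 : Equiv.Perm GolayPt) q)
        (fun hc => hq (by have := (hmem _).1 hc; rwa [Equiv.symm_apply_apply] at this))
      rw [mono_apply, Equiv.symm_apply_apply] at this
      split_ifs at this <;> omega
    · intro hv q hq
      rw [mono_apply, mem_L.1 hv _ (fun hc => hq ((hmem q).2 hc))]
      simp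

theorem negOne_mem_H : negOne ∈ H := fun v => by
  rw [negOne_smul]
  exact L.neg_mem_iff

/-! ### The pointwise fixer -/

/-- The elements fixing the sublattice pointwise. -/
def K : Subgroup Co0 where
  carrier := {g | ∀ v ∈ L, g • v = v}
  one_mem' := fun v _ => one_smul _ v
  mul_mem' := fun {a b} ha hb v hv => by rw [mul_smul, hb v hv, ha v hv]
  inv_mem' := fun {a} ha v hv => inv_smul_eq_iff.2 (ha v hv).symm

theorem mem_K {g : Co0} : g ∈ K ↔ ∀ v ∈ L, g • v = v := Iff.rfl

theorem K_le_H : K ≤ H := fun g hg v => by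
  refine ⟨fun h => ?_, fun h => by rw [hg v h]; exact h⟩
  rw [← MulAction.injective g (hg (g • v) h)]
  exact h

theorem none_mem_O : none ∈ O := by decide +kernel

theorem K_le_cross : K ≤ crossStab := fun _ hg => mem_crossStab_of_fix (hg _ (frame_mem_L none_mem_O))

theorem mono_mem_K {p : M24 × codeSets} :
    mono p ∈ K ↔ (p.1 : Equiv.Perm GolayPt) ∈ FK O ∧ Disjoint p.2.1 O := by
  constructor
  · intro h
    have key : ∀ i ∈ O, (p.1 : Equiv.Perm GolayPt) i = i ∧ i ∉ p.2.1 := fun i hi => by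
      have e := congrArg (fun w : leechLattice => (w : Vec) i) (h _ (frame_mem_L hi))
      simp only [mono_apply, frame_on] at e
      by_cases hne : (p.1 : Equiv.Perm GolayPt).symm i = i
      · rw [hne, frame_on] at e
        refine ⟨(Equiv.symm_apply_eq _).1 hne |>.symm, fun hc => ?_⟩
        rw [if_pos hc] at e
        omega
      · rw [frame_off hne] at e
        split_ifs at e <;> omega
    exact ⟨mem_FK.2 ⟨p.1.2, fun i hi => (key i hi).1⟩,
      Finset.disjoint_left.2 fun i hc hi => (key i hi).2 hc⟩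
  · rintro ⟨h1, h2⟩
    have hH : mono p ∈ H := mono_mem_H.2 (FK_le_OK O h1).2
    intro v hv
    refine ext_L ((hH v).2 hv) hv (funext fun k => ?_)
    show ((mono p • v : leechLattice) : Vec) (o k) = (v : Vec) (o k)
    rw [mono_apply, if_neg (Finset.disjoint_right.1 h2 (o_mem k)),
      show (p.1 : Equiv.Perm GolayPt).symm (o k) = o k from
        (Equiv.symm_apply_eq _).2 ((mem_FK.1 h1).2 _ (o_mem k)).symm]

theorem exists_mono_K {g : Co0} (hg : g ∈ K) :
    ∃ p : M24 × codeSets, ((p.1 : Equiv.Perm GolayPt) ∈ FK O ∧ Disjoint p.2.1 O) ∧ mono p = g := by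
  obtain ⟨p, rfl⟩ := exists_mono g (K_le_cross hg)
  exact ⟨p, mono_mem_K.1 hg, rfl⟩

theorem card_avoid : Nat.card {c : codeSets // Disjoint c.1 O} = 32 := by
  have h : {s : Finset GolayPt | s ∈ codeSets ∧ Disjoint s O}.ncard = 32 :=
    ncard_code_filter' (fun m => m &&& 12656663 == 0) _ (fun s => by
      simp [mem_supports_iff, disjoint_iff_mask, mask_O]) _ (by decide +kernel)
  rw [← h, ← Nat.card_coe_set_eq]
  exact Nat.card_congr (Equiv.subtypeSubtypeEquivSubtypeInter (fun s => s ∈ codeSets) (fun s => Disjoint s O))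

theorem card_K : Nat.card K = 512 := by
  let f : FK O × {c : codeSets // Disjoint c.1 O} → K := fun p =>
    ⟨mono (⟨p.1.1, p.1.2.1⟩, p.2.1), mono_mem_K.2 ⟨p.1.2, p.2.2⟩⟩
  rw [← Nat.card_congr (Equiv.ofBijective f ⟨?_, ?_⟩), Nat.card_prod, card_FK O_octad, card_avoid]
  · intro a b hab
    have := mono_injective (congrArg Subtype.val hab)
    exact Prod.ext (Subtype.ext (congrArg (fun q : M24 × codeSets => (q.1 : Equiv.Perm GolayPt)) this))
      (Subtype.ext (congrArg Prod.snd this))
  · rintro ⟨g, hg⟩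
    obtain ⟨p, ⟨h1, h2⟩, rfl⟩ := exists_mono_K hg
    exact ⟨(⟨p.1.1, h1⟩, ⟨p.2, h2⟩), rfl⟩

/-- The monomial part of the centraliser. -/
def crossH : Subgroup Co0 := crossStab ⊓ H

theorem card_crossH : Nat.card crossH = 322560 * 4096 := by
  let f : OK O × codeSets → crossH := fun p =>
    ⟨mono (⟨p.1.1, p.1.2.1⟩, p.2), mono_fixesCross _, mono_mem_H.2 p.1.2.2⟩
  rw [← Nat.card_congr (Equiv.ofBijective f ⟨?_, ?_⟩), Nat.card_prod, card_OK O_octad, card_codeSets]
  · intro a b hab
    have := mono_injective (congrArg Subtype.val hab)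
    exact Prod.ext (Subtype.ext (congrArg (fun q : M24 × codeSets => (q.1 : Equiv.Perm GolayPt)) this))
      (congrArg (fun q : M24 × codeSets => q.2) this)
  · rintro ⟨g, hg1, hg2⟩
    obtain ⟨p, rfl⟩ := exists_mono g hg1
    exact ⟨(⟨p.1.1, p.1.2, mono_mem_H.1 hg2⟩, p.2), rfl⟩

/-! ### Four generators -/

theorem empty_code : (∅ : Finset GolayPt) ∈ codeSets := empty_mem

/-- The local form of a permutation of the octad. -/
def permR (s : Fin 8 → Fin 8) (x : Fin 8 → ℤ) : Fin 8 → ℤ := fun k => x (s k)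

theorem tabA_ok : tabOK Data.tabA = true := by decide +kernel

theorem tabB_ok : tabOK Data.tabB = true := by decide +kernel

theorem sg_code : maskSet Data.sgMask ∈ codeSets :=
  mem_supports_iff.2 (by rw [mask_maskSet (by norm_num [Data.sgMask])]; decide +kernel)

/-- The element of a table. -/
noncomputable def tabEl (t : ℕ) (h : tabOK t = true) : Co0 :=
  mono (⟨tabPerm t, tabPerm_mem h⟩, ⟨∅, empty_code⟩)

/-- The element of the code word. -/
def sgEl : Co0 := mono (1, ⟨maskSet Data.sgMask, sg_code⟩)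

theorem tabEl_mem {t : ℕ} (h : tabOK t = true) (hO : imgTab t 12656663 = 12656663) : tabEl t h ∈ H := by
  refine mono_mem_H.2 (mask_injective ?_)
  show mask (tabPerm t • O) = mask O
  rw [← imgTab_mask (isTab_tabPerm h), mask_O, hO]

theorem r_tabEl {t : ℕ} (h : tabOK t = true) (s : Fin 8 → Fin 8)
    (hs : ∀ k, tabAt t (ix (o (s k))) = ix (o k)) (v : leechLattice) :
    r (tabEl t h • v) = permR s (r v) := funext fun k => by
  show ((tabEl t h • v : leechLattice) : Vec) (o k) = _
  rw [tabEl, mono_apply, if_neg (Finset.notMem_empty _)]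
  refine congrArg (v : Vec) ((Equiv.symm_apply_eq _).2 (ix_injective ?_))
  rw [isTab_tabPerm h, hs]

theorem sgEl_mem : sgEl ∈ H := mono_mem_H.2 (one_smul _ O)

/-- The local form of the sign change. -/
def sgR (x : Fin 8 → ℤ) : Fin 8 → ℤ := fun k => if k.1 < 2 then -x k else x k

theorem r_sgEl (v : leechLattice) : r (sgEl • v) = sgR (r v) := funext fun k => by
  show ((sgEl • v : leechLattice) : Vec) (o k) = _
  have : ∀ k, (o k ∈ maskSet Data.sgMask ↔ k.1 < 2) := by decide +kernel
  rw [sgEl, mono_apply]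
  simp only [this, sgR, r]
  rfl

/-- The local form of the sextet element. -/
def xiR (x : Fin 8 → ℤ) : Fin 8 → ℤ := fun k =>
  if k.1 < 4 then -((x 0 + x 1 + x 2 + x 3) / 2 - x k) else (x 4 + x 5 + x 6 + x 7) / 2 - x k

theorem xi_pos : ∀ (j : Fin 4), pos (0, j) = o ⟨j.1, by omega⟩ ∧ pos (1, j) = o ⟨j.1 + 4, by omega⟩ := by
  decide +kernel

theorem xi_blk : ∀ k : Fin 8, blk (o k) = if k.1 < 4 then 0 else 1 := by decide +kernel

theorem xi_off : ∀ p, p ∉ O → ∀ j, pos (blk p, j) ∉ O := by decide +kernel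

theorem r_xi (v : leechLattice) : r (xi • v) = xiR (r v) := funext fun k => by
  show ((xi • v : leechLattice) : Vec) (o k) = _
  rw [xi_smul, xiFun, xi_blk]
  fin_cases k <;> simp [bsum, sg, xiR, r, (xi_pos _).1, (xi_pos _).2]

theorem xi_maps {v : leechLattice} (hv : v ∈ L) : xi • v ∈ L := fun p hp => by
  rw [xi_smul, xiFun, bsum, mem_L.1 hv _ (xi_off p hp 0), mem_L.1 hv _ (xi_off p hp 1),
    mem_L.1 hv _ (xi_off p hp 2), mem_L.1 hv _ (xi_off p hp 3), mem_L.1 hv p hp]
  simp

theorem xi_mem_H : xi ∈ H := fun v => by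
  refine ⟨fun h => ?_, xi_maps⟩
  have := xi_maps h
  rwa [show xi • xi • v = v from Subtype.ext (xi_xi v.2)] at this

end Cfsg.Agent.OctadInv.Elements
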