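import Cfsg.Agent.Lib.OctadInv.Fixer
import Cfsg.Agent.Lib.OctadInv.Words

/-!
The fixer of the sublattice commuting with an element of the centraliser: coordinates modulo the
centre from the commutators with a given hyperbolic basis.
-/

set_option autoImplicit false

open scoped Classical

namespace Cfsg.Agent.OctadInv.Fix

open Cfsg Cfsg.Agent.LeechAut.Basic Cfsg.Agent.OctadInv.Lattice Cfsg.Agent.OctadInv.Elements
  Cfsg.Agent.OctadInv.Fixer Finset
open scoped commutatorElement

theorem zmod_two (a : ZMod 2) : a = 0 ∨ a = 1 := by revert a; decide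

theorem zK_sq : zK * zK = 1 := by
  rw [zK]
  calc sign Oᶜ Oc_code * sign Oᶜ Oc_code = sign Oᶜ Oc_code * (sign Oᶜ Oc_code)⁻¹ := by
        rw [LeechAut.Co1.sign_inv]
    _ = 1 := mul_inv_cancel _

/-- Commutators in the fixer are trivial or the central involution. -/
theorem comm_cases {a b : Co0} (ha : a ∈ K) (hb : b ∈ K) : a * b = b * a ∨ a * b = b * a * zK := by
  have hm : ⁅(⟨a⁻¹, K.inv_mem ha⟩ : K), (⟨b⁻¹, K.inv_mem hb⟩ : K)⁆ ∈ Subgroup.center K := by
    rw [← isExtraspecial_K.1.2.2]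
    exact Subgroup.commutator_mem_commutator (Subgroup.mem_top _) (Subgroup.mem_top _)
  rcases center_cases (SetLike.coe_mem _) (fun y hy => congrArg Subtype.val
    (Subgroup.mem_center_iff.1 hm ⟨y, hy⟩)) with e | e <;>
    simp only [commutatorElement_def, Subgroup.coe_mul, InvMemClass.coe_inv, inv_inv] at e
  · left
    calc a * b = b * a * (a⁻¹ * b⁻¹ * a * b) := by group
      _ = b * a := by rw [e, mul_one]
  · right
    calc a * b = b * a * (a⁻¹ * b⁻¹ * a * b) := by group
      _ = b * a * zK := by rw [e]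

/-- The commutator indicator. -/
noncomputable def cz (a b : Co0) : ZMod 2 := if a * b = b * a then 0 else 1

/-- The squaring indicator. -/
noncomputable def sq (a : Co0) : ZMod 2 := if a * a = 1 then 0 else 1

/-- A power of the central involution. -/
def zpow2 (e : ZMod 2) : Co0 := if e = 0 then 1 else zK

theorem zpow2_add (e e' : ZMod 2) : zpow2 (e + e') = zpow2 e * zpow2 e' := by
  rcases zmod_two e with rfl | rfl <;> rcases zmod_two e' with rfl | rfl
  · simp [zpow2]
  · simp [zpow2]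
  · simp [zpow2]
  · have h0 : (1 + 1 : ZMod 2) = 0 := by decide
    simp [zpow2, h0, zK_sq]

theorem zpow2_injective : Function.Injective zpow2 := by
  intro e e' h
  rcases zmod_two e with rfl | rfl <;> rcases zmod_two e' with rfl | rfl <;>
    simp [zpow2, zK_ne_one, Ne.symm zK_ne_one] at h ⊢

theorem comm_eq {a b : Co0} (ha : a ∈ K) (hb : b ∈ K) : a * b = b * a * zpow2 (cz a b) := by
  by_cases h : a * b = b * a
  · simp [zpow2, cz, h]
  · simpa [zpow2, cz, h] using (comm_cases ha hb).resolve_left h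

theorem sq_eq {a : Co0} (ha : a ∈ K) : a * a = zpow2 (sq a) := by
  by_cases h : a * a = 1
  · simp [zpow2, sq, h]
  · simpa [zpow2, sq, h] using (sq_cases ha).resolve_left h

theorem cz_eq_of {a b : Co0} (ha : a ∈ K) (hb : b ∈ K) {e : ZMod 2} (h : a * b = b * a * zpow2 e) :
    cz a b = e :=
  zpow2_injective (mul_left_cancel ((comm_eq ha hb).symm.trans h))

theorem sq_eq_of {a : Co0} (ha : a ∈ K) {e : ZMod 2} (h : a * a = zpow2 e) : sq a = e :=
  zpow2_injective ((sq_eq ha).symm.trans h)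

theorem zpow2_comm (e : ZMod 2) {a : Co0} (ha : a ∈ K) : a * zpow2 e = zpow2 e * a := by
  rcases zmod_two e with rfl | rfl
  · simp [zpow2]
  · simpa [zpow2] using zK_central a ha

theorem cz_mul_left {a b c : Co0} (ha : a ∈ K) (hb : b ∈ K) (hc : c ∈ K) :
    cz (a * b) c = cz a c + cz b c := by
  refine cz_eq_of (K.mul_mem ha hb) hc ?_
  rw [zpow2_add]
  calc a * b * c = a * (c * b * zpow2 (cz b c)) := by rw [mul_assoc, comm_eq hb hc]
    _ = (a * c) * b * zpow2 (cz b c) := by group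
    _ = (c * a * zpow2 (cz a c)) * b * zpow2 (cz b c) := by rw [comm_eq ha hc]
    _ = c * a * (zpow2 (cz a c) * b) * zpow2 (cz b c) := by group
    _ = c * a * (b * zpow2 (cz a c)) * zpow2 (cz b c) := by rw [zpow2_comm _ hb]
    _ = c * (a * b) * (zpow2 (cz a c) * zpow2 (cz b c)) := by group

theorem cz_comm (a b : Co0) : cz a b = cz b a := by
  classical
  simp only [cz, eq_comm (a := a * b)]

theorem sq_mul {a b : Co0} (ha : a ∈ K) (hb : b ∈ K) : sq (a * b) = sq a + sq b + cz a b := by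
  refine sq_eq_of (K.mul_mem ha hb) ?_
  rw [zpow2_add, zpow2_add, cz_comm a b]
  calc a * b * (a * b) = a * (b * a) * b := by group
    _ = a * (a * b * zpow2 (cz b a)) * b := by rw [comm_eq hb ha]
    _ = a * a * b * (zpow2 (cz b a) * b) := by group
    _ = a * a * b * (b * zpow2 (cz b a)) := by rw [zpow2_comm _ hb]
    _ = a * a * (b * b) * zpow2 (cz b a) := by group
    _ = _ := by rw [sq_eq ha, sq_eq hb]

theorem cz_self (a : Co0) : cz a a = 0 := by simp [cz]

theorem sq_one : sq 1 = 0 := by simp [sq]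

theorem cz_one (a : Co0) : cz 1 a = 0 := by simp [cz]

theorem cz_zK {a : Co0} (ha : a ∈ K) : cz zK a = 0 := by simp [cz, (zK_central a ha).symm]

theorem sq_zK : sq zK = 0 := by simp [sq, zK_sq]

theorem negOne_notMem_K : negOne ∉ K := by
  intro h
  have := congrArg (fun v : leechLattice => (v : Cfsg.GolayPt → ℤ) none) (h _ (frame_mem_L none_mem_O))
  simp only [negOne_smul, AddSubgroup.coe_neg, Pi.neg_apply, frame_on] at this
  omega

theorem cz_conj (g a b : Co0) : cz (g * a * g⁻¹) (g * b * g⁻¹) = cz a b := by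
  classical
  have e : ∀ x y : Co0, g * x * g⁻¹ * (g * y * g⁻¹) = g * (x * y) * g⁻¹ := fun x y => by group
  simp only [cz, e, mul_left_inj, mul_right_inj]

theorem sq_conj (g a : Co0) : sq (g * a * g⁻¹) = sq a := by
  classical
  have e : g * a * g⁻¹ * (g * a * g⁻¹) = g * (a * a) * g⁻¹ := by group
  simp only [sq, e, conj_eq_one_iff]

theorem conj_K {g : Co0} (hg : g ∈ H) {a : Co0} (ha : a ∈ K) : g * a * g⁻¹ ∈ K := by
  intro v hv
  rw [mul_smul, mul_smul, ha _ ((H.inv_mem hg _).2 hv), smul_inv_smul]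

/-- A hyperbolic basis of the fixer of `θ` modulo the centre. -/
structure Basis (θ : Co0) {ι : Type} [Fintype ι] [DecidableEq ι]
    (P : QuadraticForm (ZMod 2) (ι → ZMod 2)) where
  kv : ι → Co0
  partner : ι → ι
  partner_partner : ∀ i, partner (partner i) = i
  coord : ∀ (a : ι → ZMod 2) i, QuadraticMap.polar P a (Pi.single (partner i) 1) = a i
  mem : ∀ i, kv i ∈ K
  comm : ∀ i, kv i * θ = θ * kv i
  gram : ∀ i j, kv i * kv j =
    kv j * kv i * zpow2 (QuadraticMap.polar P (Pi.single i 1) (Pi.single j 1))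
  square : ∀ i, kv i * kv i = zpow2 (P (Pi.single i 1))
  θ_mem : θ ∈ H
  upper : ∃ (r : ℕ) (M : Fin r → Co0), (∀ i, M i ∈ K) ∧
    (∀ i j, i ≠ j → (M i)⁻¹ * M j * θ ≠ θ * ((M i)⁻¹ * M j)) ∧ 512 ≤ r * 2 ^ (Fintype.card ι + 1)

variable {θ : Co0} {ι : Type} [Fintype ι] [DecidableEq ι] {P : QuadraticForm (ZMod 2) (ι → ZMod 2)}

/-- The fixer commuting with `θ`. -/
def Kth (θ : Co0) : Subgroup Co0 := K ⊓ Subgroup.centralizer {θ}

theorem mem_Kth {k : Co0} : k ∈ Kth θ ↔ k ∈ K ∧ k * θ = θ * k := by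
  simp [Kth, Subgroup.mem_centralizer_singleton_iff]

/-- The coordinates of an element of the fixer. -/
noncomputable def nu (B : Basis θ P) (k : Co0) : ι → ZMod 2 := fun i => cz k (B.kv (B.partner i))

theorem nu_mul (B : Basis θ P) {a b : Co0} (ha : a ∈ K) (hb : b ∈ K) :
    nu B (a * b) = nu B a + nu B b := funext fun i => cz_mul_left ha hb (B.mem _)

theorem nu_one (B : Basis θ P) : nu B 1 = 0 := funext fun _ => cz_one _

theorem nu_zK (B : Basis θ P) : nu B zK = 0 := funext fun i => cz_zK (B.mem _)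

theorem nu_inv (B : Basis θ P) {a : Co0} (ha : a ∈ K) : nu B a⁻¹ = nu B a := by
  have h := nu_mul B (K.inv_mem ha) ha
  rw [inv_mul_cancel, nu_one] at h
  funext i
  exact CharTwo.add_eq_zero.1 (congrFun h i).symm

theorem nu_kv (B : Basis θ P) (j : ι) : nu B (B.kv j) = Pi.single j 1 := funext fun i =>
  (cz_eq_of (B.mem j) (B.mem _) (B.gram j (B.partner i))).trans (B.coord _ i)

theorem kv_mem (B : Basis θ P) (i : ι) : B.kv i ∈ Kth θ := mem_Kth.2 ⟨B.mem i, B.comm i⟩

theorem zK_mem_Kth (B : Basis θ P) : zK ∈ Kth θ := by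
  refine mem_Kth.2 ⟨zK_mem, ?_⟩
  rw [zK_eq, mul_assoc, ← mem_H_iff.1 B.θ_mem, ← mul_assoc, ← negOne_comm, mul_assoc]

theorem exists_nu (B : Basis θ P) (v : ι → ZMod 2) : ∃ k ∈ Kth θ, nu B k = v := by
  let A : AddSubgroup (ι → ZMod 2) :=
    { carrier := {v | ∃ k ∈ Kth θ, nu B k = v}
      zero_mem' := ⟨1, one_mem _, nu_one B⟩
      add_mem' := by
        rintro _ _ ⟨a, ha, rfl⟩ ⟨b, hb, rfl⟩
        exact ⟨a * b, mul_mem ha hb, nu_mul B ha.1 hb.1⟩
      neg_mem' := by
        rintro _ ⟨a, ha, rfl⟩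
        exact ⟨a, ha, funext fun i => (CharTwo.neg_eq _).symm⟩ }
  have hs : ∀ i (c : ZMod 2), Pi.single i c ∈ A := by
    intro i c
    rcases zmod_two c with rfl | rfl
    · rw [Pi.single_zero]; exact A.zero_mem
    · exact ⟨B.kv i, kv_mem B i, nu_kv B i⟩
  show v ∈ A
  rw [← Finset.univ_sum_single v]
  exact sum_mem fun i _ => hs i (v i)

/-- The coordinates, as a homomorphism. -/
noncomputable def nuHom (B : Basis θ P) : Kth θ →* Multiplicative (ι → ZMod 2) where
  toFun k := Multiplicative.ofAdd (nu B k)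
  map_one' := by rw [OneMemClass.coe_one, nu_one]; rfl
  map_mul' a b := by rw [Subgroup.coe_mul, nu_mul B a.2.1 b.2.1]; rfl

theorem card_Kth_le (B : Basis θ P) : Nat.card (Kth θ) ≤ 2 ^ (Fintype.card ι + 1) := by
  obtain ⟨r, M, hM, hsep, hr⟩ := B.upper
  have : Finite Co0 := LeechAut.Cross.finite_Co0
  let f : Fin r × Kth θ → K := fun p => ⟨M p.1 * p.2.1, K.mul_mem (hM _) p.2.2.1⟩
  have hf : Function.Injective f := by
    rintro ⟨i, a⟩ ⟨j, b⟩ e
    have e' : M i * a.1 = M j * b.1 := congrArg Subtype.val e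
    by_cases hij : i = j
    · subst hij
      exact Prod.ext rfl (Subtype.ext (mul_left_cancel e'))
    · exfalso
      refine hsep i j hij ?_
      have h : (M i)⁻¹ * M j ∈ Kth θ := by
        rw [show (M i)⁻¹ * M j = a.1 * b.1⁻¹ by
          calc (M i)⁻¹ * M j = (M i)⁻¹ * (M j * b.1) * b.1⁻¹ := by group
            _ = _ := by rw [← e']; group]
        exact mul_mem a.2 (inv_mem b.2)
      exact (mem_Kth.1 h).2
  have h := Nat.card_le_card_of_injective f hf
  rw [Nat.card_prod, Nat.card_eq_fintype_card (α := Fin r), Fintype.card_fin, card_K] at h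
  rcases Nat.eq_zero_or_pos r with h0 | h0
  · subst h0; simp at hr
  · exact le_of_mul_le_mul_left (h.trans hr) h0

theorem nu_eq_zero (B : Basis θ P) {k : Co0} (hk : k ∈ Kth θ) (h : nu B k = 0) : k = 1 ∨ k = zK := by
  classical
  have : Finite Co0 := LeechAut.Cross.finite_Co0
  set φ := nuHom B
  have hsurj : Function.Surjective φ := fun v => by
    obtain ⟨k, hk, e⟩ := exists_nu B v.toAdd
    exact ⟨⟨k, hk⟩, congrArg Multiplicative.ofAdd e⟩
  have h1 := Subgroup.card_eq_card_quotient_mul_card_subgroup φ.ker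
  rw [Nat.card_congr (QuotientGroup.quotientKerEquivOfSurjective φ hsurj).toEquiv] at h1
  have h2 : Nat.card (Multiplicative (ι → ZMod 2)) = 2 ^ Fintype.card ι := by
    rw [Nat.card_congr Multiplicative.toAdd, Nat.card_fun, Nat.card_eq_fintype_card (α := ZMod 2),
      Nat.card_eq_fintype_card (α := ι), ZMod.card]
  have h3 := card_Kth_le B
  rw [h1, h2, pow_succ] at h3
  have h4 : Nat.card φ.ker ≤ 2 := le_of_mul_le_mul_left h3 (by positivity)
  have hz : (⟨zK, zK_mem_Kth B⟩ : Kth θ) ∈ φ.ker := congrArg Multiplicative.ofAdd (nu_zK B)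
  have hk' : (⟨k, hk⟩ : Kth θ) ∈ φ.ker := congrArg Multiplicative.ofAdd h
  by_contra hcon
  push Not at hcon
  have h5 : 2 < Nat.card φ.ker := by
    let g : Fin 3 → φ.ker := ![1, ⟨_, hz⟩, ⟨_, hk'⟩]
    have hg : Function.Injective g := by
      intro a b e
      have e' := congrArg (fun x : φ.ker => ((x : Kth θ) : Co0)) e
      fin_cases a <;> fin_cases b <;>
        simp [g, hcon.1, hcon.2, Ne.symm hcon.1, Ne.symm hcon.2, zK_ne_one, Ne.symm zK_ne_one] at e' ⊢
    have := Nat.card_le_card_of_injective g hg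
    rw [Nat.card_eq_fintype_card (α := Fin 3), Fintype.card_fin] at this
    omega
  omega

theorem card_Kth (B : Basis θ P) : Nat.card (Kth θ) = 2 ^ (Fintype.card ι + 1) := by
  classical
  have : Finite Co0 := LeechAut.Cross.finite_Co0
  refine le_antisymm (card_Kth_le B) ?_
  choose f hf hnu using exists_nu B
  let g : (ι → ZMod 2) × Bool → Kth θ := fun p =>
    if p.2 then ⟨f p.1 * zK, mul_mem (hf _) (zK_mem_Kth B)⟩ else ⟨f p.1, hf _⟩
  have hg : Function.Injective g := by
    rintro ⟨a, s⟩ ⟨b, t⟩ e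
    have e1 : nu B ((g (a, s)) : Co0) = nu B ((g (b, t)) : Co0) := by rw [e]
    have ha : ∀ c u, nu B ((g (c, u)) : Co0) = c := fun c u => by
      cases u
      · exact hnu c
      · show nu B (f c * zK) = c
        rw [nu_mul B (hf c).1 zK_mem, nu_zK, add_zero, hnu]
    rw [ha, ha] at e1
    subst e1
    have e2 : ((g (a, s)) : Co0) = g (a, t) := congrArg Subtype.val e
    cases s <;> cases t <;> simp [g, zK_ne_one] at e2 ⊢
  have h := Nat.card_le_card_of_injective g hg
  rw [Nat.card_prod, Nat.card_fun, Nat.card_eq_fintype_card (α := ZMod 2), ZMod.card,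
    Nat.card_eq_fintype_card (α := ι), Nat.card_eq_fintype_card (α := Bool), Fintype.card_bool] at h
  rwa [pow_succ]

theorem exists_gen (B : Basis θ P) {S : Subgroup Co0} (hS : S ≤ Kth θ) (hz : zK ∈ S)
    (h : ∀ i, B.kv i ∈ S) : S = Kth θ := by
  refine le_antisymm hS fun k hk => ?_
  let A : AddSubgroup (ι → ZMod 2) :=
    { carrier := {v | ∃ a ∈ S, nu B a = v}
      zero_mem' := ⟨1, one_mem _, nu_one B⟩
      add_mem' := by
        rintro _ _ ⟨a, ha, rfl⟩ ⟨b, hb, rfl⟩
        exact ⟨a * b, mul_mem ha hb, nu_mul B (hS ha).1 (hS hb).1⟩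
      neg_mem' := by
        rintro _ ⟨a, ha, rfl⟩
        exact ⟨a, ha, funext fun i => (CharTwo.neg_eq _).symm⟩ }
  have hs : ∀ i (c : ZMod 2), Pi.single i c ∈ A := by
    intro i c
    rcases zmod_two c with rfl | rfl
    · rw [Pi.single_zero]; exact A.zero_mem
    · exact ⟨B.kv i, h i, nu_kv B i⟩
  obtain ⟨a, ha, hnu⟩ : nu B k ∈ A := by
    rw [← Finset.univ_sum_single (nu B k)]
    exact sum_mem fun i _ => hs i _
  have h0 : nu B (a⁻¹ * k) = 0 := by
    rw [nu_mul B (K.inv_mem (hS ha).1) hk.1, nu_inv B (hS ha).1, hnu]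
    funext i
    exact CharTwo.add_self_eq_zero _
  rcases nu_eq_zero B (mul_mem (inv_mem (hS ha)) hk) h0 with e | e
  · rw [← inv_mul_eq_one.1 e]; exact ha
  · rw [show k = a * zK by rw [← e, mul_inv_cancel_left]]; exact mul_mem ha hz

theorem polar_add_left' (P : QuadraticForm (ZMod 2) (ι → ZMod 2)) (a b c : ι → ZMod 2) :
    QuadraticMap.polar P (a + b) c = QuadraticMap.polar P a c + QuadraticMap.polar P b c :=
  QuadraticMap.polar_add_left P a b c

theorem cz_eq_polar (B : Basis θ P) {a b : Co0} (ha : a ∈ Kth θ) (hb : b ∈ Kth θ) :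
    cz a b = QuadraticMap.polar P (nu B a) (nu B b) := by
  let S : Subgroup Co0 :=
    { carrier := {a | a ∈ Kth θ ∧ cz a b = QuadraticMap.polar P (nu B a) (nu B b)}
      one_mem' := ⟨one_mem _, by rw [cz_one, nu_one, QuadraticMap.polar_zero_left]⟩
      mul_mem' := by
        rintro x y ⟨hx, ex⟩ ⟨hy, ey⟩
        exact ⟨mul_mem hx hy, by rw [cz_mul_left hx.1 hy.1 hb.1, nu_mul B hx.1 hy.1, polar_add_left', ex, ey]⟩
      inv_mem' := by
        rintro x ⟨hx, ex⟩
        refine ⟨inv_mem hx, ?_⟩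
        rw [nu_inv B hx.1, ← ex]
        have := cz_mul_left (K.inv_mem hx.1) hx.1 hb.1
        rw [inv_mul_cancel, cz_one] at this
        exact CharTwo.add_eq_zero.1 this.symm }
  have hS : S = Kth θ := by
    refine exists_gen B (fun _ h => h.1) ⟨zK_mem_Kth B, ?_⟩ fun i => ⟨kv_mem B i, ?_⟩
    · rw [cz_zK hb.1, nu_zK, QuadraticMap.polar_zero_left]
    · have hc := B.coord (nu B b) (B.partner i)
      rw [B.partner_partner] at hc
      rw [nu_kv, QuadraticMap.polar_comm, hc, cz_comm]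
      show cz b (B.kv i) = cz b (B.kv (B.partner (B.partner i)))
      rw [B.partner_partner]
  exact ((SetLike.ext_iff.1 hS a).2 ha).2

theorem sq_eq_form (B : Basis θ P) {a : Co0} (ha : a ∈ Kth θ) : sq a = P (nu B a) := by
  let S : Subgroup Co0 :=
    { carrier := {a | a ∈ Kth θ ∧ sq a = P (nu B a)}
      one_mem' := ⟨one_mem _, by rw [sq_one, nu_one, map_zero]⟩
      mul_mem' := by
        rintro x y ⟨hx, ex⟩ ⟨hy, ey⟩
        refine ⟨mul_mem hx hy, ?_⟩
        rw [sq_mul hx.1 hy.1, nu_mul B hx.1 hy.1, ex, ey, cz_eq_polar B hx hy, QuadraticMap.polar]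
        ring
      inv_mem' := by
        rintro x ⟨hx, ex⟩
        refine ⟨inv_mem hx, ?_⟩
        rw [nu_inv B hx.1, ← ex]
        have := sq_mul (K.inv_mem hx.1) hx.1
        rw [inv_mul_cancel, sq_one] at this
        have hc : cz x⁻¹ x = 0 := by simp [cz]
        rw [hc, add_zero] at this
        exact CharTwo.add_eq_zero.1 this.symm }
  have hS : S = Kth θ := exists_gen B (fun _ h => h.1)
    ⟨zK_mem_Kth B, by rw [sq_zK, nu_zK, map_zero]⟩
    fun i => ⟨kv_mem B i, by rw [nu_kv]; exact sq_eq_of (B.mem i) (B.square i)⟩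
  exact ((SetLike.ext_iff.1 hS a).2 ha).2

theorem Kth_center (B : Basis θ P) {x : Co0} (hx : x ∈ Kth θ) (h : ∀ y ∈ Kth θ, y * x = x * y) :
    x = 1 ∨ x = zK := by
  refine nu_eq_zero B hx (funext fun i => ?_)
  have := h _ (kv_mem B (B.partner i))
  simp [nu, cz, this]

theorem isExtraspecial_Kth (B : Basis θ P) (i : ι) : Cfsg.IsExtraspecial 2 ↥(Kth θ) := by
  have : Finite Co0 := LeechAut.Cross.finite_Co0
  refine Cfsg.Agent.LargeExtra.Affine.isExtraspecial_mk (IsPGroup.of_card (card_Kth B))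
    (zK_mem_Kth B) zK_ne_one (fun x hx => zK_central x hx.1) (fun x hx => sq_cases hx.1)
    (fun x hx hc => Kth_center B hx hc) ⟨B.kv i, kv_mem B i, B.kv (B.partner i), kv_mem B _, fun e => ?_⟩
  have h := congrFun (nu_kv B i) i
  rw [Pi.single_eq_same] at h
  simp [nu, cz, e.symm] at h

end Cfsg.Agent.OctadInv.Fix
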