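import Cfsg.Agent.Lib.OctadInv.Local
import Cfsg.Agent.Lib.Classical.OrthForms

/-!
The action of the centraliser of the octad sign change on the sublattice modulo two.
-/

set_option autoImplicit false
set_option maxRecDepth 20000

namespace Cfsg.Agent.OctadInv.Hom

open Cfsg Cfsg.Agent.Leech.Basic Cfsg.Agent.LeechAut.Basic
  Cfsg.Agent.OctadInv.Lattice Cfsg.Agent.OctadInv.Local Finset
open scoped Matrix

/-- The isometry group of the hyperbolic form in dimension eight. -/
abbrev O8 : Subgroup (Matrix.GeneralLinearGroup (Fin 4 ⊕ Fin 4) (ZMod 2)) :=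
  Cfsg.isometryGroup (ZMod 2) (Cfsg.quadFormPlus 4 (ZMod 2))

/-- The induced map on reduced vectors. -/
def act2 (g : Co0) (w : X) : X := phi (g • lift w)

theorem act2_phi {g : Co0} (hg : g ∈ H) {v : leechLattice} (hv : v ∈ L) :
    act2 g (phi v) = phi (g • v) := by
  obtain ⟨u, hu, e⟩ := exists_double hv (lift_mem (phi v)) (phi_lift _).symm
  rw [act2]
  conv_rhs => rw [e]
  rw [smul_add', smul_add', phi_add ((hg _).2 (lift_mem _)) (L.add_mem ((hg _).2 hu) ((hg _).2 hu)),
    phi_double ((hg _).2 hu), add_zero]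

theorem act2_add {g : Co0} (hg : g ∈ H) (a c : X) : act2 g (a + c) = act2 g a + act2 g c := by
  have h : phi (lift a + lift c) = a + c := by rw [phi_add (lift_mem a) (lift_mem c), phi_lift, phi_lift]
  rw [← h, act2_phi hg (L.add_mem (lift_mem a) (lift_mem c)), smul_add',
    phi_add ((hg _).2 (lift_mem a)) ((hg _).2 (lift_mem c))]
  rfl

/-- The induced linear map. -/
def lin (g : H) : Module.End (ZMod 2) X :=
  (AddMonoidHom.mk' (act2 g) (act2_add g.2)).toZModLinearMap 2

theorem lin_apply (g : H) (w : X) : lin g w = act2 g w := rfl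

/-- The representation by endomorphisms. -/
def endHom : H →* Module.End (ZMod 2) X where
  toFun := lin
  map_one' := LinearMap.ext fun w => by
    rw [lin_apply, act2, OneMemClass.coe_one, one_smul, phi_lift]; rfl
  map_mul' g h := LinearMap.ext fun w => by
    show act2 _ w = act2 g (act2 h w)
    rw [act2, Subgroup.coe_mul, mul_smul, act2.eq_def (h : Co0) w,
      act2_phi g.2 ((h.2 _).2 (lift_mem w))]

/-- The representation by invertible matrices. -/
noncomputable def glHom : H →* Matrix.GeneralLinearGroup (Fin 4 ⊕ Fin 4) (ZMod 2) :=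
  ((LinearMap.toMatrixAlgEquiv' :
    ((Fin 4 ⊕ Fin 4 → ZMod 2) →ₗ[ZMod 2] (Fin 4 ⊕ Fin 4 → ZMod 2)) ≃ₐ[ZMod 2] _).toMonoidHom.comp
      endHom).toHomUnits

theorem glHom_mulVec (g : H) (w : X) :
    (glHom g : Matrix (Fin 4 ⊕ Fin 4) (Fin 4 ⊕ Fin 4) (ZMod 2)) *ᵥ w = act2 g w := by
  show LinearMap.toMatrix' (lin g) *ᵥ w = _
  rw [LinearMap.toMatrix'_mulVec, lin_apply]

theorem qR_smul {g : Co0} (hg : g ∈ H) {v : leechLattice} (hv : v ∈ L) :
    qR (r (g • v)) = qR (r v) := by
  rw [qR, qR, ← sqNorm_L hv, ← sqNorm_L ((hg _).2 hv), LeechAut.Basic.sqNorm_smul]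

theorem glHom_mem (g : H) : glHom g ∈ O8 := fun u _ => by
  show Cfsg.quadFormPlus 4 (ZMod 2) ((glHom g : Matrix _ _ (ZMod 2)) *ᵥ u) =
    Cfsg.quadFormPlus 4 (ZMod 2) u
  rw [glHom_mulVec, act2, ← q_phi ((g.2 _).2 (lift_mem u)), qR_smul g.2 (lift_mem u), q_phi (lift_mem u),
    phi_lift]

/-- The representation on the reduced sublattice. -/
noncomputable def psi : H →* O8 := glHom.codRestrict O8 glHom_mem

theorem psi_mulVec (g : H) (w : X) :
    ((psi g : Matrix.GeneralLinearGroup (Fin 4 ⊕ Fin 4) (ZMod 2)) :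
      Matrix (Fin 4 ⊕ Fin 4) (Fin 4 ⊕ Fin 4) (ZMod 2)) *ᵥ w = act2 g w := glHom_mulVec g w

theorem psi_eq_iff {g h : H} : psi g = psi h ↔ ∀ v ∈ L, phi ((g : Co0) • v) = phi ((h : Co0) • v) := by
  constructor
  · intro e v hv
    rw [← act2_phi g.2 hv, ← act2_phi h.2 hv, ← psi_mulVec, ← psi_mulVec, e]
  · intro e
    refine Subtype.ext (Units.ext (Matrix.ext_iff_mulVec.2 fun w => ?_))
    rw [psi_mulVec, psi_mulVec]
    exact e _ (lift_mem w)

end Cfsg.Agent.OctadInv.Hom
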