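import Cfsg.Agent.Lib.OctadInv.Cert
import Cfsg.Agent.Lib.Classical.OrthSimple
import Cfsg.Agent.Lib.Forms.SpecialOrth

/-!
Subgroups of the orthogonal groups of minus type in dimensions four and six over the field with two
elements, recognised by their orders.
-/

set_option autoImplicit false
set_option maxRecDepth 20000

namespace Cfsg.Agent.OctadInv.Ident

open Cfsg Cfsg.Agent.Classical Cfsg.Agent.Classical.OrthForms Cfsg.Agent.OctadInv.Cert
  Cfsg.Agent.OctadInv.Lower Cfsg.Agent.OctadInv.Orbits Finset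

/-- The isometry group. -/
noncomputable abbrev Oi (m : ℕ) : Subgroup (Matrix.GeneralLinearGroup (I m) (ZMod 2)) := Cfsg.isometryGroup (ZMod 2) ⇑(F m)

theorem hab : ∀ z₁ z₂ : ZMod 2, z₁ ^ 2 + 1 * z₁ * z₂ + 1 * z₂ ^ 2 = 0 → z₁ = 0 ∧ z₂ = 0 := by decide

theorem isSimpleGroup_of_equiv {A B : Type} [Group A] [Group B] (e : A ≃* B) (h : IsSimpleGroup A) :
    IsSimpleGroup B :=
  haveI := h
  haveI : Nontrivial B := e.toEquiv.symm.nontrivial
  IsSimpleGroup.isSimpleGroup_of_surjective e.toMonoidHom e.surjective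

/-- A simple group of composite order is perfect. -/
theorem commutator_eq_top {G : Type} [Group G] [Finite G] (hs : IsSimpleGroup G)
    (hp : ¬ (Nat.card G).Prime) : commutator G = ⊤ := by
  refine (inferInstance : (commutator G).Normal).eq_bot_or_eq_top.resolve_left fun h => hp ?_
  have hc : ∀ a b : G, a * b = b * a := fun a b => commutatorElement_eq_one_iff_mul_comm.1
    (Subgroup.mem_bot.1 (h ▸ Subgroup.commutator_mem_commutator (Subgroup.mem_top a) (Subgroup.mem_top b)))
  letI : CommGroup G := { (inferInstance : Group G) with mul_comm := hc }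
  exact IsSimpleGroup.prime_card

/-! ### Dimension six -/

theorem omega6_simple : IsSimpleGroup (Cfsg.Omega (ZMod 2) ⇑(F 2)) := by
  have hs := Orth.isSimpleGroup_POmega (minQ_nondeg 2 hab) (minFrame (ZMod 2) le_rfl 1 1) (by simp)
  have hc := Orth.natCard_center_one (minQ_nondeg 2 hab) (minFrame (ZMod 2) le_rfl 1 1) (by simp)
    (Or.inl (by decide))
  rw [Subgroup.card_eq_one] at hc
  exact isSimpleGroup_of_equiv ((QuotientGroup.quotientMulEquivOfEq hc).trans QuotientGroup.quotientBot) hs

theorem omega6_index : (Cfsg.Omega (ZMod 2) ⇑(F 2)).index = 2 :=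
  Cfsg.Agent.Forms.SpecialOrth.omega_index_two (minQ_nondeg 2 hab) (Or.inr (by simp)) (by simp)

/-- The possible images of a basis vector. -/
def candO (l : List ℕ) (b : ℕ) : List ℕ :=
  (List.range 64).filter fun c => (0 :: l).all fun s =>
    decide (Cfsg.quadFormMinus 2 (ZMod 2) 1 1 (decV (ixI 2) (c ^^^ s)) =
      Cfsg.quadFormMinus 2 (ZMod 2) 1 1 (decV (ixI 2) (b ^^^ s))) && (c == s) == (b == s)

/-- The product of the numbers of candidates. -/
def boundO : List ℕ → List ℕ → ℕ
  | [], _ => 1
  | b :: rem, l => (candO l b).length * boundO rem (b :: l)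

theorem enc_lt : ∀ v : I 2 → ZMod 2, encV (ixI 2) v < 64 := by decide +kernel

theorem enc_dec : ∀ a < 64, encV (ixI 2) (decV (ixI 2) a) = a := by decide +kernel

theorem dec_enc : ∀ v : I 2 → ZMod 2, decV (ixI 2) (encV (ixI 2) v) = v := by decide +kernel

theorem card_fix_le : ∀ (rem l : List ℕ), (∀ b ∈ rem, b < 64) → (∀ b ∈ l, b < 64) →
    (∀ A : Oi 2, (∀ b ∈ rem ++ l, act A (decV (ixI 2) b) = decV (ixI 2) b) → ∀ v, act A v = v) →
    Nat.card (fixL (⊤ : Subgroup (Oi 2)) (l.map (decV (ixI 2)))) ≤ boundO rem l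
  | [], l, _, _, hs => by
    rw [boundO]
    exact fixL_card_one _ _ fun A hA => hs A fun b hb => hA.2 _ (List.mem_map.2 ⟨b, by simpa using hb, rfl⟩)
  | b :: rem, l, hrem, hl, hs => by
    have hb : b < 64 := hrem b List.mem_cons_self
    have ih := card_fix_le rem (b :: l) (fun c hc => hrem c (List.mem_cons_of_mem _ hc))
      (fun c hc => (List.mem_cons.1 hc).elim (fun e => e ▸ hb) (hl c))
      (fun A hA => hs A fun c hc => hA c (by
        simp only [List.cons_append, List.mem_cons, List.mem_append] at hc ⊢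
        tauto))
    have hstep := step_le (⊤ : Subgroup (Oi 2)) (l.map (decV (ixI 2))) (decV (ixI 2) b)
      ((candO l b).map (decV (ixI 2))) ?_
    · rw [List.length_map] at hstep
      rw [boundO]
      exact hstep.trans (Nat.mul_le_mul_left _ ih)
    intro A hA
    obtain ⟨c, hc⟩ : ∃ c, c = encV (ixI 2) (act A (decV (ixI 2) b)) := ⟨_, rfl⟩
    have hc' : c < 64 := hc ▸ enc_lt _
    have hAb : act A (decV (ixI 2) b) = decV (ixI 2) c := by rw [hc, dec_enc]
    refine List.mem_map.2 ⟨c, ?_, hAb.symm⟩
    simp only [candO, List.mem_filter, List.mem_range, Bool.and_eq_true, List.all_eq_true, beq_iff_eq,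
      decide_eq_true_eq]
    refine ⟨hc', fun s hs' => ?_⟩
    have hfix : act A (decV (ixI 2) s) = decV (ixI 2) s ∧ s < 64 := by
      rcases List.mem_cons.1 hs' with rfl | hs'
      · exact ⟨by rw [decV_zero]; exact Matrix.mulVec_zero _, by norm_num⟩
      · exact ⟨hA.2 _ (List.mem_map.2 ⟨s, hs', rfl⟩), hl s hs'⟩
    constructor
    · rw [← minQ_eq, decV_xor, decV_xor, ← hAb]
      conv_lhs => rw [← hfix.1, ← act_add]
      exact act_form A _
    · rw [Bool.eq_iff_iff, beq_iff_eq, beq_iff_eq]
      constructor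
      · intro e
        subst e
        have h1 := congrArg (act A⁻¹) (hAb.trans hfix.1.symm)
        rw [act_inv_self, act_inv_self] at h1
        rw [← enc_dec b hb, h1, enc_dec _ hfix.2]
      · intro e
        subst e
        rw [← enc_dec c hc', ← hAb, hfix.1, enc_dec _ hfix.2]

theorem card_O6_le : Nat.card (Oi 2) ≤ 51840 := by
  have h := card_fix_le [1, 4, 2, 8, 16, 32] [] (by decide) (by simp) fun A hA v => by
    rw [← Finset.univ_sum_single v]
    refine Finset.sum_induction _ (fun w => act A w = w) (fun a c ha hc => by rw [act_add, ha, hc])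
      (Matrix.mulVec_zero _) fun i _ => ?_
    rcases Fix.zmod_two (v i) with h1 | h1 <;> rw [h1]
    · rw [Pi.single_zero]; exact Matrix.mulVec_zero _
    · rw [← decV_single (ixI 2) i]
      exact hA _ ((by decide +kernel : ∀ i, 2 ^ (ixI 2 i).1 ∈ [1, 4, 2, 8, 16, 32] ++ []) i)
  rw [List.map_nil, fixL_nil, Subgroup.card_top] at h
  exact h.trans (by decide +kernel : boundO [1, 4, 2, 8, 16, 32] [] ≤ 51840)

/-- A proper subgroup of order 25920 of the isometry group in dimension six is `Ω`. -/
theorem eq_omega6 (R : Subgroup (Oi 2)) (hR : Nat.card R = 25920) (hne : R ≠ ⊤) :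
    R = Cfsg.Omega (ZMod 2) ⇑(F 2) := by
  have hRi : R.index = 2 := by
    have h1 := R.card_mul_index
    rw [hR] at h1
    have h2 := card_O6_le
    have h3 : R.index ≠ 1 := fun e => hne (Subgroup.index_eq_one.1 e)
    have h4 : R.index ≠ 0 := Subgroup.index_ne_zero_of_finite
    omega
  set Om := Cfsg.Omega (ZMod 2) ⇑(F 2) with hOm
  have hc : Nat.card Om = 25920 := by
    have h1 := Om.card_mul_index
    rw [omega6_index, ← R.card_mul_index, hR, hRi] at h1
    omega
  refine (Subgroup.eq_of_le_of_card_ge ?_ (by rw [hR, hc])).symm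
  haveI : IsSimpleGroup Om := omega6_simple
  haveI : R.Normal := Subgroup.normal_of_index_eq_two hRi
  rcases (inferInstance : (R.subgroupOf Om).Normal).eq_bot_or_eq_top with h | h
  · exfalso
    have h1 : R.relIndex Om ≤ R.index := Nat.le_of_dvd (by omega) (Subgroup.relIndex_dvd_index_of_normal R Om)
    rw [Subgroup.relIndex, h, Subgroup.index_bot, hc, hRi] at h1
    omega
  · exact Subgroup.subgroupOf_eq_top.1 h

/-! ### Dimension four -/

/-- The singular vectors. -/
abbrev Sing : Type := {v : I 1 → ZMod 2 // v ≠ 0 ∧ Cfsg.quadFormMinus 1 (ZMod 2) 1 1 v = 0}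

theorem card_Sing : Fintype.card Sing = 5 := by decide +kernel

set_option synthInstance.maxSize 2048 in
set_option synthInstance.maxHeartbeats 200000 in
theorem Sing_span : ∀ v : I 1 → ZMod 2, v = 0 ∨ Cfsg.quadFormMinus 1 (ZMod 2) 1 1 v = 0 ∨
    ∃ a c : I 1 → ZMod 2, a ≠ 0 ∧ c ≠ 0 ∧ Cfsg.quadFormMinus 1 (ZMod 2) 1 1 a = 0 ∧
      Cfsg.quadFormMinus 1 (ZMod 2) 1 1 c = 0 ∧ a + c = v := by decide +kernel

theorem act_mem (A : Oi 1) (v : Sing) :
    act A v.1 ≠ 0 ∧ Cfsg.quadFormMinus 1 (ZMod 2) 1 1 (act A v.1) = 0 := by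
  refine ⟨fun e => v.2.1 ?_, ?_⟩
  · rw [← act_inv_self A v.1, e]
    exact Matrix.mulVec_zero _
  · have h := act_form A v.1
    simp only [minQ_eq] at h
    rw [h]
    exact v.2.2

/-- The action on the singular vectors. -/
noncomputable def permS : Oi 1 →* Equiv.Perm Sing :=
  MonoidHom.mk' (fun A =>
    { toFun := fun v => ⟨act A v.1, act_mem A v⟩
      invFun := fun v => ⟨act A⁻¹ v.1, act_mem A⁻¹ v⟩
      left_inv := fun v => Subtype.ext (act_inv_self A v.1)
      right_inv := fun v => Subtype.ext (by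
        show act A (act A⁻¹ v.1) = v.1
        rw [← act_mul, mul_inv_cancel, act_one]) })
    fun A C => Equiv.ext fun v => Subtype.ext (act_mul A C v.1)

theorem permS_injective : Function.Injective permS := by
  intro A C h
  refine ext_act fun v => ?_
  have h' : ∀ s : Sing, act A s.1 = act C s.1 := fun s =>
    congrArg Subtype.val (Equiv.ext_iff.1 h s)
  rcases Sing_span v with rfl | h1 | ⟨a, c, ha, hc, qa, qc, rfl⟩
  · exact (Matrix.mulVec_zero _).trans (Matrix.mulVec_zero _).symm
  · by_cases h0 : v = 0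
    · subst h0; exact (Matrix.mulVec_zero _).trans (Matrix.mulVec_zero _).symm
    · exact h' ⟨v, h0, h1⟩
  · rw [act_add, act_add, h' ⟨a, ha, qa⟩, h' ⟨c, hc, qc⟩]

/-- A subgroup of order 60 of the isometry group in dimension four is `Ω`, and simple. -/
theorem eq_omega4 (R : Subgroup (Oi 1)) (hR : Nat.card R = 60) :
    R = Cfsg.Omega (ZMod 2) ⇑(F 1) ∧ IsSimpleGroup R := by
  have hP : Nat.card (Equiv.Perm Sing) = 120 := by
    rw [Nat.card_eq_fintype_card, Fintype.card_perm, card_Sing]; rfl
  have hmap : Nat.card (R.map permS) = 60 := by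
    rw [← hR, Nat.card_congr (R.equivMapOfInjective permS permS_injective).toEquiv]
  have hidx : (R.map permS).index = 2 := by
    have := (R.map permS).card_mul_index
    rw [hmap, hP] at this
    omega
  have halt := Equiv.Perm.eq_alternatingGroup_of_index_eq_two hidx
  have hsimp : IsSimpleGroup R := by
    refine isSimpleGroup_of_equiv ((R.equivMapOfInjective permS permS_injective).trans
      (MulEquiv.subgroupCongr halt)).symm ?_
    exact alternatingGroup.isSimpleGroup (by rw [Nat.card_eq_fintype_card, card_Sing])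
  refine ⟨le_antisymm (fun x hx => ?_) ?_, hsimp⟩
  · have h : (⟨x, hx⟩ : R) ∈ commutator R := by
      rw [commutator_eq_top hsimp (by rw [hR]; norm_num)]; exact Subgroup.mem_top _
    have h2 := Subgroup.mem_map_of_mem R.subtype h
    rw [commutator_def, Subgroup.map_commutator] at h2
    exact Subgroup.commutator_mono le_top le_top h2
  · show commutator (Oi 1) ≤ R
    intro x hx
    have h := Subgroup.mem_map_of_mem permS hx
    rw [commutator_def, Subgroup.map_commutator] at h
    have h2 : permS x ∈ alternatingGroup Sing :=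
      Abelianization.commutator_subset_ker Equiv.Perm.sign (Subgroup.commutator_mono le_top le_top h)
    rw [← halt] at h2
    obtain ⟨y, hy, e⟩ := h2
    rwa [← permS_injective e]

end Cfsg.Agent.OctadInv.Ident
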