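import Cfsg.Agent.Lib.OctadInv.Kernel
import Cfsg.Agent.Lib.Classical.OrthOrders

/-!
The image of the centraliser on the sublattice modulo two is the simple group `Ω⁺₈(2)`.
-/

set_option autoImplicit false
set_option maxRecDepth 20000

namespace Cfsg.Agent.OctadInv.Image

open Cfsg Cfsg.Agent.Leech.Basic Cfsg.Agent.LeechAut.Basic Cfsg.Agent.LeechAut.Cross
  Cfsg.Agent.LeechAut.Maximal Cfsg.Agent.LeechAut.Xi Cfsg.Agent.Golay.Basic
  Cfsg.Agent.OctadInv.Lattice Cfsg.Agent.OctadInv.Local Cfsg.Agent.OctadInv.Hom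
  Cfsg.Agent.OctadInv.Elements Cfsg.Agent.OctadInv.Kernel Finset
open scoped Matrix commutatorElement

/-- The matrix of an isometry. -/
def mat (A : O8) : Matrix (Fin 4 ⊕ Fin 4) (Fin 4 ⊕ Fin 4) (ZMod 2) :=
  ((A : Matrix.GeneralLinearGroup (Fin 4 ⊕ Fin 4) (ZMod 2)) : Matrix (Fin 4 ⊕ Fin 4) (Fin 4 ⊕ Fin 4) (ZMod 2))

theorem mat_mul (A B : O8) : mat (A * B) = mat A * mat B := rfl

theorem mat_psi (g : H) (w : X) : mat (psi g) *ᵥ w = act2 g w := psi_mulVec g w

theorem card_ker_le : Nat.card psi.ker ≤ 1024 := by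
  classical
  let f : psi.ker → K × Bool := fun g => if h : ((g : H) : Co0) ∈ K then (⟨_, h⟩, true) else
    (⟨negOne * ((g : H) : Co0), (psi_eq_one_iff.1 g.2).resolve_left h⟩, false)
  have hf : Function.Injective f := by
    intro a c e
    simp only [f] at e
    split_ifs at e with ha hc hc <;> simp only [Prod.mk.injEq, Subtype.mk.injEq] at e
    · exact Subtype.ext (Subtype.ext e.1)
    · exact absurd e.2 (by simp)
    · exact absurd e.2 (by simp)
    · exact Subtype.ext (Subtype.ext (mul_left_cancel e.1))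
  have : Finite Co0 := finite_Co0
  refine (Nat.card_le_card_of_injective f hf).trans ?_
  rw [Nat.card_prod, card_K, Nat.card_eq_fintype_card (α := Bool), Fintype.card_bool]

/-- The image of the monomial part. -/
noncomputable def monoImage : Subgroup O8 := (crossH.subgroupOf H).map psi

theorem card_monoImage : 1290240 ≤ Nat.card monoImage := by
  have : Finite Co0 := finite_Co0
  set f := psi.domRestrict (crossH.subgroupOf H) with hf
  have h1 := Subgroup.card_eq_card_quotient_mul_card_subgroup f.ker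
  rw [Nat.card_congr (QuotientGroup.quotientKerEquivRange f).toEquiv] at h1
  have h2 : Nat.card f.range = Nat.card monoImage := by rw [hf, MonoidHom.domRestrict_range]; rfl
  have h3 : Nat.card (crossH.subgroupOf H) = 322560 * 4096 := by
    rw [Nat.card_congr (Subgroup.subgroupOfEquivOfLe (show crossH ≤ H from inf_le_right)).toEquiv, card_crossH]
  have h4 : Nat.card f.ker ≤ 1024 := by
    refine le_trans (Nat.card_le_card_of_injective (fun g : f.ker => (⟨(g : ↥(crossH.subgroupOf H)), g.2⟩ : psi.ker))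
      fun a c e => ?_) card_ker_le
    exact Subtype.ext (Subtype.ext (congrArg (fun z : psi.ker => (z : H)) e))
  rw [h2, h3] at h1
  nlinarith

/-! ### The orbit of the frame -/

/-- The class of a frame vector. -/
def x0 : X := phiR (fun k => if k = 3 then 8 else 0)

theorem x0_frames : ∀ k : Fin 8, phiR (fun j => if j = k then 8 else 0) = x0 ∧
    phiR (fun j => if j = k then -8 else 0) = x0 := by decide +kernel

theorem monoImage_fix {A : O8} (hA : A ∈ monoImage) : mat A *ᵥ x0 = x0 := by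
  obtain ⟨g, hg, rfl⟩ := hA
  have hg' : (g : Co0) ∈ crossH := hg
  obtain ⟨p, hp⟩ := exists_mono (g : Co0) hg'.1
  have h0 : x0 = phi (frame (o 3)) := by
    rw [x0, phi_eq]
    congr 1
    funext k
    simp [r, frame_coe, Pi.single_apply, o_inj.eq_iff]
  have hL : (g : Co0) • frame (o 3) ∈ L := (g.2 _).2 (frame_mem_L (o_mem 3))
  rw [mat_psi]
  conv_lhs => rw [h0]
  rw [act2_phi g.2 (frame_mem_L (o_mem 3)), phi_eq]
  rw [← hp] at hL ⊢
  have hiO : (p.1 : Equiv.Perm GolayPt) (o 3) ∈ O := by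
    by_contra hn
    have := mem_L.1 hL _ hn
    rw [mono_frame, Pi.single_eq_same] at this
    split_ifs at this
    all_goals omega
  have e : ∀ s : ℤ, (fun k => (Pi.single ((p.1 : Equiv.Perm GolayPt) (o 3)) s : GolayPt → ℤ) (o k)) =
      fun k => if k = idx ((p.1 : Equiv.Perm GolayPt) (o 3)) then s else 0 := fun s => funext fun k => by
    conv_lhs => rw [← o_idx _ hiO]
    simp [Pi.single_apply, o_inj.eq_iff]
  rw [show r (mono p • frame (o 3)) = fun k => (Pi.single ((p.1 : Equiv.Perm GolayPt) (o 3))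
    (if (p.1 : Equiv.Perm GolayPt) (o 3) ∈ p.2.1 then (-8 : ℤ) else 8) : GolayPt → ℤ) (o k) from
    funext fun k => congrFun (mono_frame p (o 3)) (o k), e]
  split_ifs
  · exact (x0_frames _).2
  · exact (x0_frames _).1

/-- The inverse of the three-cycle. -/
def invA : Fin 8 → Fin 8 := ![2, 0, 1, 3, 4, 5, 6, 7]

/-- The inverse of the seven-cycle. -/
def invB : Fin 8 → Fin 8 := ![0, 7, 1, 2, 3, 4, 5, 6]

/-- The local generators. -/
def gR : ℕ → (Fin 8 → ℤ) → (Fin 8 → ℤ)
  | 0 => permR invA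
  | 1 => permR invB
  | 2 => sgR
  | _ => xiR

theorem gR_real : ∀ i, ∃ g : H, ∀ v ∈ L, r ((g : Co0) • v) = gR i (r v)
  | 0 => ⟨⟨tabEl Data.tabA tabA_ok, tabEl_mem tabA_ok (by decide +kernel)⟩,
      fun v _ => r_tabEl tabA_ok invA (by decide +kernel) v⟩
  | 1 => ⟨⟨tabEl Data.tabB tabB_ok, tabEl_mem tabB_ok (by decide +kernel)⟩,
      fun v _ => r_tabEl tabB_ok invB (by decide +kernel) v⟩
  | 2 => ⟨⟨sgEl, sgEl_mem⟩, fun v _ => r_sgEl v⟩
  | _ + 3 => ⟨⟨xi, xi_mem_H⟩, fun v _ => r_xi v⟩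

/-- A vector from its code. -/
def dec (m : ℕ) : X := fun i => if m.testBit (pos8 i).1 then 1 else 0

/-- An entry of the tree. -/
def ent (k : ℕ) : ℕ × ℕ × ℕ := Data.tree.getD k (8, 0, 0)

theorem tree_ok : ∀ k < 135, k = 0 ∧ dec (ent k).1 = x0 ∨
    (ent k).2.1 < k ∧ phiR (gR (ent k).2.2 (liftR (dec (ent (ent k).2.1).1))) = dec (ent k).1 := by
  decide +kernel

theorem tree_all : ∀ w : X, w ≠ 0 → quadFormPlus 4 (ZMod 2) w = 0 →
    ∃ k : Fin 135, dec (ent k.1).1 = w := by
  decide +kernel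

theorem reach : ∀ k, k < 135 → ∃ g : H, act2 g x0 = dec (ent k).1 := by
  intro k
  induction k using Nat.strong_induction_on with
  | _ k ih =>
    intro hk
    rcases tree_ok k hk with ⟨-, h⟩ | ⟨hlt, h⟩
    · exact ⟨1, by rw [← mat_psi, map_one]; exact (Matrix.one_mulVec x0).trans h.symm⟩
    · obtain ⟨g, hg⟩ := ih _ hlt (hlt.trans hk)
      obtain ⟨s, hs⟩ := gR_real (ent k).2.2
      refine ⟨s * g, ?_⟩
      rw [← mat_psi, map_mul, mat_mul, ← Matrix.mulVec_mulVec, mat_psi, mat_psi, hg, act2, phi_eq,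
        hs _ (lift_mem _), r_lift, h]

theorem exists_singular {w : X} (h0 : w ≠ 0) (hq : quadFormPlus 4 (ZMod 2) w = 0) :
    ∃ A ∈ psi.range, mat A *ᵥ x0 = w := by
  obtain ⟨k, hk⟩ := tree_all w h0 hq
  obtain ⟨g, hg⟩ := reach k.1 k.2
  exact ⟨psi g, ⟨g, rfl⟩, by rw [mat_psi, hg, hk]⟩

theorem card_singular :
    Nat.card {w : X // w ≠ 0 ∧ quadFormPlus 4 (ZMod 2) w = 0} = 135 := by
  rw [Nat.card_eq_fintype_card]
  decide +kernel

theorem card_range_ge : 174182400 ≤ Nat.card psi.range := by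
  choose A hA hAw using fun w : {w : X // w ≠ 0 ∧ quadFormPlus 4 (ZMod 2) w = 0} =>
    exists_singular w.2.1 w.2.2
  have hle : monoImage ≤ psi.range := by
    rintro _ ⟨g, -, rfl⟩; exact ⟨g, rfl⟩
  let f : {w : X // w ≠ 0 ∧ quadFormPlus 4 (ZMod 2) w = 0} × monoImage → psi.range :=
    fun p => ⟨A p.1 * p.2.1, mul_mem (hA p.1) (hle p.2.2)⟩
  have hf : Function.Injective f := by
    rintro ⟨w, s⟩ ⟨w', s'⟩ e
    have e' : A w * s.1 = A w' * s'.1 := congrArg Subtype.val e
    have h1 : w = w' := by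
      apply Subtype.ext
      have := congrArg (fun M : O8 => mat M *ᵥ x0) e'
      simp only [mat_mul, ← Matrix.mulVec_mulVec, monoImage_fix s.2, monoImage_fix s'.2, hAw] at this
      exact this
    subst h1
    exact Prod.ext rfl (Subtype.ext (mul_left_cancel e'))
  have h := Nat.card_le_card_of_injective f hf
  rw [Nat.card_prod, card_singular] at h
  have := card_monoImage
  omega

theorem card_O8 : Nat.card O8 = 348364800 := by
  have h := Cfsg.Agent.Classical.OrthForms.natCard_O_plus (F := ZMod 2) (ZMod.card 2) 3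
  rw [Cfsg.Agent.Classical.OrthForms.plusQ_eq] at h
  rw [h]
  decide +kernel

theorem omega_index : (Cfsg.Omega (ZMod 2) (Cfsg.quadFormPlus 4 (ZMod 2))).index = 2 := by
  have h := Cfsg.Agent.Forms.SpecialOrth.omega_index_two (F := ZMod 2)
    (Cfsg.Agent.Forms.PlusStd.plusQ_nondeg (ZMod 2) 4) (Or.inr (by simp)) (by simp)
  rwa [Cfsg.Agent.Classical.OrthForms.plusQ_eq] at h

/-- `Ω⁺₈(2)` is simple. -/
theorem omega_simple : IsSimpleGroup (Cfsg.Omega (ZMod 2) (Cfsg.quadFormPlus 4 (ZMod 2))) := by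
  have hQ := Cfsg.Agent.Forms.PlusStd.plusQ_nondeg (ZMod 2) 4
  have f := Cfsg.Agent.Classical.OrthForms.plusFrame (ZMod 2) (show 3 ≤ 4 by norm_num)
  have hn : 5 ≤ Fintype.card (Fin 4 ⊕ Fin 4) := by simp
  have h1 := Cfsg.Agent.Classical.Orth.isSimpleGroup_POmega hQ f hn
  have h2 := Cfsg.Agent.Classical.Orth.natCard_center_one hQ f hn (Or.inl (by decide))
  rw [← Cfsg.Agent.Classical.OrthForms.plusQ_eq]
  have e : Cfsg.Omega (ZMod 2) ⇑(Cfsg.Agent.Forms.PlusStd.plusQ (ZMod 2) 4) ≃*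
      Cfsg.POmega (ZMod 2) ⇑(Cfsg.Agent.Forms.PlusStd.plusQ (ZMod 2) 4) :=
    ((QuotientGroup.quotientMulEquivOfEq (Subgroup.card_eq_one.1 h2)).trans
      QuotientGroup.quotientBot).symm
  exact MulEquiv.isSimpleGroup e

theorem omega_not_comm : ∃ a c : Cfsg.Omega (ZMod 2) (Cfsg.quadFormPlus 4 (ZMod 2)), a * c ≠ c * a := by
  have hQ := Cfsg.Agent.Forms.PlusStd.plusQ_nondeg (ZMod 2) 4
  have f := Cfsg.Agent.Classical.OrthForms.plusFrame (ZMod 2) (show 3 ≤ 4 by norm_num)
  have hn : 5 ≤ Fintype.card (Fin 4 ⊕ Fin 4) := by simp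
  have h2 := Cfsg.Agent.Classical.Orth.natCard_center_one hQ f hn (Or.inl (by decide))
  rw [Cfsg.Agent.Classical.OrthForms.plusQ_eq] at h2
  by_contra hc
  push Not at hc
  have htop : Subgroup.center (Cfsg.Omega (ZMod 2) (Cfsg.quadFormPlus 4 (ZMod 2))) = ⊤ :=
    top_le_iff.1 fun a _ => Subgroup.mem_center_iff.2 fun c => hc c a
  rw [htop, Subgroup.card_top] at h2
  have h3 := Subgroup.card_mul_index (Cfsg.Omega (ZMod 2) (Cfsg.quadFormPlus 4 (ZMod 2)))
  rw [h2, omega_index, card_O8] at h3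
  omega

theorem range_eq : psi.range = Cfsg.Omega (ZMod 2) (Cfsg.quadFormPlus 4 (ZMod 2)) := by
  have hge := card_range_ge
  have hO := Subgroup.card_mul_index psi.range
  rw [card_O8] at hO
  have hne : psi.range.index ≠ 1 := fun h => tIso_notMem ((Subgroup.index_eq_one.1 h).symm ▸ Subgroup.mem_top _)
  have h2 : psi.range.index = 2 := by
    have hpos : psi.range.index ≠ 0 := fun h => by rw [h, mul_zero] at hO; omega
    by_contra h
    have : 3 ≤ psi.range.index := by omega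
    nlinarith
  have : psi.range.Normal := Subgroup.normal_of_index_eq_two h2
  have hle : Cfsg.Omega (ZMod 2) (Cfsg.quadFormPlus 4 (ZMod 2)) ≤ psi.range := by
    show commutator O8 ≤ psi.range
    rw [commutator_def, Subgroup.commutator_le]
    intro a _ c _
    have key : ∀ x y : O8, x * y ∈ psi.range ↔ (x ∈ psi.range ↔ y ∈ psi.range) :=
      fun x y => Subgroup.mul_mem_iff_of_index_two h2
    have e : ⁅a, c⁆ = a * c * a⁻¹ * c⁻¹ := commutatorElement_def a c
    have hi : ∀ x : O8, x⁻¹ ∈ psi.range ↔ x ∈ psi.range := fun x => Subgroup.inv_mem_iff _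
    rw [e]
    refine (key _ _).2 (Iff.trans (key _ _) ?_)
    rw [hi, hi]
    have := key a c
    by_cases ha : a ∈ psi.range <;> by_cases hc : c ∈ psi.range <;> simp [ha, hc, this]
  refine (Subgroup.eq_of_le_of_card_ge hle ?_).symm
  have hc := Subgroup.card_mul_index (Cfsg.Omega (ZMod 2) (Cfsg.quadFormPlus 4 (ZMod 2)))
  rw [omega_index, card_O8] at hc
  rw [h2] at hO
  nlinarith

end Cfsg.Agent.OctadInv.Image
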