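import Cfsg.Agent.Lib.OctadInv.Elements

/-!
Rigidity modulo two on the sublattice: the kernel, and a transposition outside the image.
-/

set_option autoImplicit false
set_option maxRecDepth 20000

namespace Cfsg.Agent.OctadInv.Kernel

open Cfsg Cfsg.Agent.Golay.Basic Cfsg.Agent.Golay.Design Cfsg.Agent.Golay.OctadStab
  Cfsg.Agent.Leech.Basic Cfsg.Agent.Leech.Index Cfsg.Agent.LeechAut.Basic Cfsg.Agent.LeechAut.Gens
  Cfsg.Agent.LeechAut.Cross Cfsg.Agent.LeechAut.Maximal
  Cfsg.Agent.OctadInv.Lattice Cfsg.Agent.OctadInv.Local Cfsg.Agent.OctadInv.Hom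
  Cfsg.Agent.OctadInv.Elements Finset

/-- Two minimal vectors congruent modulo two agree up to sign. -/
theorem pm_of_congr {v w : leechLattice} (hv : v ∈ L) (hw : w ∈ L)
    (nv : ∑ k, r v k ^ 2 = 32) (nw : ∑ k, r w k ^ 2 = 32) (h : phi v = phi w) : v = w ∨ v = -w := by
  obtain ⟨u, hu, e⟩ := exists_double hv hw h
  have nn : ∀ z : leechLattice, 0 ≤ ∑ k, r z k ^ 2 := fun z => sum_nonneg fun k _ => sq_nonneg _
  have hwu := L.add_mem hw hu
  have hid : ∑ k, r v k ^ 2 + ∑ k, r w k ^ 2 =
      2 * (∑ k, r u k ^ 2 + ∑ k, r (w + u) k ^ 2) := by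
    rw [e]
    simp only [r_add, Pi.add_apply, ← sum_add_distrib, mul_sum]
    exact sum_congr rfl fun k _ => by ring
  rw [nv, nw] at hid
  have h0 : ∀ z ∈ L, ∑ k, r z k ^ 2 = 0 → z = 0 := fun z hz hs =>
    ext_L hz L.zero_mem (funext fun k => by
      have := (sum_eq_zero_iff_of_nonneg fun k _ => sq_nonneg (r z k)).1 hs k (mem_univ _)
      rw [pow_eq_zero_iff two_ne_zero] at this
      rw [this]; rfl)
  obtain ⟨s, hs⟩ := norm_dvd hu
  obtain ⟨t, ht⟩ := norm_dvd hwu
  have := nn u
  have := nn (w + u)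
  rcases (by omega : ∑ k, r u k ^ 2 = 0 ∨ ∑ k, r (w + u) k ^ 2 = 0) with hz | hz
  · left; rw [e, h0 u hu hz, add_zero, add_zero]
  · right
    have hu' : u = -w := eq_neg_of_add_eq_zero_right (h0 _ hwu hz)
    rw [e, hu']; abel

/-- The Dynkin tree of the roots. -/
def edges : List (Fin 8 × Fin 8) := [(0, 2), (2, 3), (1, 3), (3, 4), (4, 5), (5, 6), (6, 7)]

theorem edges_ne : ∀ e ∈ edges, ∑ k, b e.1 k * b e.2 k ≠ 0 := by decide +kernel

theorem b_norm : ∀ i, ∑ k, b i k ^ 2 = 32 := by decide +kernel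

/-- An element agreeing modulo two with a system of roots agrees with it up to a common sign. -/
theorem uniform {g : Co0} (hg : g ∈ H) (F : Fin 8 → leechLattice) (hF : ∀ i, F i ∈ L)
    (hgram : ∀ i j, ∑ k, r (F i) k * r (F j) k = ∑ k, b i k * b j k)
    (hmod : ∀ i, phi (g • bV i) = phi (F i)) :
    (∀ i, g • bV i = F i) ∨ ∀ i, g • bV i = -F i := by
  have hgL : ∀ i, g • bV i ∈ L := fun i => (hg _).2 (bV_mem i)
  have hgg : ∀ i j, ∑ k, r (g • bV i) k * r (g • bV j) k = ∑ k, b i k * b j k := fun i j => by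
    rw [← dot_L (hgL i), LeechAut.Basic.dot_smul, dot_L (bV_mem i), r_bV, r_bV]
  have hpm : ∀ i, g • bV i = F i ∨ g • bV i = -F i := fun i => by
    refine pm_of_congr (hgL i) (hF i) ?_ ?_ (hmod i)
    · simp only [pow_two, hgg i i]; simpa only [pow_two] using b_norm i
    · simp only [pow_two, hgram i i]; simpa only [pow_two] using b_norm i
  have step : ∀ e ∈ edges, (g • bV e.1 = F e.1 ↔ g • bV e.2 = F e.2) := fun e he => by
    have hne := edges_ne e he
    have hcase : ∀ i j, (∑ k, b i k * b j k ≠ 0) → g • bV i = F i → g • bV j = -F j → False := by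
      intro i j hij h1 h2
      have := hgg i j
      rw [h1, h2, r_neg] at this
      simp only [Pi.neg_apply, mul_neg, sum_neg_distrib] at this
      rw [hgram i j] at this
      omega
    refine ⟨fun h => (hpm _).resolve_right fun h' => hcase _ _ hne h h', fun h => ?_⟩
    refine (hpm _).resolve_right fun h' => hcase e.2 e.1 ?_ h h'
    rw [sum_congr rfl fun k _ => mul_comm (b e.2 k) (b e.1 k)]
    exact hne
  have h02 := step (0, 2) (by decide)
  have h23 := step (2, 3) (by decide)
  have h13 := step (1, 3) (by decide)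
  have h34 := step (3, 4) (by decide)
  have h45 := step (4, 5) (by decide)
  have h56 := step (5, 6) (by decide)
  have h67 := step (6, 7) (by decide)
  rcases hpm 0 with h0 | h0
  · left
    intro i
    fin_cases i
    exacts [h0, h13.2 (h23.1 (h02.1 h0)), h02.1 h0, h23.1 (h02.1 h0), h34.1 (h23.1 (h02.1 h0)),
      h45.1 (h34.1 (h23.1 (h02.1 h0))), h56.1 (h45.1 (h34.1 (h23.1 (h02.1 h0)))),
      h67.1 (h56.1 (h45.1 (h34.1 (h23.1 (h02.1 h0)))))]
  · right
    intro i
    refine (hpm i).resolve_left fun hi => ?_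
    have h0' : g • bV 0 = F 0 := by
      fin_cases i
      exacts [hi, h02.2 (h23.2 (h13.1 hi)), h02.2 hi, h02.2 (h23.2 hi), h02.2 (h23.2 (h34.2 hi)),
        h02.2 (h23.2 (h34.2 (h45.2 hi))), h02.2 (h23.2 (h34.2 (h45.2 (h56.2 hi)))),
        h02.2 (h23.2 (h34.2 (h45.2 (h56.2 (h67.2 hi)))))]
    have := hgg 0 0
    rw [h0'] at h0
    have hr := congrFun (congrArg r h0)
    simp only [r_neg, Pi.neg_apply] at hr
    have hz : ∀ k, r (F 0) k = 0 := fun k => by have := hr k; omega
    have hb := hgram 0 0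
    simp only [hz, mul_zero, sum_const_zero] at hb
    exact absurd hb.symm (by decide +kernel)

theorem smul_comb (g : Co0) (c : Fin 8 → ℤ) : g • comb c = ∑ k, c k • (g • bV k) := by
  show actHom g (comb c) = _
  simp [comb, map_sum, map_zsmul]

theorem psi_eq_one_iff {g : H} : psi g = 1 ↔ (g : Co0) ∈ K ∨ negOne * (g : Co0) ∈ K := by
  constructor
  · intro h
    have hmod := psi_eq_iff.1 (h.trans (map_one psi).symm)
    rcases uniform g.2 bV bV_mem (fun i j => by rw [r_bV, r_bV])
        (fun i => by rw [hmod _ (bV_mem i), OneMemClass.coe_one, one_smul]) with h1 | h1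
    · left
      intro v hv
      rw [eq_comb hv, smul_comb]
      simp only [h1]; rfl
    · right
      intro v hv
      rw [mul_smul, negOne_smul, eq_comb hv, smul_comb]
      simp only [h1, smul_neg, sum_neg_distrib, neg_neg]; rfl
  · intro h
    rw [← map_one psi, psi_eq_iff]
    intro v hv
    rw [OneMemClass.coe_one, one_smul]
    rcases h with h | h
    · rw [h v hv]
    · have := h v hv
      rw [mul_smul, negOne_smul, neg_eq_iff_eq_neg] at this
      rw [this]
      have hd := phi_add hv (L.neg_mem hv)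
      rw [add_neg_cancel] at hd
      have h0 : phi (0 : leechLattice) = 0 := by
        have := phi_add L.zero_mem L.zero_mem
        rwa [add_zero, left_eq_add] at this
      rw [h0] at hd
      funext i
      exact ((CharTwo.add_eq_zero (R := ZMod 2)).1 (congrFun hd i).symm).symm

/-! ### A transposition outside the image -/

/-- The transposition of the first two points. -/
def tR (x : Fin 8 → ℤ) : Fin 8 → ℤ := fun k => x (Equiv.swap 0 1 k)

theorem tR_mem : ∀ i, inLat (emb (tR (b i))) = true := by decide +kernel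

/-- The images of the roots. -/
def tV (i : Fin 8) : leechLattice := ⟨emb (tR (b i)), mem_of_inLat (tR_mem i)⟩

theorem tV_mem (i : Fin 8) : tV i ∈ L := fun _ hp => if_neg hp

theorem r_tV (i : Fin 8) : r (tV i) = tR (b i) := funext fun j => by
  simp [r, tV, emb, o_mem, idx_o]

/-- The matrix of the transposition. -/
def tMat : Matrix (Fin 4 ⊕ Fin 4) (Fin 4 ⊕ Fin 4) (ZMod 2) :=
  Matrix.of fun i j => phiR (tR (liftR (Pi.single j 1))) i

theorem tMat_mulVec : ∀ w : X, tMat.mulVec w = phiR (tR (liftR w)) := by decide +kernel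

theorem tMat_sq : tMat * tMat = 1 := by decide +kernel

theorem tMat_q : ∀ w : X, quadFormPlus 4 (ZMod 2) (tMat.mulVec w) = quadFormPlus 4 (ZMod 2) w := by
  decide +kernel

/-- The transposition, as an isometry. -/
def tIso : O8 := ⟨⟨tMat, tMat, tMat_sq, tMat_sq⟩, fun u _ => tMat_q u⟩

theorem phiR_tR_b : ∀ i, phiR (tR (liftR (phiR (b i)))) = phiR (tR (b i)) := by decide +kernel

theorem gram_tV : ∀ i j, ∑ k, tR (b i) k * tR (b j) k = ∑ k, b i k * b j k := by decide +kernel

theorem tIso_notMem : tIso ∉ psi.range := by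
  rintro ⟨g, hg⟩
  have hmod : ∀ i, phi ((g : Co0) • bV i) = phi (tV i) := fun i => by
    rw [← act2_phi g.2 (bV_mem i), ← psi_mulVec, hg]
    show tMat.mulVec _ = _
    rw [tMat_mulVec, phi_eq, phi_eq, r_bV, r_tV, phiR_tR_b]
  have hkey : ∃ g' ∈ H, ∀ i, g' • bV i = tV i := by
    rcases uniform g.2 tV tV_mem (fun i j => by rw [r_tV, r_tV, gram_tV]) hmod with h | h
    · exact ⟨g, g.2, h⟩
    · refine ⟨negOne * g, H.mul_mem negOne_mem_H g.2, fun i => ?_⟩
      rw [mul_smul, h, negOne_smul, neg_neg]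
  obtain ⟨g', hg', hi⟩ := hkey
  have hr : ∀ v ∈ L, r (g' • v) = tR (r v) := fun v hv => by
    funext j
    rw [eq_comb hv, smul_comb]
    simp only [hi]
    show ((∑ k, cc v k • tV k : leechLattice) : Vec) (o j) = tR (r (comb (cc v))) j
    have : ∀ k, ((tV k : leechLattice) : Vec) (o j) = b k (Equiv.swap 0 1 j) := fun k =>
      congrFun (r_tV k) j
    simp [tR, r_comb, AddSubmonoidClass.coe_finsetSum, this]
  have hframe : ∀ j, g' • frame (o j) = frame (o (Equiv.swap 0 1 j)) := fun j => by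
    refine ext_L ((hg' _).2 (frame_mem_L (o_mem j))) (frame_mem_L (o_mem _)) ?_
    rw [hr _ (frame_mem_L (o_mem j))]
    funext k
    simp only [tR, r, frame_coe, Pi.single_apply, o_inj.eq_iff, Equiv.swap_apply_eq_iff]
  have h3 : (o (Equiv.swap 0 1 3) : GolayPt) = none := by decide +kernel
  have h3' : o 3 = none := by decide +kernel
  have hfix : g' • frame none = frame none := by
    have := hframe 3
    rwa [h3, h3'] at this
  obtain ⟨p, rfl⟩ := exists_mono g' (fixesCross_of_fix hfix)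
  have hπ : ∀ j, (p.1 : Equiv.Perm GolayPt) (o j) = o (Equiv.swap 0 1 j) := fun j => by
    have e := congrArg (fun w : leechLattice => (w : Vec) (o (Equiv.swap 0 1 j))) (hframe j)
    simp only [mono_apply, frame_on] at e
    by_contra hne
    have hne' : (p.1 : Equiv.Perm GolayPt).symm (o (Equiv.swap 0 1 j)) ≠ o j := fun h =>
      hne ((Equiv.symm_apply_eq _).1 h).symm
    rw [frame_off hne'] at e
    split_ifs at e <;> omega
  have hOK : (p.1 : Equiv.Perm GolayPt) ∈ OK O := ⟨p.1.2, mono_mem_H.1 hg'⟩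
  have hmem : rho O ⟨_, hOK⟩ ∈ alternatingGroup ↥O := by
    rw [← range_rho O_octad]; exact ⟨_, rfl⟩
  have hswap : rho O ⟨_, hOK⟩ = Equiv.swap (⟨o 0, o_mem 0⟩ : ↥O) ⟨o 1, o_mem 1⟩ := by
    refine Equiv.ext fun x => Subtype.ext ?_
    obtain ⟨k, rfl⟩ : ∃ k, (⟨o k, o_mem k⟩ : ↥O) = x := ⟨idx x.1, Subtype.ext (o_idx _ x.2)⟩
    show (p.1 : Equiv.Perm GolayPt) (o k) = _
    rw [hπ k]
    simp only [Equiv.swap_apply_def, Subtype.mk.injEq, o_inj.eq_iff]
    split_ifs <;> rfl
  rw [hswap, Equiv.Perm.mem_alternatingGroup, Equiv.Perm.sign_swap] at hmem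
  · exact absurd hmem (by decide)
  · exact fun h => absurd (o_inj (Subtype.ext_iff.1 h) : (0 : Fin 8) = 1) (by decide)

end Cfsg.Agent.OctadInv.Kernel
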