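import Cfsg.Agent.Lib.LeechAut.Co1
import Cfsg.Agent.Lib.Golay.OctadStab
import Mathlib.LinearAlgebra.Matrix.Rank

/-!
The sublattice of the Leech lattice supported on an octad, and the centraliser of the sign change
on that octad.
-/

set_option autoImplicit false
set_option maxRecDepth 20000

namespace Cfsg.Agent.OctadInv.Lattice

open Cfsg Cfsg.Agent.Golay.Basic Cfsg.Agent.Golay.Design
  Cfsg.Agent.Leech.Basic Cfsg.Agent.Leech.Index Cfsg.Agent.LeechAut.Basic Cfsg.Agent.LeechAut.Cross
  Cfsg.Agent.LeechAut.Xi Cfsg.Agent.LeechAut.Gens Finset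

/-- The points of the octad. -/
def o (k : Fin 8) : GolayPt := pt (tetList.getD k.1 0)

/-- The position of a point of the octad. -/
def idx (p : GolayPt) : Fin 8 := ⟨tetList.idxOf (ix p) % 8, Nat.mod_lt _ (by norm_num)⟩

/-- The octad: the union of the first two tetrads. -/
def O : Finset GolayPt := maskSet 12656663

theorem mask_O : mask O = 12656663 := mask_maskSet (by norm_num)

theorem O_octad : O ∈ octads :=
  mem_octads_iff.2 ⟨by rw [mask_O]; decide +kernel, by rw [O, card_maskSet]; decide +kernel⟩

theorem O_code : O ∈ codeSets := O_octad.1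

theorem o_mem : ∀ k, o k ∈ O := by decide +kernel

theorem idx_o : ∀ k, idx (o k) = k := by decide +kernel

theorem o_idx : ∀ p, p ∈ O → o (idx p) = p := by decide +kernel

theorem o_inj : Function.Injective o := fun a b h => by rw [← idx_o a, h, idx_o]

theorem sum_O (f : GolayPt → ℤ) (hf : ∀ p, p ∉ O → f p = 0) : ∑ p, f p = ∑ k, f (o k) := by
  rw [← sum_subset (subset_univ O) fun p _ hp => hf p hp]
  exact (sum_bij' (fun k _ => o k) (fun p _ => idx p) (fun k _ => o_mem k) (fun _ _ => mem_univ _)
    (fun k _ => idx_o k) (fun p hp => o_idx p hp) (fun _ _ => rfl)).symm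

/-- The vectors supported on the octad. -/
def L : AddSubgroup leechLattice where
  carrier := {v | ∀ p, p ∉ O → (v : Vec) p = 0}
  zero_mem' := fun _ _ => rfl
  add_mem' := fun {a b} ha hb p hp => by
    show (a : Vec) p + (b : Vec) p = 0
    rw [ha p hp, hb p hp, add_zero]
  neg_mem' := fun {a} ha p hp => by
    show -(a : Vec) p = 0
    rw [ha p hp, neg_zero]

theorem mem_L {v : leechLattice} : v ∈ L ↔ ∀ p, p ∉ O → (v : Vec) p = 0 := Iff.rfl

/-- The coordinates on the octad. -/
def r (v : leechLattice) : Fin 8 → ℤ := fun k => (v : Vec) (o k)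

theorem r_add (v w : leechLattice) : r (v + w) = r v + r w := rfl

theorem r_neg (v : leechLattice) : r (-v) = -r v := rfl

theorem ext_L {v w : leechLattice} (hv : v ∈ L) (hw : w ∈ L) (h : r v = r w) : v = w := by
  refine Subtype.ext (funext fun p => ?_)
  by_cases hp : p ∈ O
  · rw [← o_idx p hp]
    exact congrFun h _
  · rw [mem_L.1 hv p hp, mem_L.1 hw p hp]

theorem dot_L {v : leechLattice} (hv : v ∈ L) (w : leechLattice) :
    dotInt (v : Vec) (w : Vec) = ∑ k, r v k * r w k :=
  sum_O _ fun p hp => by rw [mem_L.1 hv p hp, zero_mul]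

theorem sqNorm_L {v : leechLattice} (hv : v ∈ L) : sqNorm (v : Vec) = ∑ k, r v k ^ 2 :=
  sum_O _ fun p hp => by rw [mem_L.1 hv p hp]; ring

/-- The stabiliser of the sublattice. -/
def H : Subgroup Co0 where
  carrier := {g | ∀ v : leechLattice, g • v ∈ L ↔ v ∈ L}
  one_mem' := fun v => by rw [one_smul]
  mul_mem' := fun {a b} ha hb v => by rw [mul_smul]; exact (ha _).trans (hb v)
  inv_mem' := fun {a} ha v => by
    have := ha (a⁻¹ • v)
    rw [smul_inv_smul] at this
    exact this.symm

theorem mem_H {g : Co0} : g ∈ H ↔ ∀ v : leechLattice, g • v ∈ L ↔ v ∈ L := Iff.rfl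

/-- The sign change on the octad. -/
def eps : Co0 := sign O O_code

theorem eps_on (v : leechLattice) {p : GolayPt} (hp : p ∈ O) :
    ((eps • v : leechLattice) : Vec) p = -(v : Vec) p := by simp [eps, LeechAut.Basic.flip, hp]

theorem eps_off (v : leechLattice) {p : GolayPt} (hp : p ∉ O) :
    ((eps • v : leechLattice) : Vec) p = (v : Vec) p := by simp [eps, LeechAut.Basic.flip, hp]

theorem mem_L_iff_eps {v : leechLattice} : v ∈ L ↔ eps • v = -v := by
  constructor
  · intro h
    refine Subtype.ext (funext fun p => ?_)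
    rw [AddSubgroup.coe_neg, Pi.neg_apply]
    by_cases hp : p ∈ O
    · rw [eps_on v hp]
    · rw [eps_off v hp, mem_L.1 h p hp, neg_zero]
  · intro h p hp
    have e := congrArg (fun w : leechLattice => (w : Vec) p) h
    simp only [AddSubgroup.coe_neg, Pi.neg_apply] at e
    rw [eps_off v hp] at e
    omega

theorem frame_mem_L {i : GolayPt} (hi : i ∈ O) : frame i ∈ L := fun p hp => by
  rw [frame_coe, Pi.single_eq_of_ne (fun e => hp (by rw [e]; exact hi))]

theorem dot_frame (v : leechLattice) (i : GolayPt) :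
    dotInt (v : Vec) ((frame i : leechLattice) : Vec) = (v : Vec) i * 8 := by
  unfold dotInt
  rw [sum_eq_single i (fun j _ hj => by rw [frame_coe, Pi.single_eq_of_ne hj, mul_zero]) (by simp),
    frame_coe, Pi.single_eq_same]

theorem H_perp {g : Co0} (hg : g ∈ H) {v : leechLattice} (hv : ∀ p ∈ O, (v : Vec) p = 0) :
    ∀ p ∈ O, ((g • v : leechLattice) : Vec) p = 0 := by
  intro p hp
  have h1 := dot_smul g v (g⁻¹ • frame p)
  rw [smul_inv_smul, dot_frame] at h1
  have h2 : g⁻¹ • frame p ∈ L := (H.inv_mem hg _).2 (frame_mem_L hp)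
  have h3 : dotInt (v : Vec) ((g⁻¹ • frame p : leechLattice) : Vec) = 0 := sum_eq_zero fun q _ => by
    by_cases hq : q ∈ O
    · rw [hv q hq, zero_mul]
    · rw [mem_L.1 h2 q hq, mul_zero]
  omega

theorem mem_H_iff {g : Co0} : g ∈ H ↔ g * eps = eps * g := by
  constructor
  · intro hg
    refine ext' fun v => Subtype.ext (funext fun p => ?_)
    rw [mul_smul, mul_smul]
    have ha : eps • v - v ∈ L := fun q hq => by
      simp only [AddSubgroupClass.coe_sub, Pi.sub_apply, eps_off v hq, sub_self]
    have hb : ∀ q ∈ O, ((eps • v + v : leechLattice) : Vec) q = 0 := fun q hq => by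
      simp only [AddSubgroup.coe_add, Pi.add_apply, eps_on v hq, neg_add_cancel]
    by_cases hp : p ∈ O
    · have := H_perp hg hb p hp
      rw [smul_add'] at this
      simp only [AddSubgroup.coe_add, Pi.add_apply] at this
      rw [eps_on _ hp]
      omega
    · have := mem_L.1 ((hg _).2 ha) p hp
      rw [smul_sub'] at this
      simp only [AddSubgroupClass.coe_sub, Pi.sub_apply] at this
      rw [eps_off _ hp]
      omega
  · intro h v
    rw [mem_L_iff_eps, mem_L_iff_eps, ← smul_neg', ← mul_smul, ← h, mul_smul]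
    exact ⟨fun e => MulAction.injective g e, fun e => by rw [e]⟩

/-- The sign change is not conjugate to its negative. -/
theorem not_anti (g : Co0) : g * eps ≠ negOne * eps * g := by
  intro h
  have key : ∀ v : leechLattice, g • (eps • v) = -(eps • (g • v)) := fun v => by
    rw [← mul_smul, h, mul_smul, mul_smul, negOne_smul]
  let e : {p : GolayPt // p ∉ O} → GolayPt := fun p => p.1
  have hL : ∀ p : {p : GolayPt // p ∉ O}, g • frame (e p) ∈ L := fun p => by
    have hfix : eps • frame (e p) = frame (e p) := by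
      refine Subtype.ext (funext fun q => ?_)
      by_cases hq : q ∈ O
      · rw [eps_on _ hq, frame_coe, Pi.single_eq_of_ne (fun (e' : q = e p) => p.2 (show e p ∈ O by rw [← e']; exact hq)),
          neg_zero]
      · rw [eps_off _ hq]
    rw [mem_L_iff_eps]
    have := key (frame (e p))
    rw [hfix] at this
    conv_rhs => rw [this, neg_neg]
  let M : Matrix {p : GolayPt // p ∉ O} (Fin 8) ℚ :=
    Matrix.of fun p k => (r (g • frame (e p)) k : ℚ)
  have hMM : M * M.transpose = (64 : ℚ) • (1 : Matrix {p : GolayPt // p ∉ O} {p : GolayPt // p ∉ O} ℚ) := by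
    ext p q
    have h1 : ∑ k, r (g • frame (e p)) k * r (g • frame (e q)) k =
        if p = q then 64 else 0 := by
      rw [← dot_L (hL p), dot_smul, dot_frame, frame_coe]
      split_ifs with hpq
      · subst hpq; rw [Pi.single_eq_same]; norm_num
      · rw [Pi.single_eq_of_ne (fun h' => hpq (Subtype.ext h'.symm)), zero_mul]
    have h2 : ((∑ k, r (g • frame (e p)) k * r (g • frame (e q)) k : ℤ) : ℚ) =
        ((if p = q then 64 else 0 : ℤ) : ℚ) := by rw [h1]
    simp only [Matrix.mul_apply, Matrix.transpose_apply, Matrix.smul_apply, Matrix.one_apply,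
      smul_eq_mul, M, Matrix.of_apply]
    push_cast at h2
    rw [h2]
    split_ifs <;> simp
  have h16 : Fintype.card {p : GolayPt // p ∉ O} = 16 := by decide +kernel
  have h1 : (M * M.transpose).rank = 16 := by
    rw [hMM, Matrix.rank_of_isUnit, h16]
    rw [Matrix.isUnit_iff_isUnit_det, Matrix.det_smul, Matrix.det_one, mul_one, isUnit_iff_ne_zero]
    positivity
  have h2 := (Matrix.rank_mul_le_left M M.transpose).trans (Matrix.rank_le_card_width M)
  rw [h1, Fintype.card_fin] at h2
  omega

end Cfsg.Agent.OctadInv.Lattice
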