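import Cfsg.Agent.Lib.OctadInv.Lattice
import Cfsg.Prelude.Def_Classical

/-!
The sublattice on the octad is a rescaled E8 lattice: coordinates in a basis of roots, reduction
modulo two, and the quadratic form it carries.
-/

set_option autoImplicit false
set_option maxRecDepth 20000

namespace Cfsg.Agent.OctadInv.Local

open Cfsg Cfsg.Agent.Golay.Basic Cfsg.Agent.Golay.Design Cfsg.Agent.Leech.Basic
  Cfsg.Agent.LeechAut.Basic Cfsg.Agent.LeechAut.Cross Cfsg.Agent.LeechAut.Gens
  Cfsg.Agent.OctadInv.Lattice Finset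

/-- The coordinate space modulo two. -/
abbrev X : Type := Fin 4 ⊕ Fin 4 → ZMod 2

/-- The simple roots, on the octad. -/
def b : Fin 8 → Fin 8 → ℤ :=
  ![![2, -2, -2, -2, -2, -2, -2, 2], ![4, 4, 0, 0, 0, 0, 0, 0], ![-4, 4, 0, 0, 0, 0, 0, 0],
    ![0, -4, 4, 0, 0, 0, 0, 0], ![0, 0, -4, 4, 0, 0, 0, 0], ![0, 0, 0, -4, 4, 0, 0, 0],
    ![0, 0, 0, 0, -4, 4, 0, 0], ![0, 0, 0, 0, 0, -4, 4, 0]]

/-- The dual basis, on the octad. -/
def d : Fin 8 → Fin 8 → ℤ :=
  ![![0, 0, 0, 0, 0, 0, 0, 8], ![2, 2, 2, 2, 2, 2, 2, 10], ![-2, 2, 2, 2, 2, 2, 2, 14],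
    ![0, 0, 4, 4, 4, 4, 4, 20], ![0, 0, 0, 4, 4, 4, 4, 16], ![0, 0, 0, 0, 4, 4, 4, 12],
    ![0, 0, 0, 0, 0, 4, 4, 8], ![0, 0, 0, 0, 0, 0, 4, 4]]

theorem shape_L {v : leechLattice} (hv : v ∈ L) : ∃ e : ℤ, (e = 0 ∨ e = 1) ∧
    ∃ y : Fin 8 → ℤ, (2 : ℤ) ∣ ∑ k, y k ∧ ∀ k, r v k = 2 * e + 4 * y k := by
  obtain ⟨m, c, y, hm, hc, hx, hs⟩ := mem_lattice_iff.1 v.2
  have hout : ∀ p, p ∉ O → m = 0 ∧ p ∉ c ∧ y p = 0 := fun p hp => by
    have h := hx p
    rw [mem_L.1 hv p hp] at h
    simp only [ind] at h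
    rcases hm with rfl | rfl <;> split_ifs at h with hpc
    · omega
    · exact ⟨rfl, hpc, by omega⟩
    · omega
    · omega
  have hm0 : m = 0 := by
    obtain ⟨p, hp⟩ : ∃ p, p ∉ O := by decide +kernel
    exact (hout p hp).1
  have hcO : c = ∅ ∨ c = O := by
    have hsub : mask c &&& mask O = mask c := subset_iff_mask.1 fun p hp => by
      by_contra h
      exact (hout p h).2.1 hp
    have h := forall_code (P := fun m => !(m &&& 12656663 == m) || (m == 0 || m == 12656663))
      (by decide +kernel) (mem_supports_iff.1 hc)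
    rw [mask_O] at hsub
    simp only [hsub, beq_self_eq_true, Bool.not_true, Bool.false_or, Bool.or_eq_true, beq_iff_eq] at h
    exact h.imp (fun e => mask_injective (by rw [e, mask_empty]))
      (fun e => mask_injective (by rw [e, mask_O]))
  have he : ∃ e : ℤ, (e = 0 ∨ e = 1) ∧ ∀ k, r v k = 2 * e + 4 * y (o k) := by
    rcases hcO with rfl | rfl
    · exact ⟨0, Or.inl rfl, fun k => by have := hx (o k); simp [ind, hm0] at this; simp [r, this]⟩
    · exact ⟨1, Or.inr rfl, fun k => by have := hx (o k); simp [ind, hm0, o_mem] at this; simp [r, this]⟩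
  obtain ⟨e, he1, he2⟩ := he
  refine ⟨e, he1, fun k => y (o k), ?_, he2⟩
  rw [sum_O _ (fun p hp => mem_L.1 hv p hp), hm0] at hs
  have : ∑ k, (v : GolayPt → ℤ) (o k) = 16 * e + 4 * ∑ k, y (o k) := by
    show ∑ k, r v k = _
    simp only [he2, Fin.sum_univ_eight]
    ring
  rw [this] at hs
  obtain ⟨z, hz⟩ := hs
  show (2 : ℤ) ∣ ∑ k, y (o k)
  rcases he1 with rfl | rfl <;> exact ⟨(∑ k, y (o k)) / 2, by omega⟩

theorem dvd_dual {v : leechLattice} (hv : v ∈ L) (k : Fin 8) : (16 : ℤ) ∣ ∑ j, r v j * d k j := by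
  obtain ⟨e, he, y, ⟨t, ht⟩, hr⟩ := shape_L hv
  simp only [Fin.sum_univ_eight] at ht
  rcases he with rfl | rfl <;> fin_cases k <;>
    simp [hr, d, Fin.sum_univ_eight] <;> omega

/-- The coordinates in the basis of roots. -/
def cc (v : leechLattice) (k : Fin 8) : ℤ := (∑ j, r v j * d k j) / 16

theorem cc_mul {v : leechLattice} (hv : v ∈ L) (k : Fin 8) : cc v k * 16 = ∑ j, r v j * d k j :=
  Int.ediv_mul_cancel (dvd_dual hv k)

theorem cc_add {v w : leechLattice} (hv : v ∈ L) (hw : w ∈ L) (k : Fin 8) :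
    cc (v + w) k = cc v k + cc w k := by
  have h := cc_mul (L.add_mem hv hw) k
  simp only [r_add, Pi.add_apply, add_mul, sum_add_distrib] at h
  rw [← cc_mul hv, ← cc_mul hw] at h
  omega

theorem b_dual : ∀ i j, ∑ k, b k j * d k i = if i = j then 16 else 0 := by decide +kernel

theorem expand {v : leechLattice} (hv : v ∈ L) (j : Fin 8) : r v j = ∑ k, cc v k * b k j := by
  have h1 : (∑ k, cc v k * b k j) * 16 = r v j * 16 := by
    rw [sum_mul, sum_congr rfl fun k _ => show cc v k * b k j * 16 = ∑ i, r v i * (b k j * d k i) by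
      rw [mul_right_comm, cc_mul hv, sum_mul]; exact sum_congr rfl fun i _ => by ring]
    rw [sum_comm, sum_congr rfl fun i _ => (mul_sum _ _ _).symm, sum_congr rfl fun i _ => by rw [b_dual],
      sum_eq_single j (fun i _ hi => by rw [if_neg hi, mul_zero]) (by simp), if_pos rfl]
  omega

/-- A vector of the ambient space from coordinates on the octad. -/
def emb (x : Fin 8 → ℤ) : GolayPt → ℤ := fun p => if p ∈ O then x (idx p) else 0

theorem emb_b_mem : ∀ k, inLat (emb (b k)) = true := by decide +kernel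

/-- The roots, as lattice vectors. -/
def bV (k : Fin 8) : leechLattice := ⟨emb (b k), mem_of_inLat (emb_b_mem k)⟩

theorem bV_mem (k : Fin 8) : bV k ∈ L := fun p hp => if_neg hp

theorem r_bV (k : Fin 8) : r (bV k) = b k := funext fun j => by
  simp [r, bV, emb, o_mem, idx_o]

/-- An integral combination of the roots. -/
def comb (c : Fin 8 → ℤ) : leechLattice := ∑ k, c k • bV k

theorem comb_mem (c : Fin 8 → ℤ) : comb c ∈ L :=
  sum_mem fun k _ => L.zsmul_mem (bV_mem k) _

theorem r_comb (c : Fin 8 → ℤ) (j : Fin 8) : r (comb c) j = ∑ k, c k * b k j := by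
  have : ∀ k, ((bV k : leechLattice) : GolayPt → ℤ) (o j) = b k j := fun k => congrFun (r_bV k) j
  simp [r, comb, AddSubmonoidClass.coe_finsetSum, this]

theorem eq_comb {v : leechLattice} (hv : v ∈ L) : v = comb (cc v) :=
  ext_L hv (comb_mem _) (funext fun j => by rw [r_comb, ← expand hv j])

theorem comb_add (c c' : Fin 8 → ℤ) : comb (c + c') = comb c + comb c' := by
  simp only [comb, Pi.add_apply, add_smul, sum_add_distrib]

/-! ### Reduction modulo two -/

/-- The position of an index. -/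
def pos8 : Fin 4 ⊕ Fin 4 → Fin 8 :=
  Sum.elim (fun i => ⟨i.1, by omega⟩) (fun i => ⟨i.1 + 4, by omega⟩)

/-- The change of coordinates. -/
def Rmask : Fin 8 → ℕ := ![104, 246, 79, 2, 16, 182, 73, 1]

/-- The inverse change of coordinates. -/
def Bmask : Fin 8 → ℕ := ![160, 72, 132, 6, 144, 200, 44, 169]

/-- From root coordinates to hyperbolic coordinates. -/
def toX (c : Fin 8 → ZMod 2) : X := fun i => ∑ k : Fin 8, if (Rmask (pos8 i)).testBit k.1 then c k else 0

/-- From hyperbolic coordinates to root coordinates. -/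
def ofX (w : X) : Fin 8 → ZMod 2 := fun k => ∑ i, if (Bmask (pos8 i)).testBit k.1 then w i else 0

theorem ofX_toX : ∀ c : Fin 8 → ZMod 2, ofX (toX c) = c := by decide +kernel

theorem toX_ofX : ∀ w : X, toX (ofX w) = w := by decide +kernel

theorem toX_add (c c' : Fin 8 → ZMod 2) : toX (c + c') = toX c + toX c' := by
  funext i
  simp only [toX, Pi.add_apply, ← sum_add_distrib]
  exact sum_congr rfl fun k _ => by split_ifs <;> simp

/-- The reduction of a vector. -/
def phi (v : leechLattice) : X := toX fun k => (cc v k : ZMod 2)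

theorem phi_add {v w : leechLattice} (hv : v ∈ L) (hw : w ∈ L) : phi (v + w) = phi v + phi w := by
  rw [phi, phi, phi, ← toX_add]
  congr 1
  funext k
  rw [Pi.add_apply, cc_add hv hw, Int.cast_add]

theorem phi_double {u : leechLattice} (hu : u ∈ L) : phi (u + u) = 0 := by
  rw [phi_add hu hu]
  funext i
  exact CharTwo.add_self_eq_zero _

theorem exists_double {v w : leechLattice} (hv : v ∈ L) (hw : w ∈ L) (h : phi v = phi w) :
    ∃ u ∈ L, v = w + (u + u) := by
  have h' := congrArg ofX h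
  rw [phi, phi, ofX_toX, ofX_toX] at h'
  have h2 : ∀ k, (2 : ℤ) ∣ cc v k - cc w k := fun k => by
    have := congrFun h' k
    rw [← sub_eq_zero, ← Int.cast_sub, ZMod.intCast_zmod_eq_zero_iff_dvd] at this
    exact this
  choose u hu using h2
  refine ⟨comb u, comb_mem u, ?_⟩
  conv_lhs => rw [eq_comb hv]
  conv_rhs => rw [eq_comb hw]
  rw [← comb_add, ← comb_add]
  congr 1
  funext k
  have := hu k
  simp only [Pi.add_apply]
  omega

/-- The lift of a reduced vector, on root coordinates. -/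
def liftC (w : X) : Fin 8 → ℤ := fun k => ((ofX w k).val : ℤ)

/-- The lift of a reduced vector. -/
def lift (w : X) : leechLattice := comb (liftC w)

theorem lift_mem (w : X) : lift w ∈ L := comb_mem _

/-- The lift of a reduced vector, on the octad. -/
def liftR (w : X) : Fin 8 → ℤ := fun j => ∑ k, liftC w k * b k j

theorem r_lift (w : X) : r (lift w) = liftR w := funext fun j => r_comb _ j

/-- The reduction, computed on the octad. -/
def phiR (x : Fin 8 → ℤ) : X := toX fun k => (((∑ j, x j * d k j) / 16 : ℤ) : ZMod 2)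

theorem phi_eq (v : leechLattice) : phi v = phiR (r v) := rfl

theorem phiR_liftR : ∀ w : X, phiR (liftR w) = w := by decide +kernel

theorem phi_lift (w : X) : phi (lift w) = w := by rw [phi_eq, r_lift, phiR_liftR]

/-! ### The quadratic form -/

theorem norm_dvd {v : leechLattice} (hv : v ∈ L) : (32 : ℤ) ∣ ∑ k, r v k ^ 2 := by
  obtain ⟨e, he, y, ⟨t, ht⟩, hr⟩ := shape_L hv
  have h2 : ∀ z : ℤ, ∃ s, z * z = z + 2 * s := fun z => by
    rcases Int.even_or_odd z with ⟨k, rfl⟩ | ⟨k, rfl⟩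
    · exact ⟨2 * k * k - k, by ring⟩
    · exact ⟨2 * k * k + k, by ring⟩
  choose s hs using h2
  refine ⟨e * e + e * t + t + ∑ k, s (y k), ?_⟩
  simp only [hr, Fin.sum_univ_eight] at ht ⊢
  linear_combination (16 * e + 16) * ht + 16 * hs (y 0) + 16 * hs (y 1) + 16 * hs (y 2) +
    16 * hs (y 3) + 16 * hs (y 4) + 16 * hs (y 5) + 16 * hs (y 6) + 16 * hs (y 7)

/-- The inner product on the octad is divisible by sixteen. -/
theorem dot_dvd {v w : leechLattice} (hv : v ∈ L) (hw : w ∈ L) : (16 : ℤ) ∣ ∑ k, r v k * r w k := by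
  have h := norm_dvd (L.add_mem hv hw)
  have h1 := norm_dvd hv
  have h2 := norm_dvd hw
  simp only [r_add, Pi.add_apply, add_sq, sum_add_distrib, mul_assoc, ← mul_sum] at h
  omega

/-- The form on the octad. -/
def qR (x : Fin 8 → ℤ) : ZMod 2 := (((∑ k, x k ^ 2) / 32 : ℤ) : ZMod 2)

theorem qR_liftR : ∀ w : X, qR (liftR w) = quadFormPlus 4 (ZMod 2) w := by decide +kernel

theorem q_phi {v : leechLattice} (hv : v ∈ L) : qR (r v) = quadFormPlus 4 (ZMod 2) (phi v) := by
  obtain ⟨u, hu, e⟩ := exists_double hv (lift_mem (phi v)) (phi_lift _).symm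
  have e' : r v = r (lift (phi v)) + (r u + r u) := by
    conv_lhs => rw [e]
    rw [r_add, r_add]
  rw [← qR_liftR, ← r_lift, qR, qR, ZMod.intCast_eq_intCast_iff_dvd_sub]
  obtain ⟨t, ht⟩ := dot_dvd (lift_mem (phi v)) hu
  obtain ⟨s, hs⟩ := norm_dvd (lift_mem (phi v))
  obtain ⟨s', hs'⟩ := norm_dvd hu
  have hsum : ∑ k, r v k ^ 2 = 32 * (s + 2 * t + 4 * s') := by
    rw [e']
    have : ∀ k, (r (lift (phi v)) + (r u + r u)) k ^ 2 =
        r (lift (phi v)) k ^ 2 + 4 * (r (lift (phi v)) k * r u k) + 4 * r u k ^ 2 := fun k => by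
      simp only [Pi.add_apply]; ring
    simp only [this, sum_add_distrib, ← mul_sum, hs, ht, hs']
    ring
  rw [hsum, hs, Int.mul_ediv_cancel_left _ (by norm_num), Int.mul_ediv_cancel_left _ (by norm_num)]
  exact ⟨-t - 2 * s', by ring⟩

end Cfsg.Agent.OctadInv.Local
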