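import Cfsg.Agent.Lib.OctadInv.Fix
import Cfsg.Agent.Lib.OctadInv.Orbits
import Cfsg.Agent.Lib.OctadInv.Kernel

/-!
The centraliser of `θ` in the octad centraliser, acting on the fixer commuting with `θ` and on
the sublattice modulo two.
-/

set_option autoImplicit false

namespace Cfsg.Agent.OctadInv.Rep

open Cfsg Cfsg.Agent.LeechAut.Basic Cfsg.Agent.OctadInv.Lattice Cfsg.Agent.OctadInv.Elements
  Cfsg.Agent.OctadInv.Hom Cfsg.Agent.OctadInv.Fixer Cfsg.Agent.OctadInv.Fix Cfsg.Agent.OctadInv.Orbits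
  Finset
open scoped Matrix

variable {θ : Co0} {ι : Type} [Fintype ι] [DecidableEq ι] {P : QuadraticForm (ZMod 2) (ι → ZMod 2)}

/-- The centraliser of `θ` in the octad centraliser. -/
def CH (θ : Co0) : Subgroup Co0 := H ⊓ Subgroup.centralizer {θ}

theorem mem_CH {g : Co0} : g ∈ CH θ ↔ g ∈ H ∧ g * θ = θ * g := by
  simp [CH, Subgroup.mem_centralizer_singleton_iff]

theorem conj_Kth (g : CH θ) {k : Co0} (hk : k ∈ Kth θ) : (g : Co0) * k * (g : Co0)⁻¹ ∈ Kth θ := by
  obtain ⟨hH, hc⟩ := mem_CH.1 g.2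
  obtain ⟨hK, hkc⟩ := mem_Kth.1 hk
  refine mem_Kth.2 ⟨conj_K hH hK, ?_⟩
  have hc' : (g : Co0)⁻¹ * θ = θ * (g : Co0)⁻¹ := by
    calc (g : Co0)⁻¹ * θ = (g : Co0)⁻¹ * (θ * (g : Co0)) * (g : Co0)⁻¹ := by group
      _ = θ * (g : Co0)⁻¹ := by rw [← hc]; group
  calc (g : Co0) * k * (g : Co0)⁻¹ * θ = (g : Co0) * k * ((g : Co0)⁻¹ * θ) := by group
    _ = (g : Co0) * (k * θ) * (g : Co0)⁻¹ := by rw [hc']; group
    _ = (g : Co0) * θ * k * (g : Co0)⁻¹ := by rw [hkc]; group
    _ = θ * ((g : Co0) * k * (g : Co0)⁻¹) := by rw [hc]; group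

/-- A preimage of a coordinate vector. -/
noncomputable def lift (B : Basis θ P) (v : ι → ZMod 2) : Co0 := (exists_nu B v).choose

theorem lift_mem (B : Basis θ P) (v : ι → ZMod 2) : lift B v ∈ Kth θ := (exists_nu B v).choose_spec.1

theorem nu_lift (B : Basis θ P) (v : ι → ZMod 2) : nu B (lift B v) = v := (exists_nu B v).choose_spec.2

/-- The induced map. -/
noncomputable def conjV (B : Basis θ P) (g : CH θ) (v : ι → ZMod 2) : ι → ZMod 2 :=
  nu B ((g : Co0) * lift B v * (g : Co0)⁻¹)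

theorem conj_zK (g : CH θ) : (g : Co0) * zK * (g : Co0)⁻¹ = zK := by
  rw [zK_eq, mul_inv_eq_iff_eq_mul, ← mul_assoc, negOne_comm, mul_assoc, mul_assoc,
    mem_H_iff.1 (mem_CH.1 g.2).1]

theorem conjV_nu (B : Basis θ P) (g : CH θ) {k : Co0} (hk : k ∈ Kth θ) :
    conjV B g (nu B k) = nu B ((g : Co0) * k * (g : Co0)⁻¹) := by
  have h0 : nu B ((lift B (nu B k))⁻¹ * k) = 0 := by
    rw [nu_mul B (K.inv_mem (lift_mem B _).1) hk.1, nu_inv B (lift_mem B _).1, nu_lift]
    funext i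
    exact CharTwo.add_self_eq_zero _
  have hmem := mul_mem (inv_mem (lift_mem B (nu B k))) hk
  have hd : nu B ((g : Co0) * ((lift B (nu B k))⁻¹ * k) * (g : Co0)⁻¹) = 0 := by
    rcases nu_eq_zero B hmem h0 with e | e <;> rw [e]
    · simp [nu_one]
    · rw [conj_zK, nu_zK]
  have e : (g : Co0) * k * (g : Co0)⁻¹ = (g : Co0) * lift B (nu B k) * (g : Co0)⁻¹ *
      ((g : Co0) * ((lift B (nu B k))⁻¹ * k) * (g : Co0)⁻¹) := by group
  rw [e, nu_mul B (conj_Kth g (lift_mem B _)).1 (conj_Kth g hmem).1, hd, add_zero, conjV]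

theorem conjV_add (B : Basis θ P) (g : CH θ) (a c : ι → ZMod 2) :
    conjV B g (a + c) = conjV B g a + conjV B g c := by
  have h : nu B (lift B a * lift B c) = a + c := by
    rw [nu_mul B (lift_mem B a).1 (lift_mem B c).1, nu_lift, nu_lift]
  rw [← h, conjV_nu B g (mul_mem (lift_mem B a) (lift_mem B c))]
  rw [show (g : Co0) * (lift B a * lift B c) * (g : Co0)⁻¹ =
    ((g : Co0) * lift B a * (g : Co0)⁻¹) * ((g : Co0) * lift B c * (g : Co0)⁻¹) by group,
    nu_mul B (conj_Kth g (lift_mem B a)).1 (conj_Kth g (lift_mem B c)).1]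
  rfl

/-- The representation by endomorphisms. -/
noncomputable def endHom (B : Basis θ P) : CH θ →* Module.End (ZMod 2) (ι → ZMod 2) where
  toFun g := (AddMonoidHom.mk' (conjV B g) (conjV_add B g)).toZModLinearMap 2
  map_one' := LinearMap.ext fun v => by
    show conjV B 1 v = v
    simp [conjV, nu_lift]
  map_mul' g h := LinearMap.ext fun v => by
    show conjV B (g * h) v = conjV B g (conjV B h v)
    rw [conjV.eq_def B h v, conjV_nu B g (conj_Kth h (lift_mem B v)), conjV]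
    congr 1

/-- The representation by invertible matrices. -/
noncomputable def glHom (B : Basis θ P) : CH θ →* Matrix.GeneralLinearGroup ι (ZMod 2) :=
  ((LinearMap.toMatrixAlgEquiv' : ((ι → ZMod 2) →ₗ[ZMod 2] (ι → ZMod 2)) ≃ₐ[ZMod 2] _).toMonoidHom.comp
    (endHom B)).toHomUnits

theorem glHom_mulVec (B : Basis θ P) (g : CH θ) (v : ι → ZMod 2) :
    (glHom B g : Matrix ι ι (ZMod 2)) *ᵥ v = conjV B g v := by
  show LinearMap.toMatrix' (endHom B g) *ᵥ v = _
  rw [LinearMap.toMatrix'_mulVec]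
  rfl

theorem glHom_mem (B : Basis θ P) (g : CH θ) : glHom B g ∈ Cfsg.isometryGroup (ZMod 2) ⇑P := fun v _ => by
  show P ((glHom B g : Matrix ι ι (ZMod 2)) *ᵥ v) = P v
  rw [glHom_mulVec, conjV, ← sq_eq_form B (conj_Kth g (lift_mem B v)), sq_conj,
    sq_eq_form B (lift_mem B v), nu_lift]

/-- The action on the fixer modulo the centre. -/
noncomputable def chi (B : Basis θ P) : CH θ →* Cfsg.isometryGroup (ZMod 2) ⇑P :=
  (glHom B).codRestrict _ (glHom_mem B)

theorem chi_nu (B : Basis θ P) (g : CH θ) {k : Co0} (hk : k ∈ Kth θ) :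
    act (chi B g) (nu B k) = nu B ((g : Co0) * k * (g : Co0)⁻¹) :=
  (glHom_mulVec B g _).trans (conjV_nu B g hk)

theorem chi_eq_one (B : Basis θ P) (g : CH θ)
    (h : ∀ k ∈ Kth θ, nu B ((g : Co0) * k * (g : Co0)⁻¹) = nu B k) : chi B g = 1 := by
  refine ext_act fun v => ?_
  rw [← nu_lift B v, chi_nu B g (lift_mem B v), h _ (lift_mem B v), act_one]

/-- The action on the sublattice modulo two. -/
noncomputable def psiC (θ : Co0) : CH θ →* O8 := psi.comp (Subgroup.inclusion inf_le_left)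

end Cfsg.Agent.OctadInv.Rep
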