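import Cfsg.Agent.Lib.OctadInv.Rep
import Cfsg.Agent.Lib.LargeExtra.SimpleCrit
import Cfsg.Agent.Lib.LargeExtra.Centralizer

/-!
The section of `Co0` centralising an element of odd prime order in the octad centraliser: a simple
group with an involution whose centraliser is extraspecial by simple.
-/

set_option autoImplicit false

namespace Cfsg.Agent.OctadInv.Section

open Cfsg Cfsg.Agent.LeechAut.Basic Cfsg.Agent.LeechAut.Cross Cfsg.Agent.OctadInv.Lattice
  Cfsg.Agent.OctadInv.Elements Cfsg.Agent.OctadInv.Hom Cfsg.Agent.OctadInv.Kernel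
  Cfsg.Agent.OctadInv.Fixer Cfsg.Agent.OctadInv.Fix Cfsg.Agent.OctadInv.Orbits
  Cfsg.Agent.OctadInv.Rep Finset

variable {θ : Co0} {ι : Type} [Fintype ι] [DecidableEq ι] {P : QuadraticForm (ZMod 2) (ι → ZMod 2)}

/-- What has to be checked for a given `θ`. -/
structure Hyp (θ : Co0) (P : QuadraticForm (ZMod 2) (ι → ZMod 2)) where
  B : Basis θ P
  p : ℕ
  prime : p.Prime
  odd : p ≠ 2
  pow : θ ^ p = 1
  ne : θ ≠ 1
  i0 : ι
  j0 : ι
  j0_ne : j0 ≠ B.partner i0 ∧ B.partner j0 ≠ B.partner i0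
  fus : ∃ g : Co0, g * θ = θ * g ∧ g * eps = B.kv i0 * g
  N : ℕ
  upper : Nat.card (psiC θ).range ≤ p * N
  lower : N ≤ Nat.card (chi B).range
  orbit : ∀ j, Pi.single j (1 : ZMod 2) ∈
    AddSubgroup.closure {v | ∃ A ∈ (chi B).range, act A (Pi.single i0 1) = v}

/-- The centraliser of `A = ⟨θ⟩`. -/
abbrev Csub (θ : Co0) : Subgroup Co0 := Subgroup.centralizer ((Subgroup.zpowers θ : Subgroup Co0) : Set Co0)

/-- The normal subgroup `A × center`. -/
abbrev Bn (θ : Co0) : Subgroup Co0 := Subgroup.zpowers θ ⊔ Subgroup.center Co0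

/-- The same, inside the centraliser. -/
abbrev Nn (θ : Co0) : Subgroup (Csub θ) := (Bn θ).subgroupOf (Csub θ)

theorem mem_Csub {g : Co0} : g ∈ Csub θ ↔ g * θ = θ * g := by
  rw [Subgroup.mem_centralizer_iff]
  refine ⟨fun h => (h θ (Subgroup.mem_zpowers θ)).symm, fun h x hx => ?_⟩
  obtain ⟨k, rfl⟩ := Subgroup.mem_zpowers_iff.1 hx
  exact ((show Commute g θ from h).zpow_right k).symm

theorem theta_mem_Csub : θ ∈ Csub θ := mem_Csub.2 rfl

theorem mem_Bn {x : Co0} (hx : x ∈ Bn θ) : ∃ i : ℤ, x = θ ^ i ∨ x = negOne * θ ^ i := by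
  haveI : (Subgroup.center Co0).Normal := inferInstance
  obtain ⟨y, hy, c, hc, rfl⟩ := Subgroup.mem_sup_of_normal_right.1 hx
  obtain ⟨i, rfl⟩ := Subgroup.mem_zpowers_iff.1 hy
  refine ⟨i, ?_⟩
  rcases center_eq c hc with rfl | rfl
  · exact Or.inl (mul_one _)
  · exact Or.inr (negOne_comm _)

theorem zpow_mem_Bn (i : ℤ) : θ ^ i ∈ Bn θ := Subgroup.mem_sup_left ⟨i, rfl⟩

theorem negOne_mem_Bn : negOne ∈ Bn θ := Subgroup.mem_sup_right negOne_central

theorem negOne_sq : negOne * negOne = 1 := by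
  refine ext' fun v => ?_
  rw [mul_smul, negOne_smul, negOne_smul, neg_neg, one_smul]

theorem normal_Nn : (Nn θ).Normal := by
  refine ⟨fun x hx g => ?_⟩
  have e : g * x * g⁻¹ = x := by
    apply Subtype.ext
    obtain ⟨i, h | h⟩ := mem_Bn (Subgroup.mem_subgroupOf.1 hx)
    · have hc : Commute (g : Co0) (x : Co0) := by
        rw [h]; exact (show Commute (g : Co0) θ from mem_Csub.1 g.2).zpow_right i
      rw [Subgroup.coe_mul, Subgroup.coe_mul, hc.eq, InvMemClass.coe_inv, mul_inv_cancel_right]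
    · have hc : Commute (g : Co0) (x : Co0) := by
        rw [h]
        exact (show Commute (g : Co0) negOne from negOne_comm _).mul_right
          ((show Commute (g : Co0) θ from mem_Csub.1 g.2).zpow_right i)
      rw [Subgroup.coe_mul, Subgroup.coe_mul, hc.eq, InvMemClass.coe_inv, mul_inv_cancel_right]
  rw [e]
  exact hx

/-- The section. -/
abbrev S (θ : Co0) : Type := Csub θ ⧸ Nn θ

instance groupS : Group (S θ) :=
  haveI := normal_Nn (θ := θ)
  QuotientGroup.Quotient.group (Nn θ)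

theorem finite_S : Finite (S θ) := by
  have : Finite Co0 := finite_Co0
  infer_instance

/-- The projection. -/
def pr (θ : Co0) : Csub θ →* S θ :=
  haveI := normal_Nn (θ := θ)
  QuotientGroup.mk' (Nn θ)

theorem pr_surjective : Function.Surjective (pr θ) := Quotient.mk''_surjective

theorem pr_eq_one {x : Csub θ} : pr θ x = 1 ↔ (x : Co0) ∈ Bn θ := by
  haveI := normal_Nn (θ := θ)
  rw [pr, QuotientGroup.mk'_apply, QuotientGroup.eq_one_iff, Subgroup.mem_subgroupOf]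

theorem pr_eq_iff {x y : Csub θ} : pr θ x = pr θ y ↔ (x : Co0) * (y : Co0)⁻¹ ∈ Bn θ := by
  rw [← mul_inv_eq_one, ← map_inv, ← map_mul, pr_eq_one, Subgroup.coe_mul, InvMemClass.coe_inv]

variable (h : Hyp θ P)

include h

theorem theta_CH : θ ∈ CH θ := mem_CH.2 ⟨h.B.θ_mem, rfl⟩

theorem zK_Csub : zK ∈ Csub θ := mem_Csub.2 (mem_Kth.1 (zK_mem_Kth h.B)).2

theorem zpow_eq_one {i : ℤ} (e : θ ^ (2 * i) = 1) : θ ^ i = 1 := by
  have hord : orderOf θ = h.p := by
    haveI := Fact.mk h.prime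
    exact orderOf_eq_prime h.pow h.ne
  rw [← orderOf_dvd_iff_zpow_eq_one, hord] at e ⊢
  refine (Int.Prime.dvd_mul' h.prime e).resolve_left fun h2 => h.odd ?_
  have : h.p ∣ 2 := by exact_mod_cast h2
  exact (Nat.prime_dvd_prime_iff_eq h.prime Nat.prime_two).1 this

theorem zpow_K {i : ℤ} (hi : θ ^ i ∈ K) : θ ^ i = 1 := by
  apply zpow_eq_one h
  rcases sq_cases hi with e | e
  · rw [two_mul, zpow_add, e]
  · exfalso
    have e2 : θ ^ (2 * (2 * i)) = 1 := by rw [two_mul, zpow_add, two_mul, zpow_add, e, zK_sq]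
    have e3 := zpow_eq_one h e2
    rw [two_mul, zpow_add, e] at e3
    exact zK_ne_one e3

theorem Bn_K {x : Co0} (hx : x ∈ Bn θ) (hK : x ∈ K) : x = 1 := by
  obtain ⟨i, rfl | rfl⟩ := mem_Bn hx
  · exact zpow_K h hK
  · exfalso
    have h2 := K.mul_mem hK hK
    have e : negOne * θ ^ i * (negOne * θ ^ i) = θ ^ (2 * i) := by
      rw [mul_assoc, ← mul_assoc (θ ^ i), negOne_comm, ← mul_assoc, ← mul_assoc, negOne_sq, one_mul,
        two_mul, zpow_add]
    rw [e] at h2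
    rw [zpow_eq_one h (zpow_K h h2), mul_one] at hK
    exact Fix.negOne_notMem_K hK

/-- The involution. -/
def zS : S θ := pr θ ⟨zK, zK_Csub h⟩

theorem orderOf_zS : orderOf (zS h) = 2 := by
  refine orderOf_eq_prime ?_ ?_
  · rw [pow_two, zS, ← map_mul, pr_eq_one, Subgroup.coe_mul, zK_sq]
    exact one_mem _
  · rw [zS, Ne, pr_eq_one]
    exact fun e => zK_ne_one (Bn_K h e zK_mem)

/-- The centraliser. -/
abbrev CS : Subgroup (S θ) := Subgroup.centralizer ({zS h} : Set (S θ))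

theorem pr_mem_CS {g : Co0} (hg : g ∈ CH θ) : pr θ ⟨g, mem_Csub.2 (mem_CH.1 hg).2⟩ ∈ CS h := by
  rw [Subgroup.mem_centralizer_singleton_iff, zS, ← map_mul, ← map_mul]
  congr 1
  apply Subtype.ext
  exact mul_inv_eq_iff_eq_mul.1 (conj_zK ⟨g, hg⟩)

/-- From the centraliser in `Co0`. -/
def fS : CH θ →* CS h :=
  ((pr θ).comp (Subgroup.inclusion fun _ hg => mem_Csub.2 (mem_CH.1 hg).2)).codRestrict (CS h)
    fun g => pr_mem_CS h g.2

theorem fS_surjective : Function.Surjective (fS h) := by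
  rintro ⟨c, hc⟩
  obtain ⟨g, rfl⟩ := pr_surjective c
  rw [Subgroup.mem_centralizer_singleton_iff, zS, ← map_mul, ← map_mul, pr_eq_iff] at hc
  have hθH : ∀ x : Co0, x ∈ Bn θ → x ∈ CH θ := fun x hx => by
    obtain ⟨i, rfl | rfl⟩ := mem_Bn hx
    · exact (CH θ).zpow_mem (theta_CH h) i
    · exact (CH θ).mul_mem (mem_CH.2 ⟨negOne_mem_H, (negOne_comm _).symm⟩) ((CH θ).zpow_mem (theta_CH h) i)
  obtain ⟨u, hu⟩ : ∃ u, u = (g : Co0) * zK * (zK * (g : Co0))⁻¹ := ⟨_, rfl⟩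
  have huB : u ∈ Bn θ := by rw [hu]; exact hc
  have hgz : (g : Co0) * zK * (g : Co0)⁻¹ = u * zK := by rw [hu]; group
  have huz : zK * u = u * zK := (mul_inv_eq_iff_eq_mul.1 (conj_zK ⟨u, hθH u huB⟩)).symm
  have husq : u * u = 1 := by
    have e : (u * zK) * (u * zK) = 1 := by
      rw [← hgz]
      calc (g : Co0) * zK * (g : Co0)⁻¹ * ((g : Co0) * zK * (g : Co0)⁻¹)
          = (g : Co0) * (zK * zK) * (g : Co0)⁻¹ := by group
        _ = 1 := by rw [zK_sq]; group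
    calc u * u = u * u * (zK * zK) := by rw [zK_sq, mul_one]
      _ = u * (u * zK) * zK := by group
      _ = u * (zK * u) * zK := by rw [huz]
      _ = 1 := by rw [← mul_assoc, mul_assoc (u * zK)]; exact e
  obtain ⟨i, hi | hi⟩ := mem_Bn huB
  · have : θ ^ i = 1 := zpow_eq_one h (by rw [two_mul, zpow_add, ← hi, husq])
    rw [hi, this, one_mul, mul_inv_eq_iff_eq_mul] at hgz
    refine ⟨⟨g, mem_CH.2 ⟨mem_H_iff.2 ?_, mem_Csub.1 g.2⟩⟩, Subtype.ext rfl⟩
    rw [zK_eq, ← mul_assoc, negOne_comm, mul_assoc, mul_assoc] at hgz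
    exact mul_left_cancel hgz
  · exfalso
    have : θ ^ i = 1 := zpow_eq_one h (by
      rw [two_mul, zpow_add]
      calc θ ^ i * θ ^ i = (negOne * negOne) * (θ ^ i * θ ^ i) := by rw [negOne_sq, one_mul]
        _ = negOne * (negOne * θ ^ i) * θ ^ i := by group
        _ = negOne * (θ ^ i * negOne) * θ ^ i := by rw [negOne_comm]
        _ = u * u := by rw [hi]; group
        _ = 1 := husq)
    rw [hi, this, mul_one, mul_inv_eq_iff_eq_mul, zK_eq] at hgz
    refine not_anti (g : Co0) (mul_left_cancel (a := negOne) ?_)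
    calc negOne * ((g : Co0) * eps) = (g : Co0) * (negOne * eps) := by
          rw [← mul_assoc, ← negOne_comm, mul_assoc]
      _ = negOne * (negOne * eps) * (g : Co0) := hgz
      _ = negOne * (negOne * eps * (g : Co0)) := mul_assoc _ _ _

theorem fS_eq_one {g : CH θ} : fS h g = 1 ↔ (g : Co0) ∈ Bn θ := by
  rw [Subtype.ext_iff]
  exact pr_eq_one

theorem chi_theta : chi h.B ⟨θ, theta_CH h⟩ = 1 :=
  chi_eq_one _ _ fun k hk => by
    show nu h.B (θ * k * θ⁻¹) = nu h.B k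
    rw [← (mem_Kth.1 hk).2, mul_inv_cancel_right]

theorem chi_Bn {g : CH θ} (hg : (g : Co0) ∈ Bn θ) : chi h.B g = 1 := by
  obtain ⟨i, e | e⟩ := mem_Bn hg
  · rw [show g = (⟨θ, theta_CH h⟩ : CH θ) ^ i from Subtype.ext (by rw [SubgroupClass.coe_zpow]; exact e),
      map_zpow, chi_theta h, one_zpow]
  · rw [show g = ⟨negOne, mem_CH.2 ⟨negOne_mem_H, (negOne_comm _).symm⟩⟩ *
        (⟨θ, theta_CH h⟩ : CH θ) ^ i from Subtype.ext (by rw [Subgroup.coe_mul, SubgroupClass.coe_zpow]; exact e),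
      map_mul, map_zpow, chi_theta h, one_zpow, mul_one]
    exact chi_eq_one _ _ fun k _ => by
      show nu h.B (negOne * k * negOne⁻¹) = nu h.B k
      rw [← negOne_comm, mul_inv_cancel_right]

theorem fS_ker_le : (fS h).ker ≤ (chi h.B).ker := fun _ hg =>
  MonoidHom.mem_ker.2 (chi_Bn h ((fS_eq_one h).1 hg))

/-- The action of the centraliser of the involution. -/
noncomputable def chiS : CS h →* Cfsg.isometryGroup (ZMod 2) ⇑P :=
  (fS h).liftOfSurjective (fS_surjective h) ⟨chi h.B, fS_ker_le h⟩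

theorem chiS_fS (g : CH θ) : chiS h (fS h g) = chi h.B g :=
  MonoidHom.liftOfRightInverse_comp_apply _ _ _ _ g

theorem chiS_range : (chiS h).range = (chi h.B).range := by
  ext A
  constructor
  · rintro ⟨c, rfl⟩
    obtain ⟨g, rfl⟩ := fS_surjective h c
    exact ⟨g, (chiS_fS h g).symm⟩
  · rintro ⟨g, rfl⟩
    exact ⟨_, chiS_fS h g⟩

/-- The preimage of `⟨θ⟩` modulo two. -/
noncomputable def Pre : Subgroup (CH θ) :=
  (Subgroup.zpowers (psiC θ ⟨θ, theta_CH h⟩)).comap (psiC θ)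

theorem Pre_split {g : CH θ} (hg : g ∈ Pre h) :
    ∃ u k : Co0, u ∈ Bn θ ∧ k ∈ Kth θ ∧ (g : Co0) = k * u := by
  obtain ⟨i, hi⟩ := Subgroup.mem_zpowers_iff.1 (Subgroup.mem_comap.1 hg)
  obtain ⟨hH, hc⟩ := mem_CH.1 g.2
  have hθi : θ ^ i ∈ H := H.zpow_mem h.B.θ_mem i
  have hcz : ((g : Co0) * (θ ^ i)⁻¹) * θ = θ * ((g : Co0) * (θ ^ i)⁻¹) :=
    ((show Commute (g : Co0) θ from hc).mul_left (((Commute.refl θ).zpow_left i).inv_left)).eq
  have hk : psi ⟨(g : Co0) * (θ ^ i)⁻¹, H.mul_mem hH (H.inv_mem hθi)⟩ = 1 := by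
    have e : (⟨(g : Co0) * (θ ^ i)⁻¹, H.mul_mem hH (H.inv_mem hθi)⟩ : H) =
        Subgroup.inclusion inf_le_left g *
          ((Subgroup.inclusion inf_le_left (⟨θ, theta_CH h⟩ : CH θ)) ^ i)⁻¹ := by
      apply Subtype.ext
      rw [Subgroup.coe_mul, InvMemClass.coe_inv, SubgroupClass.coe_zpow]
      rfl
    rw [e, map_mul, map_inv, map_zpow]
    show psiC θ g * ((psiC θ ⟨θ, theta_CH h⟩) ^ i)⁻¹ = 1
    rw [hi, mul_inv_cancel]
  rcases psi_eq_one_iff.1 hk with hK | hK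
  · exact ⟨θ ^ i, _, zpow_mem_Bn i, mem_Kth.2 ⟨hK, hcz⟩, by simp⟩
  · refine ⟨negOne * θ ^ i, _, (Bn θ).mul_mem negOne_mem_Bn (zpow_mem_Bn i),
      mem_Kth.2 ⟨hK, ?_⟩, ?_⟩
    · exact ((show Commute negOne θ from (negOne_comm θ).symm).mul_left hcz).eq
    · show (g : Co0) = negOne * ((g : Co0) * (θ ^ i)⁻¹) * (negOne * θ ^ i)
      calc (g : Co0) = negOne * negOne * (g : Co0) := by rw [negOne_sq, one_mul]
        _ = negOne * ((g : Co0) * negOne) := by rw [mul_assoc, negOne_comm]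
        _ = negOne * (((g : Co0) * (θ ^ i)⁻¹) * (θ ^ i * negOne)) := by group
        _ = _ := by rw [negOne_comm]; group

theorem chi_Kth {k : CH θ} (hk : (k : Co0) ∈ Kth θ) : chi h.B k = 1 :=
  chi_eq_one _ _ fun a ha => by
    rw [nu_mul h.B (K.mul_mem hk.1 ha.1) (K.inv_mem hk.1), nu_mul h.B hk.1 ha.1, nu_inv h.B hk.1]
    funext i
    simp only [Pi.add_apply]
    linear_combination (CharTwo.add_self_eq_zero (nu h.B (k : Co0) i))

theorem Pre_le : Pre h ≤ (chi h.B).ker := fun g hg => by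
  obtain ⟨u, k, hu, hk, e⟩ := Pre_split h hg
  have hkC : k ∈ CH θ := mem_CH.2 ⟨K_le_H hk.1, (mem_Kth.1 hk).2⟩
  have huC : u ∈ CH θ := by
    have h2 := (CH θ).mul_mem ((CH θ).inv_mem hkC) g.2
    rwa [e, inv_mul_cancel_left] at h2
  rw [MonoidHom.mem_ker, show g = ⟨k, hkC⟩ * ⟨u, huC⟩ from Subtype.ext e, map_mul,
    chi_Kth h (k := ⟨k, hkC⟩) hk, chi_Bn h (g := ⟨u, huC⟩) hu, mul_one]

theorem theta_psi_order : orderOf (psiC θ ⟨θ, theta_CH h⟩) = h.p := by
  haveI := Fact.mk h.prime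
  refine orderOf_eq_prime ?_ ?_
  · rw [← map_pow, show (⟨θ, theta_CH h⟩ : CH θ) ^ h.p = 1 from Subtype.ext h.pow, map_one]
  · intro e
    apply h.ne
    have hf : θ = θ ^ (1 : ℤ) := (zpow_one θ).symm
    rcases psi_eq_one_iff.1 (show psi (Subgroup.inclusion inf_le_left ⟨θ, theta_CH h⟩) = 1 from e) with hK | hK
    · rw [hf]; exact zpow_K h (by rwa [zpow_one])
    · have hB : negOne * θ ∈ Bn θ := (Bn θ).mul_mem negOne_mem_Bn (by rw [hf]; exact zpow_mem_Bn 1)
      have e1 : negOne * θ = 1 := Bn_K h hB hK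
      have e2 : θ = negOne := by
        calc θ = negOne * negOne * θ := by rw [negOne_sq, one_mul]
          _ = negOne := by rw [mul_assoc, e1, mul_one]
      rw [hf]
      refine zpow_eq_one h ?_
      rw [two_mul, zpow_add, zpow_one, e2, negOne_sq]

theorem index_Pre_mul : (Pre h).index * h.p = Nat.card (psiC θ).range := by
  rw [Pre, Subgroup.index_comap, ← theta_psi_order h, ← Nat.card_zpowers, mul_comm]
  have hle : Subgroup.zpowers (psiC θ ⟨θ, theta_CH h⟩) ≤ (psiC θ).range :=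
    Subgroup.zpowers_le.2 ⟨_, rfl⟩
  rw [← Subgroup.relIndex_bot_left, ← Subgroup.relIndex_bot_left]
  exact Subgroup.relIndex_mul_relIndex _ _ _ bot_le hle

theorem card_range : Nat.card (chi h.B).range = h.N ∧ (chi h.B).ker = Pre h := by
  have : Finite Co0 := finite_Co0
  have hker : (chi h.B).ker.index = Nat.card (chi h.B).range := Subgroup.index_ker _
  have h1 := index_Pre_mul h
  have h2 := h.upper
  have h3 := h.lower
  have hpos : 0 < h.p := h.prime.pos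
  have hle : (Pre h).index ≤ h.N := Nat.le_of_mul_le_mul_left (by rw [mul_comm, h1]; exact h2) hpos
  have hmul := Subgroup.relIndex_mul_index (Pre_le h)
  have hi0 : (Pre h).index ≠ 0 := Subgroup.index_ne_zero_of_finite
  have hr1 : 1 ≤ (Pre h).relIndex (chi h.B).ker := Nat.one_le_iff_ne_zero.2 fun e => hi0 (by rw [← hmul, e, zero_mul])
  rw [hker] at hmul
  have hN : Nat.card (chi h.B).range = h.N := by nlinarith
  refine ⟨hN, le_antisymm ?_ (Pre_le h)⟩
  refine Subgroup.relIndex_eq_one.1 ?_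
  have : 0 < Nat.card (chi h.B).range := Nat.card_pos
  nlinarith

/-- The normal 2-subgroup. -/
noncomputable abbrev Q : Subgroup (CS h) := (chiS h).ker

/-- The fixer maps onto it. -/
noncomputable def toQ : Kth θ →* Q h :=
  ((fS h).comp (Subgroup.inclusion (fun (k : Co0) (hk : k ∈ Kth θ) => mem_CH.2 ⟨K_le_H (mem_Kth.1 hk).1, (mem_Kth.1 hk).2⟩))).codRestrict
    (Q h) fun k => by
      rw [MonoidHom.mem_ker, MonoidHom.comp_apply, chiS_fS]
      exact chi_Kth h k.2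

theorem toQ_bijective : Function.Bijective (toQ h) := by
  constructor
  · intro a b e
    have e' : fS h ⟨a.1, mem_CH.2 ⟨K_le_H a.2.1, (mem_Kth.1 a.2).2⟩⟩ =
        fS h ⟨b.1, mem_CH.2 ⟨K_le_H b.2.1, (mem_Kth.1 b.2).2⟩⟩ := congrArg Subtype.val e
    rw [← mul_inv_eq_one, ← map_inv, ← map_mul, fS_eq_one] at e'
    exact Subtype.ext (mul_inv_eq_one.1 (Bn_K h e' (K.mul_mem a.2.1 (K.inv_mem b.2.1))))
  · rintro ⟨c, hc⟩
    obtain ⟨g, rfl⟩ := fS_surjective h c
    rw [MonoidHom.mem_ker, chiS_fS] at hc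
    obtain ⟨u, k, hu, hk, e⟩ := Pre_split h ((card_range h).2 ▸ hc : g ∈ Pre h)
    refine ⟨⟨k, hk⟩, Subtype.ext ?_⟩
    show fS h ⟨k, _⟩ = fS h g
    rw [eq_comm, ← inv_mul_eq_one, ← map_inv, ← map_mul, fS_eq_one]
    show (g : Co0)⁻¹ * k ∈ Bn θ
    rw [e, mul_inv_rev, mul_assoc, inv_mul_cancel, mul_one]
    exact (Bn θ).inv_mem hu

theorem isExtraspecial_Q : Cfsg.IsExtraspecial 2 ↥(Q h) :=
  Cfsg.Agent.LargeExtra.isExtraspecial_of_equiv (isExtraspecial_Kth h.B h.i0)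
    (MulEquiv.ofBijective (toQ h) (toQ_bijective h))

theorem card_Q : Nat.card (Q h) = 2 ^ (Fintype.card ι + 1) := by
  rw [← Nat.card_congr (MulEquiv.ofBijective (toQ h) (toQ_bijective h)).toEquiv, card_Kth h.B]

/-- An element of the fixer, in the centraliser. -/
theorem Kth_CH {k : Co0} (hk : k ∈ Kth θ) : k ∈ CH θ := mem_CH.2 ⟨K_le_H hk.1, (mem_Kth.1 hk).2⟩

theorem centralizer_Q_le : Subgroup.centralizer (Q h : Set (CS h)) ≤ Q h := by
  intro c hc
  obtain ⟨g, rfl⟩ := fS_surjective h c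
  rw [MonoidHom.mem_ker, chiS_fS]
  refine chi_eq_one _ _ fun k hk => ?_
  have hcomm := Subgroup.mem_centralizer_iff.1 hc (toQ h ⟨k, hk⟩) (toQ h ⟨k, hk⟩).2
  have hgk : (g : Co0) * k * (g : Co0)⁻¹ ∈ Kth θ := conj_Kth g hk
  have e : toQ h ⟨_, hgk⟩ = toQ h ⟨k, hk⟩ := by
    refine Subtype.ext ?_
    show fS h ⟨_, _⟩ = fS h ⟨k, Kth_CH h hk⟩
    calc fS h ⟨(g : Co0) * k * (g : Co0)⁻¹, Kth_CH h hgk⟩ = fS h (g * ⟨k, Kth_CH h hk⟩ * g⁻¹) := rfl
      _ = fS h g * fS h ⟨k, Kth_CH h hk⟩ * (fS h g)⁻¹ := by rw [map_mul, map_mul, map_inv]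
      _ = _ := by
        rw [show fS h g * fS h ⟨k, Kth_CH h hk⟩ = fS h ⟨k, Kth_CH h hk⟩ * fS h g from hcomm.symm,
          mul_inv_cancel_right]
  rw [show (g : Co0) * k * (g : Co0)⁻¹ = k from congrArg Subtype.val ((toQ_bijective h).1 e)]

theorem orbit_closure (N : Subgroup (CS h)) (hN : N.Normal)
    (hk : fS h ⟨h.B.kv h.i0, Kth_CH h (kv_mem h.B _)⟩ ∈ N) : Q h ≤ N := by
  let T : Subgroup Co0 :=
    { carrier := {k | ∃ hk : k ∈ Kth θ, fS h ⟨k, Kth_CH h hk⟩ ∈ N}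
      one_mem' := ⟨one_mem _, by
        rw [show (⟨(1 : Co0), Kth_CH h (one_mem _)⟩ : CH θ) = 1 from rfl, map_one]; exact N.one_mem⟩
      mul_mem' := by
        rintro a b ⟨ha, a'⟩ ⟨hb, b'⟩
        refine ⟨mul_mem ha hb, ?_⟩
        rw [show (⟨a * b, Kth_CH h (mul_mem ha hb)⟩ : CH θ) = ⟨a, Kth_CH h ha⟩ * ⟨b, Kth_CH h hb⟩ from rfl,
          map_mul]
        exact N.mul_mem a' b'
      inv_mem' := by
        rintro a ⟨ha, a'⟩
        refine ⟨inv_mem ha, ?_⟩
        rw [show (⟨a⁻¹, Kth_CH h (inv_mem ha)⟩ : CH θ) = (⟨a, Kth_CH h ha⟩)⁻¹ from rfl, map_inv]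
        exact N.inv_mem a' }
  have hconj : ∀ (g : CH θ) k, k ∈ T → (g : Co0) * k * (g : Co0)⁻¹ ∈ T := by
    rintro g k ⟨hk, k'⟩
    refine ⟨conj_Kth g hk, ?_⟩
    rw [show (⟨(g : Co0) * k * (g : Co0)⁻¹, Kth_CH h (conj_Kth g hk)⟩ : CH θ) =
      g * ⟨k, Kth_CH h hk⟩ * g⁻¹ from rfl, map_mul, map_mul, map_inv]
    exact hN.conj_mem _ k' _
  have h0 : h.B.kv h.i0 ∈ T := ⟨kv_mem h.B _, hk⟩
  have hcz : cz (h.B.kv (h.B.partner h.i0)) (h.B.kv h.i0) = 1 := by
    have := congrFun (nu_kv h.B h.i0) h.i0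
    rw [Pi.single_eq_same] at this
    rw [cz_comm]
    exact this
  have hz : zK ∈ T := by
    have hk0 := h.B.mem h.i0
    have hkp := h.B.mem (h.B.partner h.i0)
    have e := comm_eq hkp hk0
    rw [hcz, show zpow2 1 = zK from if_neg one_ne_zero] at e
    have h1 := hconj ⟨_, Kth_CH h (kv_mem h.B (h.B.partner h.i0))⟩ _ h0
    have h2 := T.mul_mem (T.inv_mem h0) h1
    have e2 : (h.B.kv h.i0)⁻¹ * (h.B.kv (h.B.partner h.i0) * h.B.kv h.i0 * (h.B.kv (h.B.partner h.i0))⁻¹) = zK := by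
      rw [e]
      calc (h.B.kv h.i0)⁻¹ * (h.B.kv h.i0 * h.B.kv (h.B.partner h.i0) * zK * (h.B.kv (h.B.partner h.i0))⁻¹)
          = h.B.kv (h.B.partner h.i0) * zK * (h.B.kv (h.B.partner h.i0))⁻¹ := by group
        _ = zK := by rw [zK_central _ hkp, mul_inv_cancel_right]
    rw [e2] at h2
    exact h2
  have hall : ∀ j, ∃ a ∈ T, nu h.B a = Pi.single j 1 := by
    intro j
    let A : AddSubgroup (ι → ZMod 2) :=
      { carrier := {v | ∃ a ∈ T, nu h.B a = v}
        zero_mem' := ⟨1, one_mem _, nu_one h.B⟩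
        add_mem' := by
          rintro _ _ ⟨a, ha, rfl⟩ ⟨b, hb, rfl⟩
          exact ⟨a * b, mul_mem ha hb, nu_mul h.B ha.1.1 hb.1.1⟩
        neg_mem' := by
          rintro _ ⟨a, ha, rfl⟩
          exact ⟨a, ha, funext fun i => (CharTwo.neg_eq _).symm⟩ }
    refine (AddSubgroup.closure_le A).2 ?_ (h.orbit j)
    rintro v ⟨_, ⟨g, rfl⟩, rfl⟩
    refine ⟨_, hconj g _ h0, ?_⟩
    rw [← chi_nu h.B g (kv_mem h.B h.i0), nu_kv]
  have hT : T = Kth θ := by
    refine exists_gen h.B (fun _ hk => hk.1) hz fun j => ?_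
    obtain ⟨a, ha, e⟩ := hall j
    have h0 : nu h.B (a⁻¹ * h.B.kv j) = 0 := by
      rw [nu_mul h.B (K.inv_mem ha.1.1) (h.B.mem j), nu_inv h.B ha.1.1, e, nu_kv]
      funext i
      exact CharTwo.add_self_eq_zero _
    rcases nu_eq_zero h.B (mul_mem (inv_mem ha.1) (kv_mem h.B j)) h0 with e' | e'
    · rw [← inv_mul_eq_one.1 e']; exact ha
    · rw [show h.B.kv j = a * zK by rw [← e', mul_inv_cancel_left]]; exact T.mul_mem ha hz
  intro q hq
  obtain ⟨k, hk'⟩ := (toQ_bijective h).2 ⟨q, hq⟩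
  have := (SetLike.ext_iff.1 hT k.1).2 k.2
  obtain ⟨_, hkN⟩ := this
  rw [show q = fS h ⟨k.1, Kth_CH h k.2⟩ from (congrArg Subtype.val hk').symm]
  exact hkN

/-- The data for the simplicity criterion. -/
theorem data (hsimple : IsSimpleGroup (chi h.B).range) :
    Cfsg.Agent.LargeExtra.SimpleCrit.Data (zS h) (Q h) where
  order := orderOf_zS h
  ext := isExtraspecial_Q h
  normal := inferInstance
  cent := centralizer_Q_le h
  max N hN hQN := by
    let φ : CS h →* (chi h.B).range := (chiS h).codRestrict _ fun c => chiS_range h ▸ ⟨c, rfl⟩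
    have hsurj : Function.Surjective φ := fun A => by
      obtain ⟨c, hc⟩ : A.1 ∈ (chiS h).range := by rw [chiS_range]; exact A.2
      exact ⟨c, Subtype.ext hc⟩
    rcases (hN.map φ hsurj).eq_bot_or_eq_top with e | e
    · left
      refine le_antisymm (fun c hc => ?_) hQN
      have : φ c ∈ N.map φ := ⟨c, hc, rfl⟩
      rw [e, Subgroup.mem_bot] at this
      exact MonoidHom.mem_ker.2 (congrArg Subtype.val this)
    · right
      rw [Subgroup.eq_top_iff']
      intro c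
      obtain ⟨n, hn, e'⟩ : φ c ∈ N.map φ := by rw [e]; exact Subgroup.mem_top _
      have : n⁻¹ * c ∈ N := hQN (MonoidHom.mem_ker.2 (by
        rw [map_mul, map_inv, inv_mul_eq_one]
        exact congrArg Subtype.val e'))
      simpa using N.mul_mem hn this
  proper e := by
    have : Nontrivial (chi h.B).range := hsimple.toNontrivial
    obtain ⟨A, hA⟩ := exists_ne (1 : (chi h.B).range)
    obtain ⟨g, hg⟩ := A.2
    apply hA
    apply Subtype.ext
    rw [← hg, ← chiS_fS h g]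
    exact (MonoidHom.mem_ker.1 (show fS h g ∈ Q h by rw [e]; exact Subgroup.mem_top _))
  fuse := by
    obtain ⟨g, hgθ, hge⟩ := h.fus
    have hgC : g ∈ Csub θ := mem_Csub.2 hgθ
    set x : Csub θ := ⟨g, hgC⟩
    have hk := Kth_CH h (kv_mem h.B h.i0)
    have e : pr θ x * zS h * (pr θ x)⁻¹ = (fS h ⟨_, hk⟩ : S θ) := by
      rw [zS, ← map_inv, ← map_mul, ← map_mul]
      show _ = pr θ _
      rw [pr_eq_iff]
      show g * zK * g⁻¹ * (h.B.kv h.i0)⁻¹ ∈ Bn θ
      rw [zK_eq, ← mul_assoc g, negOne_comm g, mul_assoc negOne g eps, hge, mul_assoc negOne,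
        mul_inv_cancel_right, mul_assoc, mul_inv_cancel, mul_one]
      exact negOne_mem_Bn
    refine ⟨pr θ x, e ▸ (fS h ⟨_, hk⟩).2, ?_, ?_, ?_, ?_⟩
    · rw [show (⟨_, e ▸ (fS h ⟨_, hk⟩).2⟩ : CS h) = fS h ⟨_, hk⟩ from Subtype.ext e]
      exact (toQ h ⟨_, kv_mem h.B h.i0⟩).2
    · rw [e]
      intro e'
      have e2 : fS h ⟨_, hk⟩ = fS h ⟨zK, Kth_CH h (zK_mem_Kth h.B)⟩ := Subtype.ext e'
      have e3 : (⟨h.B.kv h.i0, kv_mem h.B h.i0⟩ : Kth θ) = ⟨zK, zK_mem_Kth h.B⟩ :=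
        (toQ_bijective h).1 (Subtype.ext e2)
      have := congrArg (fun k : Kth θ => nu h.B k.1 h.i0) e3
      simp [nu_kv, nu_zK] at this
    · intro N hN hmem
      refine orbit_closure h N hN ?_
      rwa [show (⟨_, e ▸ (fS h ⟨_, hk⟩).2⟩ : CS h) = fS h ⟨_, hk⟩ from Subtype.ext e] at hmem
    · have hne : ∀ j, j ≠ h.B.partner h.i0 → h.B.kv j * h.B.kv h.i0 = h.B.kv h.i0 * h.B.kv j := by
        intro j hj
        rw [h.B.gram]
        have hcoord := h.B.coord (Pi.single j 1) (h.B.partner h.i0)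
        rw [h.B.partner_partner, Pi.single_eq_of_ne (Ne.symm hj)] at hcoord
        rw [hcoord]
        simp [zpow2]
      refine ⟨fS h ⟨_, Kth_CH h (kv_mem h.B h.j0)⟩, (toQ h ⟨_, kv_mem h.B h.j0⟩).2,
        fS h ⟨_, Kth_CH h (kv_mem h.B (h.B.partner h.j0))⟩, (toQ h ⟨_, kv_mem h.B (h.B.partner h.j0)⟩).2, ?_, ?_, ?_⟩
      · rw [e, ← Subgroup.coe_mul, ← Subgroup.coe_mul, ← map_mul, ← map_mul]
        exact congrArg (fun c : CS h => (c : S θ)) (congrArg (fS h) (Subtype.ext (hne _ h.j0_ne.1)))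
      · rw [e, ← Subgroup.coe_mul, ← Subgroup.coe_mul, ← map_mul, ← map_mul]
        exact congrArg (fun c : CS h => (c : S θ)) (congrArg (fS h) (Subtype.ext (hne _ h.j0_ne.2)))
      · intro e'
        rw [← map_mul, ← map_mul] at e'
        have e2 := congrArg Subtype.val ((toQ_bijective h).1 (Subtype.ext e' :
          toQ h (⟨_, kv_mem h.B h.j0⟩ * ⟨_, kv_mem h.B (h.B.partner h.j0)⟩) =
          toQ h (⟨_, kv_mem h.B (h.B.partner h.j0)⟩ * ⟨_, kv_mem h.B h.j0⟩)))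
        have := congrFun (nu_kv h.B h.j0) h.j0
        rw [Pi.single_eq_same] at this
        have h0 : nu h.B (h.B.kv h.j0) h.j0 = 0 := if_pos e2
        rw [h0] at this
        exact zero_ne_one this

/-- The quotient by the 2-subgroup. -/
noncomputable def quotientEquiv : CS h ⧸ Q h ≃* (chi h.B).range :=
  (QuotientGroup.quotientKerEquivRange (chiS h)).trans (MulEquiv.subgroupCongr (chiS_range h))

theorem not_two_group (hsimple : IsSimpleGroup (chi h.B).range) (hodd : ∃ q, q.Prime ∧ q ≠ 2 ∧ q ∣ h.N) :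
    ¬ IsPGroup 2 (CS h) := by
  intro hp
  have : Finite Co0 := finite_Co0
  haveI := finite_S (θ := θ)
  obtain ⟨q, hq, hq2, hd⟩ := hodd
  have hp' : IsPGroup 2 (chi h.B).range := (hp.to_quotient (Q h)).of_equiv (quotientEquiv h)
  have : Fact (Nat.Prime 2) := ⟨Nat.prime_two⟩
  obtain ⟨n, hn⟩ := IsPGroup.iff_card.1 hp'
  rw [(card_range h).1] at hn
  rw [hn] at hd
  exact hq2 ((Nat.prime_dvd_prime_iff_eq hq Nat.prime_two).1 (hq.dvd_of_dvd_pow hd))

end Cfsg.Agent.OctadInv.Section
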